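/-
Tensor products of two reflexive forms: pure tensors, rows and contractions.
-/
import Cfsg.Agent.Lib.Classical.TensorMax.RankOne
import Cfsg.Agent.Lib.Classical.RadicalForm

set_option autoImplicit false
set_option linter.unusedSectionVars false

namespace Cfsg.Agent.Classical.TensorMax.Form

open Matrix Cfsg.Geo
open Cfsg.Agent.Classical
open scoped Kronecker

variable {α β : Type} [Fintype α] [DecidableEq α] [Fintype β] [DecidableEq β] {F : Type*} [Field F]

/-- A pure tensor. -/
def tm (a : α → F) (b : β → F) : α × β → F := fun p => a p.1 * b p.2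

theorem tm_apply (a : α → F) (b : β → F) (p : α × β) : tm a b p = a p.1 * b p.2 := rfl

theorem tm_add_left (a a' : α → F) (b : β → F) : tm (a + a') b = tm a b + tm a' b :=
  funext fun p => add_mul _ _ _

theorem tm_add_right (a : α → F) (b b' : β → F) : tm a (b + b') = tm a b + tm a b' :=
  funext fun p => mul_add _ _ _

theorem tm_sub_left (a a' : α → F) (b : β → F) : tm (a - a') b = tm a b - tm a' b :=
  funext fun p => sub_mul _ _ _

theorem tm_sub_right (a : α → F) (b b' : β → F) : tm a (b - b') = tm a b - tm a b' :=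
  funext fun p => mul_sub _ _ _

theorem tm_smul_left (c : F) (a : α → F) (b : β → F) : tm (c • a) b = c • tm a b :=
  funext fun p => mul_assoc _ _ _

theorem tm_smul_right (c : F) (a : α → F) (b : β → F) : tm a (c • b) = c • tm a b :=
  funext fun p => mul_left_comm _ _ _

@[simp] theorem tm_zero_left (b : β → F) : tm (0 : α → F) b = 0 := funext fun p => zero_mul _

@[simp] theorem tm_zero_right (a : α → F) : tm a (0 : β → F) = 0 := funext fun p => mul_zero _

theorem tm_eq_zero {a : α → F} {b : β → F} (h : tm a b = 0) : a = 0 ∨ b = 0 := by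
  by_contra hcon
  push Not at hcon
  obtain ⟨i, hi⟩ := Function.ne_iff.mp hcon.1
  obtain ⟨k, hk⟩ := Function.ne_iff.mp hcon.2
  exact mul_ne_zero hi hk (congrFun h (i, k))

theorem tm_ne_zero {a : α → F} {b : β → F} (ha : a ≠ 0) (hb : b ≠ 0) : tm a b ≠ 0 :=
  fun h => (tm_eq_zero h).elim ha hb

/-- Two representations of a non-zero pure tensor agree up to a scalar. -/
theorem tm_inj {a a' : α → F} {b b' : β → F} (h : tm a b = tm a' b') (ha : a ≠ 0) (hb : b ≠ 0) :
    ∃ c : F, c ≠ 0 ∧ a = c • a' ∧ b' = c • b := by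
  obtain ⟨i, hi⟩ := Function.ne_iff.mp ha
  obtain ⟨k, hk⟩ := Function.ne_iff.mp hb
  have he : ∀ i k, a i * b k = a' i * b' k := fun i k => congrFun h (i, k)
  have h1 : a' i * b' k ≠ 0 := by rw [← he]; exact mul_ne_zero hi hk
  refine ⟨b' k / b k, div_ne_zero (right_ne_zero_of_mul h1) hk, funext fun j => ?_, funext fun j => ?_⟩
  · rw [Pi.smul_apply, smul_eq_mul, div_mul_eq_mul_div, eq_div_iff hk, he j k, mul_comm]
  · rw [Pi.smul_apply, smul_eq_mul]
    refine mul_left_cancel₀ (left_ne_zero_of_mul h1) ?_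
    rw [← he i j, div_mul_eq_mul_div, mul_div, eq_div_iff hk]
    linear_combination (b j) * (he i k)

/-- The row with index `i`. -/
def row (x : α × β → F) (i : α) : β → F := fun k => x (i, k)

theorem row_tm (a : α → F) (b : β → F) (i : α) : row (tm a b) i = a i • b := rfl

theorem row_add (x y : α × β → F) (i : α) : row (x + y) i = row x i + row y i := rfl

theorem row_sub (x y : α × β → F) (i : α) : row (x - y) i = row x i - row y i := rfl

theorem row_smul (c : F) (x : α × β → F) (i : α) : row (c • x) i = c • row x i := rfl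

theorem sum_rows (x : α × β → F) : x = ∑ i, tm (Pi.single i 1) (row x i) := by
  funext p
  rw [Finset.sum_apply, Finset.sum_eq_single p.1 (fun j _ hj => by simp [tm_apply, Ne.symm hj]) (by simp)]
  simp [tm_apply, row]

/-- Linear maps agreeing on pure tensors are equal. -/
theorem ext_pure {M M' : Matrix (α × β) (α × β) F} (h : ∀ a b, M *ᵥ tm a b = M' *ᵥ tm a b) (x : α × β → F) :
    M *ᵥ x = M' *ᵥ x := by
  rw [sum_rows x, Matrix.mulVec_sum, Matrix.mulVec_sum]
  exact Finset.sum_congr rfl fun i _ => h _ _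

theorem kr_tm (a : GL α F) (b : GL β F) (v : α → F) (w : β → F) :
    (kr a b : Matrix (α × β) (α × β) F) *ᵥ tm v w =
      tm ((a : Matrix α α F) *ᵥ v) ((b : Matrix β β F) *ᵥ w) := by
  funext p
  rw [tm_apply, Matrix.mulVec, dotProduct, Fintype.sum_prod_type]
  simp only [kr_val, kroneckerMap_apply, tm_apply, Matrix.mulVec, dotProduct, Finset.sum_mul_sum]
  exact Finset.sum_congr rfl fun i _ => Finset.sum_congr rfl fun k _ => by ring

theorem kr_one_row (b : GL β F) (x : α × β → F) (i : α) :
    row ((kr (1 : GL α F) b : Matrix (α × β) (α × β) F) *ᵥ x) i = (b : Matrix β β F) *ᵥ row x i := by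
  funext k
  rw [row, Matrix.mulVec, dotProduct, Fintype.sum_prod_type,
    Finset.sum_eq_single i (fun j _ hj => by simp [kr_val, Matrix.one_apply_ne (Ne.symm hj)]) (by simp)]
  simp [kr_val, Matrix.mulVec, dotProduct, row]

/-- The tensor product of two forms. -/
def tf (σ : F ≃+* F) (fA : (α → F) → (α → F) → F) (fB : (β → F) → (β → F) → F) :
    (α × β → F) → (α × β → F) → F :=
  fun x y => formOfGram (σ : F → F) (gramMatrix fA ⊗ₖ gramMatrix fB) x y

/-- Contraction of the second factor against `w`. -/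
def ctr (fB : (β → F) → (β → F) → F) (w : β → F) (x : α × β → F) : α → F := fun i => fB (row x i) w

/-- The data: two reflexive forms for the same involution. -/
structure Data (σ : F ≃+* F) (εA εB : F) (fA : (α → F) → (α → F) → F) (fB : (β → F) → (β → F) → F) : Prop where
  hA : IsReflexForm σ εA fA
  hB : IsReflexForm σ εB fB

variable {σ : F ≃+* F} {εA εB : F} {fA : (α → F) → (α → F) → F} {fB : (β → F) → (β → F) → F}
  (D : Data σ εA εB fA fB)

include D

theorem ctr_add (w : β → F) (x y : α × β → F) : ctr fB w (x + y) = ctr fB w x + ctr fB w y :=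
  funext fun _ => D.hB.semi.add_left _ _ _

theorem ctr_smul (c : F) (w : β → F) (x : α × β → F) : ctr fB w (c • x) = c • ctr fB w x :=
  funext fun _ => D.hB.semi.smul_left _ _ _

theorem ctr_sub (w : β → F) (x y : α × β → F) : ctr fB w (x - y) = ctr fB w x - ctr fB w y := by
  rw [eq_sub_iff_add_eq, ← ctr_add D, sub_add_cancel]

theorem ctr_tm (w : β → F) (a : α → F) (b : β → F) : ctr fB w (tm a b) = fB b w • a :=
  funext fun i => (D.hB.semi.smul_left (a i) b w).trans (mul_comm _ _)

theorem ctr_add_vec (w w' : β → F) (x : α × β → F) : ctr fB (w + w') x = ctr fB w x + ctr fB w' x :=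
  funext fun _ => D.hB.semi.add_right _ _ _

theorem ctr_smul_vec (c : F) (w : β → F) (x : α × β → F) : ctr fB (c • w) x = σ c • ctr fB w x :=
  funext fun _ => D.hB.semi.smul_right _ _ _

theorem tf_semi : IsSemiForm σ (tf σ fA fB) where
  add_left x y v := by
    simp only [tf, formOfGram, Pi.add_apply, add_mul, Finset.sum_add_distrib]
  smul_left c x v := by
    simp only [tf, formOfGram, Pi.smul_apply, smul_eq_mul, Finset.mul_sum, mul_assoc]
  add_right v x y := by
    simp only [tf, formOfGram, Pi.add_apply, map_add, mul_add, Finset.sum_add_distrib]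
  smul_right c v x := by
    simp only [tf, formOfGram, Pi.smul_apply, smul_eq_mul, map_mul, Finset.mul_sum]
    exact Finset.sum_congr rfl fun a _ => Finset.sum_congr rfl fun b _ => by ring

/-- The form against a pure tensor. -/
theorem tf_tm_right (x : α × β → F) (a : α → F) (w : β → F) :
    tf σ fA fB x (tm a w) = fA (ctr fB w x) a := by
  rw [D.hA.apply_eq]
  simp only [dotProduct, Matrix.mulVec, Function.comp_apply, ctr, D.hB.apply_eq, row, tf, formOfGram,
    Fintype.sum_prod_type, kroneckerMap_apply, tm_apply, map_mul, Finset.mul_sum, Finset.sum_mul]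
  refine Finset.sum_congr rfl fun i _ => ?_
  rw [Finset.sum_comm]
  exact Finset.sum_congr rfl fun j _ => Finset.sum_congr rfl fun k _ => Finset.sum_congr rfl fun l _ => by ring

theorem tf_tm (a a' : α → F) (b b' : β → F) : tf σ fA fB (tm a b) (tm a' b') = fA a a' * fB b b' := by
  rw [tf_tm_right D, ctr_tm D, D.hA.semi.smul_left, mul_comm]

theorem tf_swap (x y : α × β → F) : tf σ fA fB y x = εA * εB * σ (tf σ fA fB x y) := by
  simp only [tf, formOfGram, map_sum, map_mul, Finset.mul_sum, D.hA.invol]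
  rw [Finset.sum_comm]
  refine Finset.sum_congr rfl fun p _ => Finset.sum_congr rfl fun r _ => ?_
  rw [kroneckerMap_apply, kroneckerMap_apply, D.hA.gram_swap p.1 r.1, D.hB.gram_swap p.2 r.2, map_mul]
  ring

theorem tf_nondeg : IsNondegenerateForm (tf σ fA fB) := by
  intro x hx
  obtain ⟨p, hp⟩ := Function.ne_iff.mp hx
  obtain ⟨w, hw⟩ := (D.hB.nondeg (row x p.1) (Function.ne_iff.mpr ⟨p.2, hp⟩)).2
  obtain ⟨a, ha⟩ := (D.hA.nondeg (ctr fB w x) (Function.ne_iff.mpr ⟨p.1, hw⟩)).2
  rw [← tf_tm_right D] at ha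
  refine ⟨⟨tm a w, fun h => ha ?_⟩, tm a w, ha⟩
  rw [tf_swap D (tm a w) x, h, map_zero, mul_zero]

theorem reflex : IsReflexForm σ (εA * εB) (tf σ fA fB) :=
  ⟨tf_semi D, tf_swap D, D.hA.invol, tf_nondeg D⟩

theorem tf_tm_left (a : α → F) (w : β → F) (x : α × β → F) :
    tf σ fA fB (tm a w) x = εA * εB * σ (fA (ctr fB w x) a) := by
  rw [tf_swap D x, tf_tm_right D]

/-- Contraction determined by pairing. -/
theorem ctr_eq {w : β → F} {x : α × β → F} {v : α → F} (h : ∀ a, tf σ fA fB x (tm a w) = fA v a) :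
    ctr fB w x = v := by
  by_contra hne
  obtain ⟨a, ha⟩ := (D.hA.nondeg _ (sub_ne_zero.mpr hne)).2
  apply ha
  rw [sub_eq_add_neg, D.hA.semi.add_left, D.hA.neg_left, ← tf_tm_right D, h, add_neg_cancel]

/-- A vector whose contractions against the orthogonal of `S` vanish lies in the fibre of `S`. -/
theorem rows_of_ctr {S : β → F} {x : α × β → F}
    (h : ∀ v', fB v' S = 0 → ctr fB v' x = 0) :
    ∃ u : α → F, ∀ i, row x i = u i • S := by
  by_cases hS : S = 0
  · refine ⟨0, fun i => ?_⟩
    rw [Pi.zero_apply, zero_smul]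
    by_contra hne
    obtain ⟨w, hw⟩ := (D.hB.nondeg _ hne).2
    exact hw (congrFun (h w (by rw [hS, D.hB.zero_right])) i)
  have key : ∀ i, row x i ∈ D.hB.perp (D.hB.perp (Submodule.span F {S})) := fun i w hw =>
    congrFun (h w (hw S (Submodule.mem_span_singleton_self S))) i
  rw [D.hB.perp_perp] at key
  choose u hu using fun i => Submodule.mem_span_singleton.mp (key i)
  exact ⟨u, fun i => (hu i).symm⟩

theorem eq_tm_of_ctr {S : β → F} {x : α × β → F} (h : ∀ v', fB v' S = 0 → ctr fB v' x = 0) :
    ∃ u : α → F, x = tm u S := by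
  obtain ⟨u, hu⟩ := rows_of_ctr D h
  exact ⟨u, funext fun p => congrFun (hu p.1) p.2⟩

end Cfsg.Agent.Classical.TensorMax.Form
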