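/-
Root elements and Siegel elements of the second factor, acting on the tensor product.
-/
import Cfsg.Agent.Lib.Classical.TensorMax.Form.Setup

set_option autoImplicit false
set_option linter.unusedSectionVars false

namespace Cfsg.Agent.Classical.TensorMax.Form

open Matrix Cfsg.Geo
open Cfsg.Agent.Classical
open scoped Kronecker

variable {α β : Type} [Fintype α] [DecidableEq α] [Fintype β] [DecidableEq β] {F : Type*} [Field F]
variable {σ : F ≃+* F} {εA εB : F} {fA : (α → F) → (α → F) → F} {fB : (β → F) → (β → F) → F}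

/-- The root element with centre `o` and parameter `c`. -/
def Rt (fB : (β → F) → (β → F) → F) (o : β → F) (c : F) (g : GL (α × β) F) : Prop :=
  ∀ x, (g : Matrix (α × β) (α × β) F) *ᵥ x = x + tm (c • ctr fB o x) o

/-- The Siegel element with centre `o`, parameter `w` and offset `c`. -/
def Uel (σ : F ≃+* F) (εB : F) (fB : (β → F) → (β → F) → F) (o w : β → F) (c : F) (g : GL (α × β) F) : Prop :=
  ∀ x, (g : Matrix (α × β) (α × β) F) *ᵥ x =
    x + tm (ctr fB o x) w + tm (c • ctr fB o x - σ εB • ctr fB w x) o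

/-- The assumptions on the group between the stabiliser and the ambient group. -/
structure Over (σ : F ≃+* F) (fA : (α → F) → (α → F) → F) (fB : (β → F) → (β → F) → F)
    (X : Subgroup (GL (α × β) F)) : Prop where
  iso : ∀ g ∈ X, ∀ x y, tf σ fA fB ((g : Matrix (α × β) (α × β) F) *ᵥ x) ((g : Matrix (α × β) (α × β) F) *ᵥ y) =
    tf σ fA fB x y
  small : ∀ t : GL β F, (t : Matrix β β F).det = 1 →
    (∀ u v, fB ((t : Matrix β β F) *ᵥ u) ((t : Matrix β β F) *ᵥ v) = fB u v) → kr (1 : GL α F) t ∈ X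
  rad : ∀ o : β → F, o ≠ 0 → fB o o = 0 → ∀ g ∈ X,
    (∀ a, (g : Matrix (α × β) (α × β) F) *ᵥ tm a o = tm a o) →
    (∀ a w, fB w o = 0 → ∃ a', (g : Matrix (α × β) (α × β) F) *ᵥ tm a w = tm a w + tm a' o) →
    g ∈ Kr α β F

/-- Witt index one, with a torus element attached to each pair of singular lines. -/
structure TorusCond (fB : (β → F) → (β → F) → F) : Prop where
  line : ∀ u v : β → F, u ≠ 0 → fB u u = 0 → fB v v = 0 → fB u v = 0 → v ∈ Submodule.span F {u}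
  tor : ∀ o o₂ : β → F, o ≠ 0 → fB o o = 0 → fB o₂ o₂ = 0 → o₂ ∉ Submodule.span F {o} →
    ∃ (t : GL β F) (l ν m : F), (t : Matrix β β F).det = 1 ∧
      (∀ u v, fB ((t : Matrix β β F) *ᵥ u) ((t : Matrix β β F) *ᵥ v) = fB u v) ∧
      (t : Matrix β β F) *ᵥ o = l • o ∧
      (∀ w, fB w o = 0 → ∃ r : F, (t : Matrix β β F) *ᵥ w = ν • w + r • o) ∧
      (t : Matrix β β F) *ᵥ o₂ = m • o₂ ∧
      ∀ v, (t : Matrix β β F) *ᵥ v = m • v → v ∈ Submodule.span F {o₂}

/-- What is needed of the second factor. -/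
structure Nice (σ : F ≃+* F) (εB : F) (fB : (β → F) → (β → F) → F) : Prop where
  skew : ∃ c : F, c ≠ 0 ∧ εB * c + σ c = 0
  halve : ∀ v, ∃ X, εB * X + σ X = fB v v
  mid : (∀ o o₂ : β → F, fB o o = 0 → fB o₂ o₂ = 0 → ∃ w, w ≠ 0 ∧ fB w w = 0 ∧ fB w o = 0 ∧ fB w o₂ = 0 ∧
    w ∉ Submodule.span F {o}) ∨ TorusCond fB
  move : ∀ u v : β → F, u ≠ 0 → fB u u = 0 → v ≠ 0 → fB v v = 0 → ∃ t : GL β F, (t : Matrix β β F).det = 1 ∧
    (∀ a b, fB ((t : Matrix β β F) *ᵥ a) ((t : Matrix β β F) *ᵥ b) = fB a b) ∧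
    ∃ l : F, l ≠ 0 ∧ (t : Matrix β β F) *ᵥ u = l • v
  spanned : Submodule.span F {v : β → F | fB v v = 0} = ⊤
  join : ∀ u v : β → F, fB u u = 0 → fB v v = 0 → ∃ k : F, k ≠ 0 ∧ fB (u + k • v) (u + k • v) = 0

theorem rt_unique {o : β → F} {c : F} {g h : GL (α × β) F} (hg : Rt fB o c g) (hh : Rt fB o c h) : g = h :=
  gl_ext_mulVec fun x => by rw [hg, hh]

variable (D : Data σ εA εB fA fB)

include D

theorem partner {o : β → F} (ho : o ≠ 0) : ∃ o', fB o' o = 1 := by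
  obtain ⟨x, hx⟩ := (D.hB.nondeg o ho).1
  exact ⟨(fB x o)⁻¹ • x, by rw [D.hB.semi.smul_left, inv_mul_cancel₀ hx]⟩

theorem ctr_surjective {o : β → F} (ho : o ≠ 0) (u : α → F) : ∃ x, ctr fB o x = u := by
  obtain ⟨o', ho'⟩ := partner D ho
  exact ⟨tm u o', by rw [ctr_tm D, ho', one_smul]⟩

theorem rt_fix {o : β → F} {c : F} (ho : o ≠ 0) (hc : c ≠ 0) {g : GL (α × β) F} (hg : Rt fB o c g)
    (x : α × β → F) : (g : Matrix (α × β) (α × β) F) *ᵥ x = x ↔ ctr fB o x = 0 := by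
  rw [hg, add_eq_left]
  refine ⟨fun h => ?_, fun h => by rw [h, smul_zero, tm_zero_left]⟩
  exact (smul_eq_zero.mp ((tm_eq_zero h).resolve_right ho)).resolve_left hc

theorem exists_uel {o w : β → F} {c : F} (hoo : fB o o = 0) (hwo : fB w o = 0)
    (hc : εB * c + σ c + fB w w = 0) :
    ∃ t : GL β F, (t : Matrix β β F).det = 1 ∧
      (∀ u v, fB ((t : Matrix β β F) *ᵥ u) ((t : Matrix β β F) *ᵥ v) = fB u v) ∧
      Uel σ εB fB o w c (kr (1 : GL α F) t) := by
  by_cases hb : Nonempty β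
  swap
  · refine ⟨1, by simp, fun u v => by simp, fun x => funext fun p => absurd ⟨p.2⟩ hb⟩
  obtain ⟨t, ht, hU, htx⟩ := Radical.exists_UF D.hB hoo hwo hc
  refine ⟨t, mem_specialLinear_iff.mp ht, Radical.UF_iso D.hB hoo hU, fun x => funext fun p => ?_⟩
  have e := congrFun (kr_one_row (α := α) t x p.1) p.2
  rw [htx] at e
  simp only [row, Pi.add_apply, Pi.smul_apply, smul_eq_mul] at e
  simp only [Pi.add_apply, Pi.sub_apply, Pi.smul_apply, smul_eq_mul, tm_apply]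
  simp only [show ∀ v i, ctr fB v x i = fB (row x i) v from fun _ _ => rfl]
  linear_combination e

theorem exists_rt {o : β → F} {c : F} (hoo : fB o o = 0) (hc : εB * c + σ c = 0) :
    ∃ t : GL β F, (t : Matrix β β F).det = 1 ∧
      (∀ u v, fB ((t : Matrix β β F) *ᵥ u) ((t : Matrix β β F) *ᵥ v) = fB u v) ∧
      Rt fB o c (kr (1 : GL α F) t) := by
  obtain ⟨t, ht, hiso, hU⟩ := exists_uel D (w := (0 : β → F)) hoo (D.hB.zero_left o) (c := c)
    (by rw [D.hB.zero_left, hc, add_zero])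
  refine ⟨t, ht, hiso, fun x => ?_⟩
  have h0 : ctr fB (0 : β → F) x = 0 := funext fun _ => D.hB.zero_right _
  rw [hU, tm_zero_right, add_zero, h0, smul_zero, sub_zero]

theorem uel_fix {o w : β → F} {c : F} (hoo : fB o o = 0) (hwo : fB w o = 0) {g : GL (α × β) F}
    (hg : Uel σ εB fB o w c g) (a : α → F) : (g : Matrix (α × β) (α × β) F) *ᵥ tm a o = tm a o := by
  rw [hg, ctr_tm D, ctr_tm D, hoo, D.hB.eq_zero_swap hwo]
  simp

theorem uel_mid {o w : β → F} {c : F} {g : GL (α × β) F} (hg : Uel σ εB fB o w c g) {v : β → F}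
    (hv : fB v o = 0) (a : α → F) :
    (g : Matrix (α × β) (α × β) F) *ᵥ tm a v = tm a v + tm (-(σ εB * fB v w) • a) o := by
  rw [hg, ctr_tm D, ctr_tm D, hv]
  simp [smul_smul, tm_smul_left]

variable {X : Subgroup (GL (α × β) F)}

theorem Over.rt_mem (H : Over σ fA fB X) {o : β → F} {c : F} (hoo : fB o o = 0) (hc : εB * c + σ c = 0)
    {g : GL (α × β) F} (hg : Rt fB o c g) : g ∈ X ∧ g ∈ Kr α β F := by
  obtain ⟨t, ht, hiso, hR⟩ := exists_rt (α := α) D hoo hc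
  rw [rt_unique hg hR]
  exact ⟨H.small t ht hiso, 1, t, rfl⟩

theorem Over.ctr_inv (H : Over σ fA fB X) {g : GL (α × β) F} (hg : g ∈ X) {w : β → F} {x : α × β → F} (a : α → F) :
    fA (ctr fB w (((g⁻¹ : GL (α × β) F) : Matrix (α × β) (α × β) F) *ᵥ x)) a =
      tf σ fA fB x ((g : Matrix (α × β) (α × β) F) *ᵥ tm a w) := by
  rw [← tf_tm_right D, ← H.iso g hg, gl_mulVec_inv_cancel]

end Cfsg.Agent.Classical.TensorMax.Form
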