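/-
Alternating forms on coordinate spaces: transvections move vectors and generate; the identity as a sum of plane maps.
-/
import Cfsg.Agent.Lib.Classical.TensorMax.Form.Elements

set_option autoImplicit false
set_option linter.unusedSectionVars false

namespace Cfsg.Agent.Classical.TensorMax.Form

open Matrix Module Cfsg.Geo
open Cfsg.Agent.Classical

variable {ι : Type} [Fintype ι] [DecidableEq ι] {F : Type*} [Field F] {f : (ι → F) → (ι → F) → F}

local notation:max g:max " ⬝ₘ " x:max => ((g : GL ι F) : Matrix ι ι F) *ᵥ x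

/-- A non-degenerate alternating form. -/
structure SForm (f : (ι → F) → (ι → F) → F) : Prop where
  refl : IsReflexForm (RingEquiv.refl F) (-1) f
  alt : ∀ v, f v v = 0

/-- The transvection with centre `v` and parameter `c`. -/
def STv (f : (ι → F) → (ι → F) → F) (t : GL ι F) (v : ι → F) (c : F) : Prop :=
  ∀ x, (t : Matrix ι ι F) *ᵥ x = x + (c * f x v) • v

/-- The group generated by the transvections. -/
def TGen (f : (ι → F) → (ι → F) → F) : Subgroup (GL ι F) := Subgroup.closure {t | ∃ v c, STv f t v c}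

variable (A : SForm f)

include A

theorem SForm.swap (u v : ι → F) : f v u = -f u v := by rw [A.refl.swap u v, neg_one_mul]; rfl

theorem SForm.smul_right (c : F) (u v : ι → F) : f u (c • v) = c * f u v := by
  rw [A.refl.semi.smul_right]; rfl

theorem SForm.sub_right (u v w : ι → F) : f u (v - w) = f u v - f u w := by
  rw [sub_eq_add_neg, A.refl.semi.add_right, ← neg_one_smul F w, A.smul_right, neg_one_mul, ← sub_eq_add_neg]

theorem SForm.sub_left (u v w : ι → F) : f (v - w) u = f v u - f w u := by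
  rw [sub_eq_add_neg, A.refl.semi.add_left, A.refl.neg_left, ← sub_eq_add_neg]

theorem SForm.expand (x y v : ι → F) (a b : F) : f (x + a • v) (y + b • v) = f x y + b * f x v + a * f v y := by
  rw [A.refl.semi.add_left, A.refl.semi.add_right, A.refl.semi.add_right, A.refl.semi.smul_left,
    A.refl.semi.smul_left, A.smul_right, A.smul_right, A.alt]
  ring

theorem exists_stv (v : ι → F) (c : F) :
    ∃ t : GL ι F, STv f t v c ∧ (t : Matrix ι ι F).det = 1 ∧ ∀ x y, f (t ⬝ₘ x) (t ⬝ₘ y) = f x y := by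
  by_cases hne : Nonempty ι
  swap
  · refine ⟨1, fun x => funext fun i => absurd ⟨i⟩ hne, by simp, fun x y => by simp⟩
  obtain ⟨t, ht, hU, htx⟩ := Radical.exists_UF A.refl (v := v) (y := 0) (c := c) (A.alt v) (A.refl.zero_left v)
    (by rw [A.refl.zero_left, RingEquiv.refl_apply]; ring)
  refine ⟨t, fun x => ?_, mem_specialLinear_iff.mp ht, Radical.UF_iso A.refl (A.alt v) hU⟩
  rw [htx, A.refl.zero_right, mul_zero, sub_zero, smul_zero, add_zero]

theorem tgen_iso {t : GL ι F} (ht : t ∈ TGen f) :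
    (t : Matrix ι ι F).det = 1 ∧ ∀ x y, f (t ⬝ₘ x) (t ⬝ₘ y) = f x y := by
  induction ht using Subgroup.closure_induction with
  | mem t ht =>
    obtain ⟨v, c, ht⟩ := ht
    obtain ⟨t', ht', h1, h2⟩ := exists_stv A v c
    rw [show t = t' from gl_ext_mulVec fun x => by rw [ht, ht']]
    exact ⟨h1, h2⟩
  | one => exact ⟨by simp, fun x y => by simp⟩
  | mul a b _ _ iha ihb =>
    exact ⟨by rw [Units.val_mul, Matrix.det_mul, iha.1, ihb.1, one_mul],
      fun x y => by rw [gl_mul_mulVec, gl_mul_mulVec, iha.2, ihb.2]⟩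
  | inv a _ iha =>
    refine ⟨?_, fun x y => by conv_rhs => rw [← gl_mulVec_inv_cancel a x, ← gl_mulVec_inv_cancel a y, iha.2]⟩
    have h := congrArg Matrix.det (Units.inv_mul a)
    rwa [Matrix.det_mul, Matrix.det_one, iha.1, mul_one] at h

/-- Two functionals given by vectors outside `W` are non-zero together on the orthogonal of `W`. -/
theorem exists_avoid {W : Submodule F (ι → F)} {u v : ι → F} (hu : u ∉ W) (hv : v ∉ W) :
    ∃ d ∈ A.refl.perp W, f u d ≠ 0 ∧ f v d ≠ 0 := by
  have key : ∀ {x}, x ∉ W → ∃ d ∈ A.refl.perp W, f x d ≠ 0 := by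
    intro x hx
    by_contra hcon
    push Not at hcon
    refine hx ?_
    rw [← A.refl.perp_perp W]
    exact hcon
  obtain ⟨d₁, hd₁, h₁⟩ := key hu
  obtain ⟨d₂, hd₂, h₂⟩ := key hv
  by_cases h : f v d₁ = 0
  · by_cases h' : f u d₂ = 0
    · refine ⟨d₁ + d₂, add_mem hd₁ hd₂, ?_, ?_⟩
      · rwa [A.refl.semi.add_right, h', add_zero]
      · rwa [A.refl.semi.add_right, h, zero_add]
    · exact ⟨d₂, hd₂, h', h₂⟩
  · exact ⟨d₁, hd₁, h₁, h⟩

/-- One transvection between non-orthogonal vectors with the same products with `W`. -/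
theorem exists_one {W : Submodule F (ι → F)} {u v : ι → F} (huv : f u v ≠ 0) (hW : ∀ o ∈ W, f o u = f o v) :
    ∃ z c, ∃ t, STv f t z c ∧ t ⬝ₘ u = v ∧ ∀ o ∈ W, t ⬝ₘ o = o := by
  obtain ⟨t, ht, -, -⟩ := exists_stv A (v - u) (f u v)⁻¹
  refine ⟨v - u, (f u v)⁻¹, t, ht, ?_, fun o ho => ?_⟩
  · rw [ht, A.sub_right, A.alt, sub_zero, inv_mul_cancel₀ huv, one_smul, add_sub_cancel]
  · rw [ht, A.sub_right, hW o ho, sub_self, mul_zero, zero_smul, add_zero]

/-- Transvections fixing `W` move a vector to another one with the same products. -/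
theorem tmove {W : Submodule F (ι → F)} {u v : ι → F} (hu : u ∉ W) (hv : v ∉ W) (hW : ∀ o ∈ W, f o u = f o v) :
    ∃ t ∈ TGen f, t ⬝ₘ u = v ∧ ∀ o ∈ W, t ⬝ₘ o = o := by
  by_cases huv : f u v = 0
  · obtain ⟨d, hd, hud, hvd⟩ := exists_avoid A hu hv
    have hod : ∀ o ∈ W, f o d = 0 := fun o ho => A.refl.eq_zero_swap (hd o ho)
    obtain ⟨z, c, t, ht, htu, htW⟩ := exists_one A (W := W) (u := u) (v := u + d)
      (by rwa [A.refl.semi.add_right, A.alt, zero_add]) fun o ho => by rw [A.refl.semi.add_right, hod o ho, add_zero]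
    obtain ⟨z', c', t', ht', htu', htW'⟩ := exists_one A (W := W) (u := u + d) (v := v)
      (by rwa [A.refl.semi.add_left, huv, zero_add, A.swap v d, neg_ne_zero])
      fun o ho => by rw [A.refl.semi.add_right, hod o ho, add_zero, hW o ho]
    exact ⟨t' * t, mul_mem (Subgroup.subset_closure ⟨z', c', ht'⟩) (Subgroup.subset_closure ⟨z, c, ht⟩),
      by rw [gl_mul_mulVec, htu, htu'], fun o ho => by rw [gl_mul_mulVec, htW o ho, htW' o ho]⟩
  · obtain ⟨z, c, t, ht, htu, htW⟩ := exists_one A (W := W) huv hW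
    exact ⟨t, Subgroup.subset_closure ⟨z, c, ht⟩, htu, htW⟩

/-- Exact transitivity on non-zero vectors. -/
theorem tmove_one {u v : ι → F} (hu : u ≠ 0) (hv : v ≠ 0) : ∃ t ∈ TGen f, t ⬝ₘ u = v := by
  obtain ⟨t, ht, h, -⟩ := tmove A (W := ⊥) (u := u) (v := v) (by simpa using hu) (by simpa using hv)
    fun o ho => by rw [(Submodule.mem_bot F).mp ho, A.refl.zero_left, A.refl.zero_left]
  exact ⟨t, ht, h⟩

/-- Exact transitivity on orthogonal independent pairs. -/
theorem tmove_pair {o z o' z' : ι → F} (ho : o ≠ 0) (ho' : o' ≠ 0) (hoz : f o z = 0) (hoz' : f o' z' = 0)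
    (hz : z ∉ Submodule.span F {o}) (hz' : z' ∉ Submodule.span F {o'}) :
    ∃ t ∈ TGen f, t ⬝ₘ o = o' ∧ t ⬝ₘ z = z' := by
  obtain ⟨t, ht, hto⟩ := tmove_one A ho ho'
  have htz : t ⬝ₘ z ∉ Submodule.span F {o'} := fun e => by
    obtain ⟨r, hr⟩ := Submodule.mem_span_singleton.mp e
    refine hz (Submodule.mem_span_singleton.mpr ⟨r, gl_mulVec_injective t ?_⟩)
    change t ⬝ₘ (r • o) = t ⬝ₘ z
    rw [Matrix.mulVec_smul, hto, hr]
  obtain ⟨s, hs, hsz, hso⟩ := tmove A (W := Submodule.span F {o'}) htz hz' fun x hx => by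
    obtain ⟨r, rfl⟩ := Submodule.mem_span_singleton.mp hx
    rw [A.refl.semi.smul_left, A.refl.semi.smul_left, hoz', show f o' (t ⬝ₘ z) = f o z by rw [← hto, (tgen_iso A ht).2],
      hoz]
  exact ⟨s * t, mul_mem hs ht, by rw [gl_mul_mulVec, hto, hso _ (Submodule.mem_span_singleton_self o')],
    by rw [gl_mul_mulVec, hsz]⟩

/-- The transvections generate the isometry group. -/
theorem tgen_top (g : GL ι F) (hg : ∀ x y, f (g ⬝ₘ x) (g ⬝ₘ y) = f x y) : g ∈ TGen f := by
  suffices key : ∀ (k : ℕ) (W : Submodule F (ι → F)) (g : GL ι F), Fintype.card ι ≤ finrank F W + k →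
      (∀ x y, f (g ⬝ₘ x) (g ⬝ₘ y) = f x y) → (∀ o ∈ W, g ⬝ₘ o = o) → g ∈ TGen f from
    key (Fintype.card ι) ⊥ g (Nat.le_add_left _ _) hg fun o ho => by
      rw [(Submodule.mem_bot F).mp ho, Matrix.mulVec_zero]
  intro k
  induction k with
  | zero =>
    intro W g hk _ hW
    have hW' : W = ⊤ := Submodule.eq_top_of_finrank_eq (le_antisymm (Submodule.finrank_le W) (by
      rw [finrank_fintype_fun_eq_card]; omega))
    rw [show g = 1 from gl_ext_mulVec fun x => by rw [hW x (hW' ▸ trivial), Units.val_one, Matrix.one_mulVec]]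
    exact one_mem _
  | succ k ih =>
    intro W g hk hg hW
    by_cases hWt : W = ⊤
    · exact ih W g (by rw [hWt, finrank_top, finrank_fintype_fun_eq_card]; omega) hg hW
    obtain ⟨u, -, hu⟩ := SetLike.exists_of_lt (lt_top_iff_ne_top.mpr hWt)
    have hgu : g ⬝ₘ u ∉ W := fun e => hu (by
      have := hW _ e
      rwa [gl_mulVec_injective g this] at e)
    obtain ⟨t, ht, htu, htW⟩ := tmove A hgu hu fun o ho => by
      conv_rhs => rw [← hg o u, hW o ho]
    have hlt : finrank F W < finrank F ↥(W ⊔ Submodule.span F {u}) :=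
      Submodule.finrank_lt_finrank_of_lt (lt_of_le_of_ne le_sup_left fun e => hu (by
        rw [e]; exact Submodule.mem_sup_right (Submodule.mem_span_singleton_self u)))
    have h := ih (W ⊔ Submodule.span F {u}) (t * g) (by omega)
      (fun x y => by rw [gl_mul_mulVec, gl_mul_mulVec, (tgen_iso A ht).2, hg]) fun x hx => by
        obtain ⟨o, ho, z, hz, rfl⟩ := Submodule.mem_sup.mp hx
        obtain ⟨r, rfl⟩ := Submodule.mem_span_singleton.mp hz
        rw [gl_mul_mulVec, Matrix.mulVec_add, Matrix.mulVec_smul, Matrix.mulVec_add, Matrix.mulVec_smul, hW o ho,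
          htW o ho, htu]
    have := mul_mem (inv_mem ht) h
    rwa [inv_mul_cancel_left] at this

/-- Multiples of the identity are sums of plane maps. -/
theorem exists_planes (k : F) : ∃ (a b : ι × ι → ι → F), ∀ c,
    ∑ p, (f (a p) c • b p - f (b p) c • a p) = k • c := by
  classical
  obtain ⟨G, hG⟩ : ∃ G, G = gramMatrix f := ⟨_, rfl⟩
  have hdet : IsUnit G.det := (Matrix.isUnit_iff_isUnit_det G).mp (hG ▸ A.refl.gram_isUnit)
  have happ : ∀ u v, f u v = u ⬝ᵥ (G *ᵥ v) := fun u v => by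
    rw [hG, A.refl.apply_eq]; rfl
  have hGt : Gᵀ = -G := by
    ext i j
    rw [Matrix.transpose_apply, Matrix.neg_apply, hG]
    exact A.swap _ _
  obtain ⟨B, hB⟩ : ∃ B, B = (k • G⁻¹)ᵀ := ⟨_, rfl⟩
  have hBskew : ∀ i j, B j i = -B i j := fun i j => by
    have e : (G⁻¹)ᵀ = -G⁻¹ := by
      rw [Matrix.transpose_nonsing_inv, hGt]
      exact Matrix.inv_eq_right_inv (by rw [Matrix.neg_mul, Matrix.mul_neg, neg_neg, Matrix.mul_nonsing_inv G hdet])
    rw [hB, Matrix.transpose_smul, e]
    have := congrFun (congrFun e j) i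
    simp only [Matrix.transpose_apply, Matrix.neg_apply] at this
    simp only [Matrix.smul_apply, Matrix.neg_apply, smul_eq_mul, this]
    ring
  have hBdiag : ∀ i, B i i = 0 := fun i => by
    have h := A.alt (G⁻¹ *ᵥ Pi.single i 1)
    rw [happ, Matrix.mulVec_mulVec, Matrix.mul_nonsing_inv G hdet, Matrix.one_mulVec, dotProduct_single, mul_one,
      Matrix.mulVec_single_one, Matrix.col_apply] at h
    rw [hB, Matrix.transpose_apply, Matrix.smul_apply, h, smul_zero]
  let e := Fintype.equivFin ι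
  let M : ι → ι → F := fun i j => if e i < e j then B i j else 0
  have hM : ∀ i j, M i j - M j i = B i j := fun i j => by
    rcases lt_trichotomy (e i) (e j) with h | h | h
    · simp [M, h, not_lt.mpr h.le]
    · rw [e.injective h, hBdiag, sub_self]
    · simp [M, h, not_lt.mpr h.le, hBskew j i]
  refine ⟨fun p => M p.1 p.2 • Pi.single p.1 1, fun p => Pi.single p.2 1, fun c => ?_⟩
  have hGc : ∀ i, f (Pi.single i 1) c = (G *ᵥ c) i := fun i => by rw [happ, single_one_dotProduct]
  funext l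
  simp only [A.refl.semi.smul_left, hGc, Finset.sum_apply, Pi.sub_apply, Pi.smul_apply, smul_eq_mul,
    Fintype.sum_prod_type, Pi.single_apply, mul_ite, mul_one, mul_zero, Finset.sum_sub_distrib, Finset.sum_ite_eq,
    Finset.mem_univ, if_true]
  rw [Finset.sum_comm (f := fun i j => if l = i then (G *ᵥ c) j * M i j else 0)]
  simp only [Finset.sum_ite_eq, Finset.mem_univ, if_true]
  rw [← Finset.sum_sub_distrib]
  have e1 : ∀ i, M i l * (G *ᵥ c) i - (G *ᵥ c) i * M l i = B i l * (G *ᵥ c) i := fun i => by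
    rw [← hM]; ring
  rw [Finset.sum_congr rfl fun i _ => e1 i, show k * c l = (k • c) l from rfl, show k • c = (k • G⁻¹) *ᵥ (G *ᵥ c) by
    rw [Matrix.smul_mulVec, Matrix.mulVec_mulVec, Matrix.nonsing_inv_mul G hdet, Matrix.one_mulVec]]
  refine Finset.sum_congr rfl fun i _ => ?_
  rw [hB, Matrix.transpose_apply]

end Cfsg.Agent.Classical.TensorMax.Form
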