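/-
An element stabilising one fibre stabilises the tensor decomposition.
-/
import Cfsg.Agent.Lib.Classical.TensorMax.Form.Elements

set_option autoImplicit false
set_option linter.unusedSectionVars false

namespace Cfsg.Agent.Classical.TensorMax.Form

open Matrix Cfsg.Geo
open Cfsg.Agent.Classical
open scoped Kronecker

variable {α β : Type} [Fintype α] [DecidableEq α] [Fintype β] [DecidableEq β] {F : Type*} [Field F]
variable {σ : F ≃+* F} {εA εB : F} {fA : (α → F) → (α → F) → F} {fB : (β → F) → (β → F) → F}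
variable {X : Subgroup (GL (α × β) F)}

local notation:max g:max " ⬝ₘ " x:max => ((g : GL (α × β) F) : Matrix (α × β) (α × β) F) *ᵥ x

/-- Roots moved into the stabiliser, fixing some fibre pointwise there, move fibres to fibres. -/
def RootImage (σ : F ≃+* F) (εB : F) (fB : (β → F) → (β → F) → F) (X : Subgroup (GL (α × β) F)) : Prop :=
  ∀ h ∈ X, ∀ (w : β → F) (c : F), w ≠ 0 → fB w w = 0 → c ≠ 0 → εB * c + σ c = 0 → ∀ z : GL (α × β) F,
    Rt fB w c z → h * z * h⁻¹ ∈ Kr α β F →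
    (∃ v : β → F, v ≠ 0 ∧ ∀ a : α → F, (h * z * h⁻¹) ⬝ₘ (tm a v) = tm a v) →
    ∃ S : β → F, S ≠ 0 ∧ fB S S = 0 ∧ ∀ a, ∃ a', h ⬝ₘ (tm a w) = tm a' S

/-- An element of the stabiliser fixing a fibre pointwise only acts on the second factor. -/
theorem kr_shift {g : GL (α × β) F} (hg : g ∈ Kr α β F) {o : β → F} (ho : o ≠ 0)
    (hfix : ∀ a, g ⬝ₘ (tm a o) = tm a o) : ∃ B : Matrix β β F, ∀ a v, g ⬝ₘ (tm a v) = tm a (B *ᵥ v) := by
  obtain ⟨a, b, rfl⟩ := hg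
  obtain ⟨k₀, hk₀⟩ := Function.ne_iff.mp ho
  obtain ⟨μ, hμ⟩ : ∃ μ : F, μ = ((b : Matrix β β F) *ᵥ o) k₀ / o k₀ := ⟨_, rfl⟩
  have e : ∀ v, μ • ((a : Matrix α α F) *ᵥ v) = v := fun v => funext fun i => by
    have h := congrFun ((kr_tm a b v o).symm.trans (hfix v)) (i, k₀)
    simp only [tm_apply] at h
    rw [Pi.smul_apply, smul_eq_mul, hμ, div_mul_eq_mul_div, div_eq_iff hk₀, ← h, mul_comm]
  refine ⟨μ⁻¹ • (b : Matrix β β F), fun v w => ?_⟩
  rcases eq_or_ne v 0 with hv | hv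
  · simp [hv]
  have hμ0 : μ ≠ 0 := fun h0 => hv (by rw [← e v, h0, zero_smul])
  rw [kr_tm, Matrix.smul_mulVec, tm_smul_right, ← tm_smul_left]
  conv_rhs => rw [← e v, smul_smul, inv_mul_cancel₀ hμ0, one_smul]

/-- The shift along the fibre is a multiple of the vector. -/
theorem tm_shift {a a' : α → F} {u o : β → F} (ho : o ≠ 0) (h : tm a u = tm a' o) {k₀ : β} (hk : o k₀ ≠ 0) :
    a' = (u k₀ / o k₀) • a := funext fun i => by
  have e := congrFun h (i, k₀)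
  simp only [tm_apply] at e
  rw [Pi.smul_apply, smul_eq_mul, div_mul_eq_mul_div, eq_div_iff hk, ← e, mul_comm]

variable (D : Data σ εA εB fA fB) (N : Nice σ εB fB) (H : Over σ fA fB X)
variable {h : GL (α × β) F} {o : β → F} {A : GL α F}

include D N H

section Stab

variable (hh : h ∈ X) (ho : o ≠ 0) (hoo : fB o o = 0)
  (hA : ∀ a : α → F, (h : Matrix (α × β) (α × β) F) *ᵥ tm a o = tm ((A : Matrix α α F) *ᵥ a) o)

include hh ho hoo hA

theorem ctr_o_inv (x : α × β → F) :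
    ctr fB o (h⁻¹ ⬝ₘ x) = formAdj σ fA (A : Matrix α α F) *ᵥ ctr fB o x :=
  ctr_eq D fun a => by
    rw [tf_tm_right D, H.ctr_inv D hh, hA, tf_tm_right D, ← D.hA.adj_spec']

theorem ctr_o_zero {x : α × β → F} (hx : ctr fB o x = 0) : ctr fB o (h⁻¹ ⬝ₘ x) = 0 := by
  rw [ctr_o_inv D N H hh ho hoo hA, hx, Matrix.mulVec_zero]

theorem inv_tm (a : α → F) : h⁻¹ ⬝ₘ (tm a o) = tm (((A⁻¹ : GL α F) : Matrix α α F) *ᵥ a) o := by
  have := hA (((A⁻¹ : GL α F) : Matrix α α F) *ᵥ a)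
  rw [gl_mulVec_inv_cancel] at this
  rw [← this, gl_inv_mulVec_cancel]

/-- The action on the fibre is a similitude. -/
theorem similar [Nonempty α] :
    ∃ μ : F, μ ≠ 0 ∧ σ μ = μ ∧ (A : Matrix α α F) * formAdj σ fA (A : Matrix α α F) = μ • 1 := by
  obtain ⟨c, hc0, hc⟩ := N.skew
  obtain ⟨t, ht, hiso, hR⟩ := exists_rt (α := α) D hoo hc
  obtain ⟨M, hM⟩ : ∃ M, M = (A : Matrix α α F) * formAdj σ fA (A : Matrix α α F) := ⟨_, rfl⟩
  obtain ⟨g, hg⟩ : ∃ g, g = h * kr 1 t * h⁻¹ := ⟨_, rfl⟩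
  have hgx : ∀ x, g ⬝ₘ x = x + tm (c • (M *ᵥ ctr fB o x)) o := fun x => by
    rw [hg, gl_mul_mulVec, gl_mul_mulVec, hR, Matrix.mulVec_add, gl_mulVec_inv_cancel, hA,
      ctr_o_inv D N H hh ho hoo hA, Matrix.mulVec_smul, Matrix.mulVec_mulVec, hM]
  have hgX : g ∈ X := hg ▸ mul_mem (mul_mem hh (H.small t ht hiso)) (inv_mem hh)
  have hfix : ∀ a, g ⬝ₘ (tm a o) = tm a o := fun a => by rw [hgx, ctr_tm D, hoo]; simp
  obtain ⟨B, hB⟩ := kr_shift (H.rad o ho hoo g hgX hfix fun a w hw => ⟨0, by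
    rw [hgx, ctr_tm D, hw]; simp⟩) ho hfix
  obtain ⟨o', ho'⟩ := partner D ho
  obtain ⟨k₀, hk₀⟩ := Function.ne_iff.mp ho
  obtain ⟨r, hr⟩ : ∃ r, r = (B *ᵥ o' - o') k₀ / o k₀ := ⟨_, rfl⟩
  have hMv : ∀ v, c • (M *ᵥ v) = r • v := fun v => hr ▸ tm_shift ho (by
    have := hgx (tm v o')
    rw [hB, ctr_tm D, ho', one_smul] at this
    rw [tm_sub_right, this, add_sub_cancel_left]) hk₀
  have hMe : M = (r / c) • 1 := by
    refine Matrix.toLin'.injective (LinearMap.ext fun v => ?_)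
    rw [Matrix.toLin'_apply, Matrix.toLin'_apply, Matrix.smul_mulVec, Matrix.one_mulVec, div_eq_inv_mul,
      ← smul_smul, ← hMv, smul_smul, inv_mul_cancel₀ hc0, one_smul]
  refine ⟨r / c, fun e => ?_, ?_, hM ▸ hMe⟩
  · obtain ⟨i⟩ := ‹Nonempty α›
    rw [e, zero_smul, hM] at hMe
    have h0 : formAdj σ fA (A : Matrix α α F) = 0 := by
      calc formAdj σ fA (A : Matrix α α F)
          = ((A⁻¹ : GL α F) : Matrix α α F) * ((A : Matrix α α F) * formAdj σ fA (A : Matrix α α F)) := by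
            rw [← Matrix.mul_assoc, ← Units.val_mul, inv_mul_cancel, Units.val_one, Matrix.one_mul]
        _ = 0 := by rw [hMe, Matrix.mul_zero]
    have h1 : (A : Matrix α α F) = 0 := by rw [← D.hA.adj_adj (A : Matrix α α F), h0, D.hA.adj_zero]
    have h2 := congrFun (congrFun A.mul_inv i) i
    rw [h1, Matrix.zero_mul, Matrix.zero_apply, Matrix.one_apply_eq] at h2
    exact zero_ne_one h2
  · have e := congrArg (formAdj σ fA) hMe
    rw [D.hA.adj_scalar, hM, D.hA.adj_mul, D.hA.adj_adj, ← hM, hMe] at e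
    obtain ⟨i⟩ := ‹Nonempty α›
    have := congrFun (congrFun e i) i
    simpa using this.symm

theorem sim_form [Nonempty α] :
    ∃ μ : F, μ ≠ 0 ∧ σ μ = μ ∧ (∀ v, (A : Matrix α α F) *ᵥ (formAdj σ fA (A : Matrix α α F) *ᵥ v) = μ • v) ∧
      ∀ a a', fA ((A : Matrix α α F) *ᵥ a) ((A : Matrix α α F) *ᵥ a') = μ * fA a a' := by
  obtain ⟨μ, hμ0, hμ, e⟩ := similar D N H hh ho hoo hA
  have h1 : ∀ v, (A : Matrix α α F) *ᵥ (formAdj σ fA (A : Matrix α α F) *ᵥ v) = μ • v := fun v => by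
    rw [Matrix.mulVec_mulVec, e, Matrix.smul_mulVec, Matrix.one_mulVec]
  refine ⟨μ, hμ0, hμ, h1, fun a a' => ?_⟩
  rw [D.hA.adj_spec]
  have : formAdj σ fA (A : Matrix α α F) *ᵥ ((A : Matrix α α F) *ᵥ a') = μ • a' := by
    refine gl_mulVec_injective A ?_
    change (A : Matrix α α F) *ᵥ _ = (A : Matrix α α F) *ᵥ _
    rw [h1, Matrix.mulVec_smul]
  rw [this, D.hA.semi.smul_right, hμ]

/-- The image of a further fibre lies in a plane. -/
theorem plane [Nonempty α] {w : β → F} (hwo : fB w o = 0) :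
    ∃ S, fB S o = 0 ∧ ∀ a, ∃ a', h ⬝ₘ (tm a w) = tm ((A : Matrix α α F) *ᵥ a) S + tm a' o := by
  obtain ⟨μ, hμ0, hμ, hAA, hAf⟩ := sim_form D N H hh ho hoo hA
  obtain ⟨k₀, hk₀⟩ := Function.ne_iff.mp ho
  obtain ⟨X', hX'⟩ := N.halve w
  obtain ⟨t, ht, hiso, hU⟩ := exists_uel (α := α) D hoo hwo (c := -X') (by rw [map_neg]; linear_combination -hX')
  obtain ⟨g, hg⟩ : ∃ g, g = h * kr 1 t * h⁻¹ := ⟨_, rfl⟩
  have hfix : ∀ a, g ⬝ₘ (tm a o) = tm a o := fun a => by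
    rw [hg, gl_mul_mulVec, gl_mul_mulVec, inv_tm D N H hh ho hoo hA, uel_fix D hoo hwo hU, hA, gl_mulVec_inv_cancel]
  have hmid : ∀ x, ctr fB o x = 0 → g ⬝ₘ x =
      x + tm (-σ εB • ((A : Matrix α α F) *ᵥ ctr fB w (h⁻¹ ⬝ₘ x))) o := fun x hx => by
    rw [hg, gl_mul_mulVec, gl_mul_mulVec, hU, ctr_o_zero D N H hh ho hoo hA hx, tm_zero_left, add_zero, smul_zero,
      zero_sub, Matrix.mulVec_add, gl_mulVec_inv_cancel, hA, Matrix.mulVec_neg, Matrix.mulVec_smul, neg_smul]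
  have hperp : ∀ (v : α → F) {v' : β → F}, fB v' o = 0 → ctr fB o (tm v v') = 0 := fun v v' hv' => by
    rw [ctr_tm D, hv', zero_smul]
  obtain ⟨B, hB⟩ := kr_shift (H.rad o ho hoo g (hg ▸ mul_mem (mul_mem hh (H.small t ht hiso)) (inv_mem hh)) hfix
    fun a v hv => ⟨_, hmid _ (hperp a hv)⟩) ho hfix
  -- contraction of the image is proportional to the image of the vector
  obtain ⟨K, hK⟩ : ∃ K : (β → F) → F, ∀ v', fB v' o = 0 → ∀ a,
      ctr fB v' (h ⬝ₘ (tm a w)) = K v' • ((A : Matrix α α F) *ᵥ a) := by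
    refine ⟨fun v' => εB * σ (-εB * ((B *ᵥ v' - v') k₀ / o k₀)) / μ, fun v' hv' a => ctr_eq D fun v => ?_⟩
    obtain ⟨k, hk⟩ : ∃ k, k = (B *ᵥ v' - v') k₀ / o k₀ := ⟨_, rfl⟩
    have e : -σ εB • ((A : Matrix α α F) *ᵥ ctr fB w (h⁻¹ ⬝ₘ (tm v v'))) = k • v := hk ▸ tm_shift ho (by
      have := hmid _ (hperp v hv')
      rw [hB] at this
      rw [tm_sub_right, this, add_sub_cancel_left]) hk₀
    have e2 : (A : Matrix α α F) *ᵥ ctr fB w (h⁻¹ ⬝ₘ (tm v v')) = (-εB * k) • v := by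
      haveI : Nonempty β := ⟨k₀⟩
      rw [← smul_smul, ← e, smul_smul, neg_mul_neg, D.hB.eps_mul, one_smul]
    beta_reduce
    rw [← hk, ← H.iso h⁻¹ (inv_mem hh), gl_inv_mulVec_cancel, tf_tm_left D, D.hA.semi.smul_left]
    have e3 : fA v ((A : Matrix α α F) *ᵥ a) * (-εB * k) = μ * fA (ctr fB w (h⁻¹ ⬝ₘ (tm v v'))) a := by
      rw [← hAf, e2, D.hA.semi.smul_left, mul_comm]
    rw [D.hA.swap v ((A : Matrix α α F) *ᵥ a), div_mul_eq_mul_div, eq_div_iff hμ0,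
      mul_left_comm (εB * σ (-εB * k)), mul_assoc εB, ← map_mul σ, mul_comm (-εB * k), e3, map_mul, hμ]
    ring
  haveI : DecidableEq F := Classical.decEq F
  obtain ⟨a₀, i₀, hi₀⟩ : ∃ a₀ i₀, ((A : Matrix α α F) *ᵥ a₀) i₀ ≠ 0 := by
    obtain ⟨i⟩ := ‹Nonempty α›
    refine ⟨((A⁻¹ : GL α F) : Matrix α α F) *ᵥ Pi.single i 1, i, ?_⟩
    rw [gl_mulVec_inv_cancel]
    simp
  have hY0 : ∀ a, ctr fB o (h ⬝ₘ (tm a w)) = 0 := fun a => by
    have h1 := ctr_o_inv D N H hh ho hoo hA (h ⬝ₘ (tm a w))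
    rw [gl_inv_mulVec_cancel, ctr_tm D, hwo, zero_smul] at h1
    have h2 := congrArg ((A : Matrix α α F) *ᵥ ·) h1.symm
    simp only [hAA, Matrix.mulVec_zero] at h2
    exact (smul_eq_zero.mp h2).resolve_left hμ0
  refine ⟨(((A : Matrix α α F) *ᵥ a₀) i₀)⁻¹ • row (h ⬝ₘ (tm a₀ w)) i₀, ?_, fun a => ?_⟩
  · rw [D.hB.semi.smul_left, show fB (row (h ⬝ₘ (tm a₀ w)) i₀) o = 0 from congrFun (hY0 a₀) i₀, mul_zero]
  · obtain ⟨S, hS⟩ : ∃ S, S = (((A : Matrix α α F) *ᵥ a₀) i₀)⁻¹ • row (h ⬝ₘ (tm a₀ w)) i₀ := ⟨_, rfl⟩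
    have hSv : ∀ v', fB v' o = 0 → fB S v' = K v' := fun v' hv' => by
      rw [hS, D.hB.semi.smul_left, show fB (row (h ⬝ₘ (tm a₀ w)) i₀) v' = _ from congrFun (hK v' hv' a₀) i₀,
        Pi.smul_apply, smul_eq_mul, mul_left_comm, inv_mul_cancel₀ hi₀, mul_one]
    obtain ⟨u, hu⟩ := eq_tm_of_ctr D (S := o) (x := h ⬝ₘ (tm a w) - tm ((A : Matrix α α F) *ᵥ a) S) fun v' hv' => by
      rw [ctr_sub D, ctr_tm D, hK v' hv', hSv v' hv', sub_self]
    exact ⟨u, by rw [← hS, ← hu]; abel⟩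

/-- A further fibre goes to a fibre. -/
theorem image [Nonempty α] (RI : RootImage σ εB fB X) {w : β → F} (hw0 : w ≠ 0) (hww : fB w w = 0)
    (hwo : fB w o = 0) (hwn : w ∉ Submodule.span F {o}) :
    ∃ S, S ≠ 0 ∧ fB S S = 0 ∧ ∀ a, ∃ a', h ⬝ₘ (tm a w) = tm a' S := by
  obtain ⟨μ, hμ0, hμ, hAA, hAf⟩ := sim_form D N H hh ho hoo hA
  obtain ⟨S, hSo, hS⟩ := plane D N H hh ho hoo hA hwo
  have hoS := D.hB.eq_zero_swap hSo
  obtain ⟨c, hc0, hc⟩ := N.skew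
  obtain ⟨t, ht, hiso, hR⟩ := exists_rt (α := α) D hww hc
  have hSS : fB S S = 0 := by
    obtain ⟨i⟩ := ‹Nonempty α›
    have hi : (Pi.single i (1 : F) : α → F) ≠ 0 := by simp
    obtain ⟨a, ha⟩ := (D.hA.nondeg _ hi).2
    obtain ⟨u, hu⟩ := hS (Pi.single i 1)
    obtain ⟨u', hu'⟩ := hS a
    have e := H.iso h hh (tm (Pi.single i 1) w) (tm a w)
    rw [hu, hu', tf_tm D, hww, mul_zero, (tf_semi D).add_left, (tf_semi D).add_right, (tf_semi D).add_right,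
      tf_tm D, tf_tm D, tf_tm D, tf_tm D, hoo, hSo, hoS, hAf] at e
    simp only [mul_zero, add_zero] at e
    exact (mul_eq_zero.mp e).resolve_left (mul_ne_zero hμ0 ha)
  have hcμ : εB * (c * μ) + σ (c * μ) = 0 := by rw [map_mul, hμ]; linear_combination μ * hc
  obtain ⟨t', ht', hiso', hR'⟩ := exists_rt (α := α) D hSS hcμ
  have hfix' : ∀ a, (kr (1 : GL α F) t') ⬝ₘ (tm a o) = tm a o := fun a => by rw [hR', ctr_tm D, hoS]; simp
  have hinvfix : ∀ a, (kr (1 : GL α F) t')⁻¹ ⬝ₘ (tm a o) = tm a o := fun a => by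
    conv_lhs => rw [← hfix' a, gl_inv_mulVec_cancel]
  obtain ⟨z, hz⟩ : ∃ z, z = h * kr 1 t * h⁻¹ := ⟨_, rfl⟩
  have hzX : z ∈ X := hz ▸ mul_mem (mul_mem hh (H.small t ht hiso)) (inv_mem hh)
  obtain ⟨g, hg⟩ : ∃ g, g = (kr (1 : GL α F) t')⁻¹ * z := ⟨_, rfl⟩
  have hzfix : ∀ a, z ⬝ₘ (tm a o) = tm a o := fun a => by
    rw [hz, gl_mul_mulVec, gl_mul_mulVec, inv_tm D N H hh ho hoo hA, hR, ctr_tm D, D.hB.eq_zero_swap hwo,
      zero_smul, smul_zero, tm_zero_left, add_zero, hA, gl_mulVec_inv_cancel]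
  have hgK : g ∈ Kr α β F := by
    refine H.rad o ho hoo g (hg ▸ mul_mem (inv_mem (H.small t' ht' hiso')) hzX)
      (fun a => by rw [hg, gl_mul_mulVec, hzfix, hinvfix]) fun a v hv => ?_
    have hx : ctr fB o (tm a v) = 0 := by rw [ctr_tm D, hv, zero_smul]
    obtain ⟨x, hxe⟩ : ∃ x, x = tm a v := ⟨_, rfl⟩
    rw [← hxe] at hx ⊢
    obtain ⟨u, hu⟩ := hS (c • ctr fB w (h⁻¹ ⬝ₘ x))
    have e : (A : Matrix α α F) *ᵥ ctr fB w (h⁻¹ ⬝ₘ x) = μ • ctr fB S x := by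
      have e1 : formAdj σ fA (A : Matrix α α F) *ᵥ ctr fB S x = ctr fB w (h⁻¹ ⬝ₘ x) := by
        refine (ctr_eq D fun a' => ?_).symm
        obtain ⟨u', hu'⟩ := hS a'
        rw [tf_tm_right D, H.ctr_inv D hh, hu', (tf_semi D).add_right, tf_tm_right D, tf_tm_right D, hx,
          D.hA.zero_left, add_zero, D.hA.adj_spec']
      rw [← e1, hAA]
    refine ⟨u, ?_⟩
    have hzx : z ⬝ₘ x = (kr (1 : GL α F) t') ⬝ₘ (x + tm u o) := by
      rw [hz, gl_mul_mulVec, gl_mul_mulVec, hR, Matrix.mulVec_add, gl_mulVec_inv_cancel, hu, Matrix.mulVec_smul, e,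
        Matrix.mulVec_add, hfix', hR', smul_smul]
      abel
    rw [hg, gl_mul_mulVec, hzx, gl_inv_mulVec_cancel]
  refine RI h hh w c hw0 hww hc0 hc _ hR (hz ▸ ?_) ⟨o, ho, fun a => hz ▸ hzfix a⟩
  have := mul_mem (show kr (1 : GL α F) t' ∈ Kr α β F from ⟨1, t', rfl⟩) hgK
  rwa [hg, mul_inv_cancel_left] at this

end Stab

/-- The map induced on a fixed fibre. -/
theorem exists_fibre_map {h : GL (α × β) F} {w w' : β → F} (hw : w ≠ 0) (hw' : w' ≠ 0)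
    (hf : ∀ a, ∃ a', h ⬝ₘ (tm a w) = tm a' w') :
    ∃ A : GL α F, ∀ a, h ⬝ₘ (tm a w) = tm ((A : Matrix α α F) *ᵥ a) w' := by
  obtain ⟨k, hk⟩ := Function.ne_iff.mp hw'
  let L : (α → F) →ₗ[F] (α → F) :=
    { toFun := fun a i => (h ⬝ₘ (tm a w)) (i, k) / w' k
      map_add' := fun a b => funext fun i => by simp [tm_add_left, Matrix.mulVec_add, add_div]
      map_smul' := fun r a => funext fun i => by simp [tm_smul_left, Matrix.mulVec_smul, mul_div_assoc] }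
  have hL : ∀ a, h ⬝ₘ (tm a w) = tm (L a) w' := fun a => by
    obtain ⟨a', ha'⟩ := hf a
    rw [ha']
    refine congrArg (fun v => tm v w') (funext fun i => ?_)
    change _ = (h ⬝ₘ (tm a w)) (i, k) / w' k
    rw [ha', tm_apply, mul_div_cancel_right₀ _ hk]
  have hM : ∀ v, LinearMap.toMatrix' L *ᵥ v = L v := fun v => by rw [← Matrix.toLin'_apply, Matrix.toLin'_toMatrix']
  have hu : IsUnit (LinearMap.toMatrix' L) := Matrix.mulVec_injective_iff_isUnit.mp fun a b e => by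
    simp only [hM] at e
    have := gl_mulVec_injective h (show h ⬝ₘ (tm a w) = h ⬝ₘ (tm b w) by rw [hL, hL, e])
    refine sub_eq_zero.mp ((tm_eq_zero (b := w) ?_).resolve_right hw)
    rw [tm_sub_left, this, sub_self]
  exact ⟨hu.unit, fun a => by rw [hL, IsUnit.unit_spec, hM]⟩

/-- An element acting on the second factor only acts on each row. -/
theorem row_of_right {g : GL (α × β) F} {B : Matrix β β F} (hB : ∀ a v, g ⬝ₘ (tm a v) = tm a (B *ᵥ v))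
    (x : α × β → F) (i : α) : row (g ⬝ₘ x) i = B *ᵥ row x i := by
  conv_lhs => rw [sum_rows x, Matrix.mulVec_sum]
  simp only [hB]
  funext k
  simp [row, Finset.sum_apply, tm_apply, Pi.single_apply]

/-- With Witt index one, a second singular fibre is an eigenspace of a conjugated torus element. -/
theorem torus_fibre [Nonempty α] (T : TorusCond fB) (hh : h ∈ X) (ho : o ≠ 0) (hoo : fB o o = 0)
    (hA : ∀ a, h ⬝ₘ (tm a o) = tm ((A : Matrix α α F) *ᵥ a) o) {o₂ : β → F} (ho₂ : o₂ ≠ 0) (hoo₂ : fB o₂ o₂ = 0) :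
    ∃ S, S ≠ 0 ∧ fB S S = 0 ∧ ∀ a, ∃ a', h ⬝ₘ (tm a o₂) = tm a' S := by
  by_cases hmem : o₂ ∈ Submodule.span F {o}
  · obtain ⟨r, rfl⟩ := Submodule.mem_span_singleton.mp hmem
    exact ⟨o, ho, hoo, fun a => ⟨(A : Matrix α α F) *ᵥ (r • a), by
      rw [← hA, tm_smul_right, ← tm_smul_left]⟩⟩
  obtain ⟨t, l, ν, m, ht, hiso, hto, htw, hto₂, hker⟩ := T.tor o o₂ ho hoo hoo₂ hmem
  have hl : l ≠ 0 := fun e => ho (gl_mulVec_injective t (by
    change (t : Matrix β β F) *ᵥ o = (t : Matrix β β F) *ᵥ 0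
    rw [hto, e, zero_smul, Matrix.mulVec_zero]))
  obtain ⟨n, hn⟩ : ∃ n, n = kr (1 : GL α F) t := ⟨_, rfl⟩
  have hnX : n ∈ X := hn ▸ H.small t ht hiso
  have hnt : ∀ a v, n ⬝ₘ (tm a v) = tm a ((t : Matrix β β F) *ᵥ v) := fun a v => by rw [hn, kr_tm]; simp
  have hno : ∀ a, n ⬝ₘ (tm a o) = l • tm a o := fun a => by rw [hnt, hto, tm_smul_right]
  obtain ⟨g, hg⟩ : ∃ g, g = n⁻¹ * (h * n * h⁻¹) := ⟨_, rfl⟩
  have hgX : g ∈ X := hg ▸ mul_mem (inv_mem hnX) (mul_mem (mul_mem hh hnX) (inv_mem hh))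
  have hngx : ∀ x, n ⬝ₘ (g ⬝ₘ x) = h ⬝ₘ (n ⬝ₘ (h⁻¹ ⬝ₘ x)) := fun x => by
    rw [hg, gl_mul_mulVec, gl_mulVec_inv_cancel, gl_mul_mulVec, gl_mul_mulVec]
  have hfix : ∀ a, g ⬝ₘ (tm a o) = tm a o := fun a => gl_mulVec_injective n (by
    change n ⬝ₘ _ = n ⬝ₘ _
    rw [hngx, inv_tm D N H hh ho hoo hA, hno, Matrix.mulVec_smul, hA, gl_mulVec_inv_cancel, hno])
  have hmid : ∀ a w, fB w o = 0 → ∃ a', g ⬝ₘ (tm a w) = tm a w + tm a' o := by
    intro a w hw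
    obtain ⟨x, hx⟩ : ∃ x, x = h⁻¹ ⬝ₘ (tm a w) := ⟨_, rfl⟩
    have hxo : ctr fB o x = 0 := hx ▸ ctr_o_zero D N H hh ho hoo hA (by rw [ctr_tm D, hw, zero_smul])
    choose r hr using fun i => htw (row x i) (congrFun hxo i)
    have e1 : n ⬝ₘ x = ν • x + tm r o := funext fun p => by
      have := congrFun (hr p.1) p.2
      rw [← kr_one_row (α := α) t x p.1, ← hn] at this
      exact this
    obtain ⟨r₀, hr₀⟩ := htw w hw
    refine ⟨l⁻¹ • ((A : Matrix α α F) *ᵥ r - r₀ • a), gl_mulVec_injective n ?_⟩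
    change n ⬝ₘ _ = n ⬝ₘ _
    rw [hngx, ← hx, e1, Matrix.mulVec_add, Matrix.mulVec_smul, hA, hx, gl_mulVec_inv_cancel, Matrix.mulVec_add,
      hno, hnt, hr₀, tm_smul_left, smul_smul, mul_inv_cancel₀ hl, one_smul, tm_add_right, tm_smul_right,
      tm_smul_right, tm_sub_left, tm_smul_left]
    abel
  obtain ⟨B, hB⟩ := kr_shift (H.rad o ho hoo g hgX hfix hmid) ho hfix
  obtain ⟨C, hC⟩ : ∃ C, C = (t : Matrix β β F) * B := ⟨_, rfl⟩
  have hK : ∀ a v, (h * n * h⁻¹) ⬝ₘ (tm a v) = tm a (C *ᵥ v) := fun a v => by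
    rw [show h * n * h⁻¹ = n * g by rw [hg, mul_inv_cancel_left], gl_mul_mulVec, hB, hnt, hC, Matrix.mulVec_mulVec]
  -- the eigenvectors come from the fibre of `o₂`
  have hpre : ∀ a v, C *ᵥ v = m • v → ∃ c, tm a v = h ⬝ₘ (tm c o₂) := by
    intro a v hv
    obtain ⟨x, hx⟩ : ∃ x, x = h⁻¹ ⬝ₘ (tm a v) := ⟨_, rfl⟩
    have e : n ⬝ₘ x = m • x := gl_mulVec_injective h (by
      change h ⬝ₘ _ = h ⬝ₘ _
      rw [hx, ← gl_mul_mulVec, ← gl_mul_mulVec, hK, hv, Matrix.mulVec_smul, gl_mulVec_inv_cancel, tm_smul_right])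
    choose c hc using fun i => Submodule.mem_span_singleton.mp (hker (row x i) (by
      rw [← kr_one_row (α := α) t x i, ← hn, e, row_smul]))
    refine ⟨c, ?_⟩
    rw [show tm c o₂ = x from funext fun p => congrFun (hc p.1) p.2, hx, gl_mulVec_inv_cancel]
  have horth : ∀ v v', C *ᵥ v = m • v → C *ᵥ v' = m • v' → fB v v' = 0 := by
    intro v v' hv hv'
    obtain ⟨i⟩ := ‹Nonempty α›
    obtain ⟨a', ha'⟩ := (D.hA.nondeg (Pi.single i 1 : α → F) (by simp)).2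
    obtain ⟨c, hc⟩ := hpre (Pi.single i 1) v hv
    obtain ⟨c', hc'⟩ := hpre a' v' hv'
    have e : tf σ fA fB (tm (Pi.single i 1 : α → F) v) (tm a' v') = 0 := by
      rw [hc, hc', H.iso h hh, tf_tm D, hoo₂, mul_zero]
    rw [tf_tm D] at e
    exact (mul_eq_zero.mp e).resolve_left ha'
  have hrow : ∀ a i, C *ᵥ row (h ⬝ₘ (tm a o₂)) i = m • row (h ⬝ₘ (tm a o₂)) i := fun a i => by
    rw [← row_of_right D N H hK, gl_mul_mulVec, gl_mul_mulVec, gl_inv_mulVec_cancel, hnt, hto₂, tm_smul_right,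
      Matrix.mulVec_smul, row_smul]
  obtain ⟨i₀⟩ := ‹Nonempty α›
  obtain ⟨S, hS0, hS⟩ : ∃ S, S ≠ 0 ∧ C *ᵥ S = m • S := by
    obtain ⟨p, hp⟩ : ∃ p, (h ⬝ₘ (tm (Pi.single i₀ (1 : F) : α → F) o₂)) p ≠ 0 := Function.ne_iff.mp fun e =>
      tm_ne_zero (show (Pi.single i₀ (1 : F) : α → F) ≠ 0 by simp) ho₂ (gl_mulVec_injective h (by
        change h ⬝ₘ _ = h ⬝ₘ _
        rw [e, Matrix.mulVec_zero]; rfl))
    exact ⟨row (h ⬝ₘ (tm (Pi.single i₀ (1 : F) : α → F) o₂)) p.1, fun e => hp (congrFun e p.2), hrow _ _⟩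
  have hSS := horth S S hS hS
  refine ⟨S, hS0, hSS, fun a => ?_⟩
  choose c hc using fun i => Submodule.mem_span_singleton.mp
    (T.line S _ hS0 hSS (horth _ _ (hrow a i) (hrow a i)) (horth _ _ hS (hrow a i)))
  exact ⟨c, funext fun p => (congrFun (hc p.1) p.2).symm⟩

/-- All singular fibres go to fibres. -/
theorem all_fibres [Nonempty α] (RI : RootImage σ εB fB X) (hh : h ∈ X) (ho : o ≠ 0) (hoo : fB o o = 0)
    (hA : ∀ a, h ⬝ₘ (tm a o) = tm ((A : Matrix α α F) *ᵥ a) o) {o₂ : β → F} (ho₂ : o₂ ≠ 0) (hoo₂ : fB o₂ o₂ = 0) :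
    ∃ S, S ≠ 0 ∧ fB S S = 0 ∧ ∀ a, ∃ a', h ⬝ₘ (tm a o₂) = tm a' S := by
  rcases N.mid with hmid | T
  swap
  · exact torus_fibre D N H T hh ho hoo hA ho₂ hoo₂
  obtain ⟨w, hw0, hww, hwo, hwo₂, hwn⟩ := hmid o o₂ hoo hoo₂
  obtain ⟨S, hS0, hSS, hS⟩ := image D N H hh ho hoo hA RI hw0 hww hwo hwn
  obtain ⟨t, ht, hiso, l, hl, htS⟩ := N.move S w hS0 hSS hw0 hww
  have hn : ∀ v u, (kr (1 : GL α F) t) ⬝ₘ (tm v u) = tm v ((t : Matrix β β F) *ᵥ u) := fun v u => by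
    rw [kr_tm]; simp
  have hn' : ∀ v u, (kr (1 : GL α F) t)⁻¹ ⬝ₘ (tm v u) = tm v (((t⁻¹ : GL β F) : Matrix β β F) *ᵥ u) := fun v u => by
    rw [kr_inv, kr_tm]; simp
  obtain ⟨A', hA'⟩ := exists_fibre_map D N H (h := kr (1 : GL α F) t * h) hw0 hw0 fun a => by
    obtain ⟨a', ha'⟩ := hS a
    exact ⟨l • a', by rw [gl_mul_mulVec, ha', hn, htS, tm_smul_left, tm_smul_right]⟩
  have hX : kr (1 : GL α F) t * h ∈ X := mul_mem (H.small t ht hiso) hh
  by_cases hmem : o₂ ∈ Submodule.span F {w}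
  · obtain ⟨r, hr⟩ := Submodule.mem_span_singleton.mp hmem
    refine ⟨S, hS0, hSS, fun a => ?_⟩
    obtain ⟨a', ha'⟩ := hS (r • a)
    exact ⟨a', by rw [← hr, tm_smul_right, ← tm_smul_left, ha']⟩
  obtain ⟨T, hT0, hTT, hT⟩ := image D N H hX hw0 hww hA' RI ho₂ hoo₂ (D.hB.eq_zero_swap hwo₂) hmem
  refine ⟨((t⁻¹ : GL β F) : Matrix β β F) *ᵥ T, fun e => hT0 ?_, ?_, fun a => ?_⟩
  · rw [← gl_mulVec_inv_cancel t T, e, Matrix.mulVec_zero]
  · rw [← hiso, gl_mulVec_inv_cancel, hTT]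
  · obtain ⟨a', ha'⟩ := hT a
    exact ⟨a', by rw [← hn', ← ha', gl_mul_mulVec, gl_inv_mulVec_cancel]⟩

/-- An element stabilising one singular fibre lies in the stabiliser. -/
theorem mem_kr [Nonempty α] [Nonempty β] (RI : RootImage σ εB fB X) (hh : h ∈ X) (ho : o ≠ 0) (hoo : fB o o = 0)
    (hf : ∀ a, ∃ a', h ⬝ₘ (tm a o) = tm a' o) : h ∈ Kr α β F := by
  classical
  obtain ⟨A, hA⟩ := exists_fibre_map D N H ho ho hf
  have key : ∀ v, fB v v = 0 → ∃ T : β → F, ∀ a, h ⬝ₘ (tm a v) = tm ((A : Matrix α α F) *ᵥ a) T := by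
    intro v hv
    by_cases hmem : v ∈ Submodule.span F {o}
    · obtain ⟨r, hr⟩ := Submodule.mem_span_singleton.mp hmem
      exact ⟨r • o, fun a => by rw [← hr, tm_smul_right, Matrix.mulVec_smul, hA, tm_smul_right]⟩
    have hv0 : v ≠ 0 := fun e => hmem (e ▸ zero_mem _)
    obtain ⟨S, hS0, -, hS⟩ := all_fibres D N H RI hh ho hoo hA hv0 hv
    obtain ⟨A₂, hA₂⟩ := exists_fibre_map D N H hv0 hS0 hS
    obtain ⟨k, hk, hov⟩ := N.join o v hoo hv
    have hov0 : o + k • v ≠ 0 := fun e => hmem (Submodule.mem_span_singleton.mpr ⟨-k⁻¹, by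
      rw [eq_neg_of_add_eq_zero_left e, smul_neg, neg_smul, neg_neg, smul_smul, inv_mul_cancel₀ hk, one_smul]⟩)
    obtain ⟨S₃, hS₃0, -, hS₃⟩ := all_fibres D N H RI hh ho hoo hA hov0 hov
    obtain ⟨A₃, hA₃⟩ := exists_fibre_map D N H hov0 hS₃0 hS₃
    have hind : S ∉ Submodule.span F {o} := fun e => by
      obtain ⟨r, hr⟩ := Submodule.mem_span_singleton.mp e
      obtain ⟨i⟩ := ‹Nonempty α›
      obtain ⟨a, hadef⟩ : ∃ a : α → F, a = Pi.single i 1 := ⟨_, rfl⟩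
      obtain ⟨b, hb⟩ : ∃ b, b = r • (((A⁻¹ : GL α F) : Matrix α α F) *ᵥ ((A₂ : Matrix α α F) *ᵥ a)) := ⟨_, rfl⟩
      have e1 : tm a v = tm b o := gl_mulVec_injective h (show h ⬝ₘ (tm a v) = h ⬝ₘ (tm b o) by
        rw [hA₂, hA, hb, Matrix.mulVec_smul, gl_mulVec_inv_cancel, tm_smul_left, ← tm_smul_right, hr])
      obtain ⟨c, -, -, hc⟩ := tm_inj e1 (by rw [hadef]; simp) hv0
      by_cases hc0 : c = 0
      · exact ho (by rw [hc, hc0, zero_smul])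
      exact hmem (Submodule.mem_span_singleton.mpr ⟨c⁻¹, by rw [hc, smul_smul, inv_mul_cancel₀ hc0, one_smul]⟩)
    have hsum : ∀ a, tm ((A : Matrix α α F) *ᵥ a) o + tm (k • ((A₂ : Matrix α α F) *ᵥ a)) S =
        tm ((A₃ : Matrix α α F) *ᵥ a) S₃ := fun a => by
      rw [← hA₃, tm_add_right, tm_smul_right, Matrix.mulVec_add, Matrix.mulVec_smul, hA, hA₂, tm_smul_left]
    -- functionals separating the two fibres
    have sep : ∀ {p r : β → F}, p ∉ Submodule.span F {r} → ∃ u, fB r u = 0 ∧ fB p u ≠ 0 := fun {p r} hp => by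
      by_contra hcon
      push Not at hcon
      refine hp ((D.hB.perp_perp (Submodule.span F {r})) ▸ fun u hu => hcon u ?_)
      exact D.hB.eq_zero_swap (hu r (Submodule.mem_span_singleton_self r))
    have hind' : o ∉ Submodule.span F {S} := fun e => by
      obtain ⟨r, hr⟩ := Submodule.mem_span_singleton.mp e
      by_cases hr0 : r = 0
      · exact ho (by rw [← hr, hr0, zero_smul])
      exact hind (Submodule.mem_span_singleton.mpr ⟨r⁻¹, by rw [← hr, smul_smul, inv_mul_cancel₀ hr0, one_smul]⟩)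
    obtain ⟨u, hu, hu'⟩ := sep hind'
    obtain ⟨u', hu'o, hu'S⟩ := sep hind
    have e₁ : ∀ a, fB o u • ((A : Matrix α α F) *ᵥ a) = fB S₃ u • ((A₃ : Matrix α α F) *ᵥ a) := fun a => by
      have := congrArg (ctr fB u) (hsum a)
      rwa [ctr_add D, ctr_tm D, ctr_tm D, ctr_tm D, hu, zero_smul, add_zero] at this
    have e₂ : ∀ a, (fB S u' * k) • ((A₂ : Matrix α α F) *ᵥ a) = fB S₃ u' • ((A₃ : Matrix α α F) *ᵥ a) := fun a => by
      have := congrArg (ctr fB u') (hsum a)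
      rwa [ctr_add D, ctr_tm D, ctr_tm D, ctr_tm D, hu'o, zero_smul, zero_add, smul_smul] at this
    have hp : fB S₃ u ≠ 0 := fun e => by
      obtain ⟨i⟩ := ‹Nonempty α›
      have := e₁ (((A⁻¹ : GL α F) : Matrix α α F) *ᵥ Pi.single i 1)
      rw [gl_mulVec_inv_cancel, e, zero_smul, smul_eq_zero] at this
      exact this.elim hu' (by simp)
    refine ⟨((fB S₃ u' * fB o u) / (fB S u' * k * fB S₃ u)) • S, fun a => ?_⟩
    rw [hA₂, tm_smul_right, ← tm_smul_left]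
    refine congrArg (fun x => tm x S) ?_
    have h0 : fB S u' * k ≠ 0 := mul_ne_zero hu'S hk
    have h1 : (A₃ : Matrix α α F) *ᵥ a = (fB o u / fB S₃ u) • ((A : Matrix α α F) *ᵥ a) := by
      rw [div_eq_inv_mul, ← smul_smul, e₁, smul_smul, inv_mul_cancel₀ hp, one_smul]
    calc (A₂ : Matrix α α F) *ᵥ a = (fB S u' * k)⁻¹ • ((fB S u' * k) • ((A₂ : Matrix α α F) *ᵥ a)) := by
          rw [smul_smul, inv_mul_cancel₀ h0, one_smul]
      _ = _ := by rw [e₂, h1, smul_smul, smul_smul]; congr 1; field_simp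
  obtain ⟨i⟩ := ‹Nonempty α›
  obtain ⟨a₀, ha₀⟩ : ∃ a₀, a₀ = ((A⁻¹ : GL α F) : Matrix α α F) *ᵥ Pi.single i 1 := ⟨_, rfl⟩
  have hAa : (A : Matrix α α F) *ᵥ a₀ = Pi.single i 1 := by rw [ha₀, gl_mulVec_inv_cancel]
  let L : (β → F) →ₗ[F] (β → F) :=
    { toFun := fun b => row (h ⬝ₘ (tm a₀ b)) i
      map_add' := fun b b' => by rw [tm_add_right, Matrix.mulVec_add, row_add]
      map_smul' := fun r b => by rw [tm_smul_right, Matrix.mulVec_smul, row_smul, RingHom.id_apply] }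
  have hL : ∀ b a, h ⬝ₘ (tm a b) = tm ((A : Matrix α α F) *ᵥ a) (L b) := fun b => by
    have hb : b ∈ Submodule.span F {v : β → F | fB v v = 0} := by rw [N.spanned]; trivial
    induction hb using Submodule.span_induction with
    | mem v hv =>
      intro a
      obtain ⟨T, hT⟩ := key v hv
      rw [hT, show L v = T from by
        change row (h ⬝ₘ (tm a₀ v)) i = T
        rw [hT, hAa, row_tm]; simp]
    | zero => intro a; rw [map_zero, tm_zero_right, tm_zero_right, Matrix.mulVec_zero]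
    | add x y _ _ hx hy => intro a; rw [map_add, tm_add_right, tm_add_right, Matrix.mulVec_add, hx, hy]
    | smul r x _ hx => intro a; rw [map_smul, tm_smul_right, tm_smul_right, Matrix.mulVec_smul, hx]
  have hM : ∀ v, LinearMap.toMatrix' L *ᵥ v = L v := fun v => by rw [← Matrix.toLin'_apply, Matrix.toLin'_toMatrix']
  have hu : IsUnit (LinearMap.toMatrix' L) := Matrix.mulVec_injective_iff_isUnit.mp fun b b' e => by
    simp only [hM] at e
    have := gl_mulVec_injective h (show h ⬝ₘ (tm a₀ b) = h ⬝ₘ (tm a₀ b') by rw [hL, hL, e])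
    refine sub_eq_zero.mp ((tm_eq_zero (a := a₀) ?_).resolve_left fun h0 => ?_)
    · rw [tm_sub_right, this, sub_self]
    · rw [h0, Matrix.mulVec_zero] at hAa
      simpa using congrFun hAa i
  refine ⟨A, hu.unit, gl_ext_mulVec fun x => ext_pure (fun a b => ?_) x⟩
  rw [hL, kr_tm, IsUnit.unit_spec, hM]

end Cfsg.Agent.Classical.TensorMax.Form
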