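/-
Root elements are moved into the stabiliser only by the stabiliser; consequences for orbits.
-/
import Cfsg.Agent.Lib.Classical.TensorMax.Form.Fibre
import Cfsg.Agent.Lib.Classical.TensorMax.Final
import Cfsg.Agent.Lib.Classical.TensorMax.Orbit

set_option autoImplicit false
set_option linter.unusedSectionVars false

namespace Cfsg.Agent.Classical.TensorMax.Form

open Matrix Cfsg.Geo
open Cfsg.Agent.Classical
open scoped Kronecker

variable {n₁ n₂ : ℕ} {F : Type*} [Field F]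
variable {σ : F ≃+* F} {εA εB : F} {fA : (Fin n₁ → F) → (Fin n₁ → F) → F} {fB : (Fin n₂ → F) → (Fin n₂ → F) → F}
variable {X : Subgroup (GL (Fin n₁ × Fin n₂) F)}

local notation "κ" => Fin n₁ × Fin n₂
local notation:max g:max " ⬝ₘ " x:max =>
  ((g : GL (Fin n₁ × Fin n₂) F) : Matrix (Fin n₁ × Fin n₂) (Fin n₁ × Fin n₂) F) *ᵥ x

/-- Root elements of the second factor. -/
def rootSet (σ : F ≃+* F) (εB : F) (fB : (Fin n₂ → F) → (Fin n₂ → F) → F) : Set (GL (Fin n₁ × Fin n₂) F) :=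
  {z | ∃ (o : Fin n₂ → F) (c : F), o ≠ 0 ∧ fB o o = 0 ∧ c ≠ 0 ∧ εB * c + σ c = 0 ∧ Rt fB o c z}

/-- Some root element fixes all the vectors of the family. -/
def Good (fB : (Fin n₂ → F) → (Fin n₂ → F) → F) {γ : Type} (W : γ → (Fin n₁ × Fin n₂ → F)) : Prop :=
  ∃ o : Fin n₂ → F, o ≠ 0 ∧ fB o o = 0 ∧ ∀ y, ctr fB o (W y) = 0

variable (D : Data σ εA εB fA fB) (H : Over σ fA fB X)

include D H

/-- A root-like element of the stabiliser is a root. -/
theorem rt_of_rank [Fintype F] (p : ℕ) [Fact p.Prime] [CharP F p] (h1 : 2 ≤ n₁) (h12 : n₁ < n₂) {u : GL κ F}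
    (huX : u ∈ X) (huK : u ∈ Kr (Fin n₁) (Fin n₂) F) {k : ℕ} (hk : u ^ p ^ k = 1) (hne : u ≠ 1)
    (hrank : ((u : Matrix κ κ F) - 1).rank ≤ n₁) : u ∈ rootSet σ εB fB := by
  obtain ⟨f, l, hf, hl, hlf, hv⟩ := isRoot_of_rank p h1 h12 huK hk hne hrank
  have hrow : ∀ x i, row (u ⬝ₘ x) i = row x i + (l ⬝ᵥ row x i) • f := fun x i => by
    funext j
    rw [row, hv, Matrix.mulVec, dotProduct, Fintype.sum_prod_type,
      Finset.sum_eq_single i (fun z _ hz => by simp [Matrix.one_apply_ne (Ne.symm hz)]) (by simp)]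
    simp [kroneckerMap_apply, add_mul, Finset.sum_add_distrib, vecMulVec_apply, Matrix.one_apply, row, dotProduct,
      Finset.mul_sum, mul_assoc, mul_comm, mul_left_comm]
  have htm : ∀ a v, u ⬝ₘ (tm a v) = tm a (v + (l ⬝ᵥ v) • f) := fun a v => funext fun q => by
    have := congrFun (hrow (tm a v) q.1) q.2
    rw [row_tm, dotProduct_smul] at this
    simp only [row, Pi.add_apply, Pi.smul_apply, smul_eq_mul] at this
    simp only [tm_apply, Pi.add_apply, Pi.smul_apply, smul_eq_mul]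
    linear_combination this
  obtain ⟨a, a', ha⟩ : ∃ a a', fA a a' ≠ 0 := by
    have : (Pi.single (⟨0, by omega⟩ : Fin n₁) (1 : F) : Fin n₁ → F) ≠ 0 := by simp
    exact ⟨_, (D.hA.nondeg _ this).2⟩
  have hs := D.hB.semi
  have hiso : ∀ v v', fB (v + (l ⬝ᵥ v) • f) (v' + (l ⬝ᵥ v') • f) = fB v v' := fun v v' => by
    have := H.iso u huX (tm a v) (tm a' v')
    rw [htm, htm, tf_tm D, tf_tm D] at this
    exact mul_left_cancel₀ ha this
  obtain ⟨v₁, hv₁⟩ : ∃ v, l ⬝ᵥ v = 1 := by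
    obtain ⟨i, hi⟩ := Function.ne_iff.mp hl
    exact ⟨Pi.single i (l i)⁻¹, by rw [dotProduct_single, mul_inv_cancel₀ hi]⟩
  have hexp : ∀ v v', (l ⬝ᵥ v) * fB f v' + σ (l ⬝ᵥ v') * fB v f + (l ⬝ᵥ v) * σ (l ⬝ᵥ v') * fB f f = 0 := fun v v' => by
    have := hiso v v'
    rw [hs.add_left, hs.add_right, hs.add_right, hs.smul_left, hs.smul_left, hs.smul_right, hs.smul_right] at this
    linear_combination this
  have hff : fB f f = 0 := by
    have := hexp f v₁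
    rw [hlf] at this
    simpa [hv₁] using this
  obtain ⟨κ', hκ⟩ : ∃ k, k = fB f v₁ := ⟨_, rfl⟩
  have hlv : ∀ v, (l ⬝ᵥ v) * κ' + fB v f = 0 := fun v => by
    have := hexp v v₁
    rw [hv₁, map_one, hff] at this
    rw [hκ]
    linear_combination this
  have hκ0 : κ' ≠ 0 := fun e => by
    obtain ⟨x, hx⟩ := (D.hB.nondeg f hf).1
    exact hx (by have := hlv x; rwa [e, mul_zero, zero_add] at this)
  have hskew : κ' + εB * σ κ' = 0 := by
    have := hlv v₁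
    rw [hv₁, one_mul, D.hB.swap f v₁, ← hκ] at this
    exact this
  refine ⟨f, -κ'⁻¹, hf, hff, neg_ne_zero.mpr (inv_ne_zero hκ0), ?_, fun x => funext fun q => ?_⟩
  · have hσ : σ κ' ≠ 0 := (map_ne_zero σ).mpr hκ0
    rw [map_neg, map_inv₀]
    field_simp
    linear_combination -hskew
  · have := congrFun (hrow x q.1) q.2
    rw [show l ⬝ᵥ row x q.1 = -κ'⁻¹ * fB (row x q.1) f by
      have := hlv (row x q.1)
      field_simp
      linear_combination this] at this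
    simpa [row, tm_apply, ctr] using this

omit H in
theorem rt_pow {o : Fin n₂ → F} {c : F} (hoo : fB o o = 0) {z : GL κ F} (hz : Rt fB o c z) (k : ℕ) :
    Rt fB o ((k : F) * c) (z ^ k) := by
  induction k with
  | zero => intro x; simp
  | succ k ih =>
    intro x
    rw [pow_succ, gl_mul_mulVec, hz, ih, ctr_add D, ctr_tm D, hoo, zero_smul, add_zero, Nat.cast_succ, add_mul, one_mul,
      add_smul, tm_add_left]
    abel

omit H in
theorem rt_pow_char (p : ℕ) [CharP F p] {z : GL κ F} (hz : z ∈ rootSet σ εB fB) : z ^ p = 1 := by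
  obtain ⟨o, c, -, hoo, -, -, hR⟩ := hz
  refine gl_ext_mulVec fun x => ?_
  rw [rt_pow D hoo hR p, CharP.cast_eq_zero, zero_mul, zero_smul, tm_zero_left, add_zero, Units.val_one,
    Matrix.one_mulVec]

omit H in
theorem isPGroup_rt (p : ℕ) [CharP F p] {z : GL κ F} (hz : z ∈ rootSet σ εB fB) :
    IsPGroup p (Subgroup.zpowers z) := by
  rintro ⟨x, k, rfl⟩
  refine ⟨1, Subtype.ext ?_⟩
  simp only [SubmonoidClass.coe_pow, pow_one, OneMemClass.coe_one]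
  rw [← zpow_natCast, ← _root_.zpow_mul, mul_comm, _root_.zpow_mul, zpow_natCast, rt_pow_char D p hz]
  simp

theorem rootImage [Fintype F] (p : ℕ) [Fact p.Prime] [CharP F p] (h1 : 2 ≤ n₁) (h12 : n₁ < n₂) :
    ∀ h ∈ X, ∀ (w : Fin n₂ → F) (c : F), w ≠ 0 → fB w w = 0 → c ≠ 0 → εB * c + σ c = 0 → ∀ z : GL κ F,
      Rt fB w c z → h * z * h⁻¹ ∈ Kr (Fin n₁) (Fin n₂) F →
      ∃ S : Fin n₂ → F, S ≠ 0 ∧ fB S S = 0 ∧ ∀ a, ∃ a', h ⬝ₘ (tm a w) = tm a' S := by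
  intro h hh w c hw hww hc hskew z hz hmem
  have hzX := (H.rt_mem D hww hskew hz).1
  obtain ⟨u, hu⟩ : ∃ u, u = h * z * h⁻¹ := ⟨_, rfl⟩
  have hux : ∀ x, u ⬝ₘ x = x + h ⬝ₘ (tm (c • ctr fB w (h⁻¹ ⬝ₘ x)) w) := fun x => by
    rw [hu, gl_mul_mulVec, gl_mul_mulVec, hz, Matrix.mulVec_add, gl_mulVec_inv_cancel]
  obtain ⟨o', ho'⟩ := partner D hw
  have hne : u ≠ 1 := fun e => by
    have hz1 : z = 1 := conj_eq_one_iff.mp (hu ▸ e)
    have hfix := (rt_fix D hw hc hz (tm (Pi.single ⟨0, by omega⟩ 1) o')).mp (by simp [hz1])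
    rw [ctr_tm D, ho', one_smul] at hfix
    simpa using hfix
  have hpow : u ^ p ^ 1 = 1 := by
    rw [pow_one, hu, conj_pow, rt_pow_char D p ⟨w, c, hw, hww, hc, hskew, hz⟩, mul_one, mul_inv_cancel]
  have hrank : ((u : Matrix κ κ F) - 1).rank ≤ n₁ := by
    let L : (Fin n₁ → F) →ₗ[F] (κ → F) :=
      { toFun := fun a => h ⬝ₘ (tm a w)
        map_add' := fun a b => by rw [tm_add_left, Matrix.mulVec_add]
        map_smul' := fun r a => by rw [tm_smul_left, Matrix.mulVec_smul, RingHom.id_apply] }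
    have hle : LinearMap.range ((u : Matrix κ κ F) - 1).mulVecLin ≤ LinearMap.range L := by
      rintro _ ⟨x, rfl⟩
      exact ⟨c • ctr fB w (h⁻¹ ⬝ₘ x), by
        rw [Matrix.mulVecLin_apply, Matrix.sub_mulVec, Matrix.one_mulVec, hux, add_sub_cancel_left]; rfl⟩
    refine (Submodule.finrank_mono hle).trans ((LinearMap.finrank_range_le L).trans ?_)
    rw [Module.finrank_fintype_fun_eq_card, Fintype.card_fin]
  obtain ⟨S, c', hS, hSS, -, -, hR⟩ := rt_of_rank D H p h1 h12 (hu ▸ mul_mem (mul_mem hh hzX) (inv_mem hh))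
    (hu ▸ hmem) hpow hne hrank
  refine ⟨S, hS, hSS, fun a => ⟨c' • ctr fB S (h ⬝ₘ (tm (c⁻¹ • a) o')), ?_⟩⟩
  have e := hR (h ⬝ₘ (tm (c⁻¹ • a) o'))
  rw [hux, add_right_inj, gl_inv_mulVec_cancel, ctr_tm D, ho', one_smul, smul_smul, mul_inv_cancel₀ hc,
    one_smul] at e
  exact e

omit H in
/-- The pointwise stabiliser of a family of vectors. -/
theorem exists_fixer {γ : Type} (W : γ → (κ → F)) :
    ∃ S : Subgroup (GL κ F), ∀ g, g ∈ S ↔ ∀ y, g ⬝ₘ (W y) = W y :=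
  ⟨fixer W, fun _ => Iff.rfl⟩

variable (N : Nice σ εB fB)

include N

/-- Root elements control the group between the stabiliser and the ambient group. -/
theorem roots [Fintype F] (p : ℕ) [Fact p.Prime] [CharP F p] (h1 : 2 ≤ n₁) (h12 : n₁ < n₂) :
    Roots p (X ⊓ Kr (Fin n₁) (Fin n₂) F) X (rootSet σ εB fB) := by
  classical
  haveI : Nonempty (Fin n₁) := ⟨⟨0, by omega⟩⟩
  haveI : Nonempty (Fin n₂) := ⟨⟨0, by omega⟩⟩
  have RI := rootImage D H p h1 h12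
  have hsub : (rootSet σ εB fB : Set (GL κ F)) ⊆ ((X ⊓ Kr (Fin n₁) (Fin n₂) F : Subgroup (GL κ F)) : Set (GL κ F)) := by
    rintro z ⟨o, c, -, hoo, -, hc, hR⟩
    exact H.rt_mem D hoo hc hR
  refine ⟨inf_le_left, hsub, fun z hz => isPGroup_rt D p hz, fun g hg z hz hmem => ?_⟩
  obtain ⟨w, c, hw, hww, hc, hskew, hR⟩ := hz
  obtain ⟨S, hS, hSS, hgS⟩ := RI g hg w c hw hww hc hskew z hR hmem.2
  obtain ⟨t, ht, hiso, l, hl, htS⟩ := N.move S w hS hSS hw hww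
  have hn : kr (1 : GL (Fin n₁) F) t ∈ X := H.small t ht hiso
  have := mem_kr D N H (fun h hh w c hw hww hc hs z hz hm _ => RI h hh w c hw hww hc hs z hz hm) (mul_mem hn hg) hw hww fun a => by
    obtain ⟨a', ha'⟩ := hgS a
    refine ⟨l • a', ?_⟩
    rw [gl_mul_mulVec, ha', kr_tm, htS, Units.val_one, Matrix.one_mulVec, tm_smul_left, tm_smul_right]
  refine ⟨hg, ?_⟩
  have := mul_mem (inv_mem (show kr 1 t ∈ Kr (Fin n₁) (Fin n₂) F from ⟨1, t, rfl⟩)) this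
  rwa [inv_mul_cancel_left] at this

/-- Two families in one orbit, each fixed by a root, lie in one orbit of the stabiliser. -/
theorem factor [Fintype F] (h1 : 2 ≤ n₁) (h12 : n₁ < n₂) {γ : Type} {v v' : γ → (κ → F)} {g : GL κ F}
    (hg : g ∈ X) (hgv : ∀ y, g ⬝ₘ (v y) = v' y) (hv : Good fB v) (hv' : Good fB v') :
    ∃ a b, kr a b ∈ X ∧ ∀ y, (kr a b) ⬝ₘ (v y) = v' y := by
  classical
  obtain ⟨p, hp⟩ := CharP.exists F
  haveI : Fact p.Prime := ⟨CharP.char_is_prime F p⟩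
  haveI : Nonempty (Fin n₁) := ⟨⟨0, by omega⟩⟩
  haveI : Nonempty (Fin n₂) := ⟨⟨0, by omega⟩⟩
  haveI : Finite (GL κ F) := Finite.of_injective (fun g : GL κ F => (g : Matrix κ κ F)) Units.val_injective
  have R := roots D H N p h1 h12
  obtain ⟨St, hSt⟩ := exists_fixer D v
  obtain ⟨St', hSt'⟩ := exists_fixer D v'
  have root : ∀ {W : γ → (κ → F)}, Good fB W → ∃ z ∈ rootSet σ εB fB, ∀ y, z ⬝ₘ (W y) = W y := by
    rintro W ⟨o, ho, hoo, hW⟩
    obtain ⟨c, hc, hskew⟩ := N.skew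
    obtain ⟨t, -, -, hR⟩ := exists_rt (α := Fin n₁) D hoo hskew
    exact ⟨_, ⟨o, c, ho, hoo, hc, hskew, hR⟩, fun y => (rt_fix D ho hc hR _).mpr (hW y)⟩
  obtain ⟨z, hz, hzv⟩ := root hv
  obtain ⟨z', hz', hzv'⟩ := root hv'
  obtain ⟨k, -, hk, n, ⟨hnX, a, b, rfl⟩, rfl⟩ := R.factor hg (St := St) (St' := St') (fun s hs => (hSt' _).mpr
    fun y => by rw [← hgv y, gl_mul_mulVec, gl_mul_mulVec, gl_inv_mulVec_cancel, (hSt s).mp hs y])
    hz ((hSt z).mpr hzv) hz' ((hSt' z').mpr hzv')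
  refine ⟨a, b, hnX, fun y => ?_⟩
  have h' := hgv y
  rw [gl_mul_mulVec] at h'
  calc (kr a b) ⬝ₘ (v y) = k⁻¹ ⬝ₘ (v' y) := by rw [← h', gl_inv_mulVec_cancel]
    _ = v' y := (hSt' _).mp (inv_mem hk) y

/-- If singular pure tensors go to pure tensors, the group lies in the stabiliser. -/
theorem le_kr [Fintype F] (h1 : 2 ≤ n₁) (h12 : n₁ < n₂)
    (hperp : ∀ u v : Fin n₂ → F, ∃ o, o ≠ 0 ∧ fB o o = 0 ∧ fB u o = 0 ∧ fB v o = 0)
    (hpure : ∀ g ∈ X, ∀ a o, fB o o = 0 → ∃ a' b', g ⬝ₘ (tm a o) = tm a' b') :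
    X ≤ Kr (Fin n₁) (Fin n₂) F := by
  classical
  intro g hg
  haveI : Nonempty (Fin n₁) := ⟨⟨0, by omega⟩⟩
  haveI : Nonempty (Fin n₂) := ⟨⟨0, by omega⟩⟩
  obtain ⟨p, hp⟩ := CharP.exists F
  haveI : Fact p.Prime := ⟨CharP.char_is_prime F p⟩
  obtain ⟨o, ho, hoo, -, -⟩ := hperp 0 0
  obtain ⟨a₀, hadef⟩ : ∃ a₀ : Fin n₁ → F, a₀ = Pi.single ⟨0, by omega⟩ 1 := ⟨_, rfl⟩
  have ha₀ : a₀ ≠ 0 := by rw [hadef]; simp
  obtain ⟨a₁, b₁, hb₁⟩ := hpure g hg a₀ o hoo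
  have hne : tm a₁ b₁ ≠ 0 := fun e => tm_ne_zero ha₀ ho (gl_mulVec_injective g (by
    change g ⬝ₘ _ = g ⬝ₘ _
    rw [hb₁, e, Matrix.mulVec_zero]))
  have hf : ∀ a, ∃ a', g ⬝ₘ (tm a o) = tm a' b₁ := by
    intro a
    obtain ⟨a', b', hb'⟩ := hpure g hg a o hoo
    obtain ⟨o', ho', hoo', h', h''⟩ := hperp b₁ b'
    obtain ⟨A, B, -, hn⟩ := factor D H N h1 h12 hg
      (v := fun y : Bool => if y then tm a₀ o else tm a o) (v' := fun y : Bool => if y then tm a₁ b₁ else tm a' b')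
      (fun y => by cases y <;> simp [hb₁, hb'])
      ⟨o, ho, hoo, fun y => by cases y <;> simp [ctr_tm D, hoo]⟩
      ⟨o', ho', hoo', fun y => by cases y <;> simp [ctr_tm D, h', h'']⟩
    have e₁ := hn true
    have e₂ := hn false
    simp only [if_true, kr_tm] at e₁
    simp only [Bool.false_eq_true, if_false, kr_tm] at e₂
    obtain ⟨c, hc, -, hbc⟩ := tm_inj e₁ (fun e => hne (by rw [← e₁, e, tm_zero_left]))
      (fun e => hne (by rw [← e₁, e, tm_zero_right]))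
    refine ⟨c⁻¹ • ((A : Matrix (Fin n₁) (Fin n₁) F) *ᵥ a), ?_⟩
    rw [hb', ← e₂, hbc, tm_smul_left, tm_smul_right, smul_smul, inv_mul_cancel₀ hc, one_smul]
  have hb0 : b₁ ≠ 0 := fun e => hne (by rw [e, tm_zero_right])
  obtain ⟨A, hA⟩ := exists_fibre_map D N H ho hb0 hf
  have hbb : fB b₁ b₁ = 0 := by
    obtain ⟨x, hx⟩ := (D.hA.nondeg _ ha₀).2
    have e := H.iso g hg (tm (((A⁻¹ : GL (Fin n₁) F) : Matrix (Fin n₁) (Fin n₁) F) *ᵥ a₀) o)
      (tm (((A⁻¹ : GL (Fin n₁) F) : Matrix (Fin n₁) (Fin n₁) F) *ᵥ x) o)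
    rw [hA, hA, gl_mulVec_inv_cancel, gl_mulVec_inv_cancel, tf_tm D, tf_tm D, hoo, mul_zero] at e
    exact (mul_eq_zero.mp e).resolve_left hx
  obtain ⟨t, ht, hiso, l, -, htb⟩ := N.move b₁ o hb0 hbb ho hoo
  have := mem_kr D N H (fun h hh w c hw hww hc hs z hz hm _ => rootImage D H p h1 h12 h hh w c hw hww hc hs z hz hm) (mul_mem (H.small t ht hiso) hg) ho hoo fun a => by
    obtain ⟨a', ha'⟩ := hf a
    refine ⟨l • a', ?_⟩
    rw [gl_mul_mulVec, ha', kr_tm, htb, Units.val_one, Matrix.one_mulVec, tm_smul_left, tm_smul_right]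
  have := mul_mem (inv_mem (show kr 1 t ∈ Kr (Fin n₁) (Fin n₂) F from ⟨1, t, rfl⟩)) this
  rwa [inv_mul_cancel_left] at this

end Cfsg.Agent.Classical.TensorMax.Form
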