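/-
Hermitian spaces over finite fields: isotropic vectors with prescribed products.
-/
import Cfsg.Agent.Lib.Classical.TensorMax.Form.Orbits
import Cfsg.Agent.Lib.Classical.UnitaryForm

set_option autoImplicit false
set_option linter.unusedSectionVars false

namespace Cfsg.Agent.Classical.TensorMax.Form

open Matrix Module Cfsg.Geo
open Cfsg.Agent.Classical

variable {ι : Type} [Fintype ι] [DecidableEq ι] {F : Type*} [Field F] [Fintype F] {q : ℕ} {σ : F ≃+* F}
  {f : (ι → F) → (ι → F) → F}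

/-- A non-degenerate Hermitian form. -/
structure UForm (q : ℕ) (σ : F ≃+* F) (f : (ι → F) → (ι → F) → F) : Prop where
  sig : IsUSigma q σ
  refl : IsReflexForm σ 1 f

namespace UForm

variable (U : UForm q σ f)

include U

theorem herm (u v : ι → F) : σ (f u v) = f v u := by rw [U.refl.swap u v, one_mul]

theorem fixed (v : ι → F) : σ (f v v) = f v v := U.herm v v

theorem exists_trace_one : ∃ θ : F, θ + σ θ = 1 := by
  obtain ⟨z, hz⟩ : ∃ z, z + σ z ≠ 0 := by
    by_contra hcon
    push Not at hcon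
    have h1 := hcon 1
    rw [map_one] at h1
    refine U.sig.ne_refl (RingEquiv.ext fun x => ?_)
    have h2 := hcon x
    show σ x = x
    linear_combination h2 - x * h1
  refine ⟨z / (z + σ z), ?_⟩
  rw [map_div₀, map_add, U.sig.involutive, add_comm (σ z) z, ← add_div, div_self hz]

theorem exists_trace {b : F} (hb : σ b = b) : ∃ X, X + σ X = b := by
  obtain ⟨θ, hθ⟩ := U.exists_trace_one
  exact ⟨θ * b, by rw [map_mul, hb]; linear_combination b * hθ⟩

theorem eq_zero_of_trace {a : F} (h : ∀ k, k * a + σ (k * a) = 0) : a = 0 := by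
  by_contra ha
  obtain ⟨θ, hθ⟩ := U.exists_trace_one
  have := h (θ / a)
  rw [div_mul_cancel₀ _ ha, hθ] at this
  exact one_ne_zero this

theorem expand (z y : ι → F) (s : F) :
    f (z + s • y) (z + s • y) = f z z + (s * f y z + σ (s * f y z)) + s * σ s * f y y := by
  rw [U.refl.semi.add_left, U.refl.semi.add_right, U.refl.semi.add_right, U.refl.semi.smul_left,
    U.refl.semi.smul_left, U.refl.semi.smul_right, U.refl.semi.smul_right, map_mul, U.herm]
  ring

/-- Adding a multiple of an anisotropic vector to get a given norm. -/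
theorem fix_norm {y : ι → F} (hy : f y y ≠ 0) (z : ι → F) {b : F} (hb : σ b = b) :
    ∃ s : F, f (z + s • y) (z + s • y) = b := by
  obtain ⟨r, hr⟩ : ∃ r, r = (b - f z z + f z y * f y z / f y y) / f y y := ⟨_, rfl⟩
  have hσr : σ r = r := by
    rw [hr, map_div₀, map_add, map_sub, hb, U.fixed, map_div₀, map_mul, U.herm, U.herm, U.fixed, mul_comm (f y z)]
  obtain ⟨t, ht⟩ : ∃ t, t * σ t = r := by
    rcases eq_or_ne r 0 with h0 | h0
    · exact ⟨0, by rw [h0, zero_mul]⟩
    · obtain ⟨t, -, ht⟩ := U.sig.norm_surjective h0 hσr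
      exact ⟨t, ht⟩
  refine ⟨t - f z y / f y y, ?_⟩
  rw [U.expand]
  simp only [map_mul, map_sub, map_div₀, U.herm]
  have e : t * σ t * (f y y * f y y) = (b - f z z) * f y y + f z y * f y z := by
    rw [ht, hr]; field_simp
  field_simp
  linear_combination e

/-- A space on which the norm vanishes is totally isotropic. -/
theorem null {W : Submodule F (ι → F)} (h : ∀ w ∈ W, f w w = 0) : ∀ u ∈ W, ∀ v ∈ W, f u v = 0 := by
  intro u hu v hv
  refine U.eq_zero_of_trace fun k => ?_
  have := h (v + k • u) (add_mem hv (W.smul_mem k hu))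
  rw [U.expand, h v hv, h u hu] at this
  linear_combination this

theorem two_mul_le {W : Submodule F (ι → F)} (h : ∀ w ∈ W, f w w = 0) : 2 * finrank F W ≤ Fintype.card ι := by
  have hle : W ≤ U.refl.perp W := fun u hu v hv => U.null h u hu v hv
  have := Submodule.finrank_mono hle
  have := U.refl.finrank_perp W
  omega

theorem exists_aniso {W : Submodule F (ι → F)} (h : Fintype.card ι < 2 * finrank F W) :
    ∃ y ∈ W, f y y ≠ 0 := by
  by_contra hcon
  push Not at hcon
  have := U.two_mul_le hcon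
  omega

/-- Vectors orthogonal to finitely many ones. -/
theorem exists_perp {k : ℕ} (s : Fin k → ι → F) :
    ∃ W : Submodule F (ι → F), Fintype.card ι ≤ finrank F W + k ∧ ∀ w ∈ W, ∀ i, f w (s i) = 0 := by
  refine ⟨U.refl.perp (Submodule.span F (Set.range s)), ?_, fun w hw i => hw _ (Submodule.subset_span ⟨i, rfl⟩)⟩
  have h1 : finrank F (Submodule.span F (Set.range s)) ≤ k := by
    refine (finrank_range_le_card s).trans ?_
    rw [Fintype.card_fin]
  have := U.refl.finrank_perp (Submodule.span F (Set.range s))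
  omega

/-- Isotropic vectors in a space of dimension at least two. -/
theorem exists_iso {W : Submodule F (ι → F)} (h : 2 ≤ finrank F W) : ∃ w ∈ W, w ≠ 0 ∧ f w w = 0 := by
  by_cases hy : ∃ y ∈ W, f y y ≠ 0
  · obtain ⟨y, hy, hyy⟩ := hy
    obtain ⟨z, hz, hzy⟩ := SetLike.exists_of_lt (p := Submodule.span F {y}) (q := W) (lt_of_le_of_ne
      ((Submodule.span_singleton_le_iff_mem y W).mpr hy) fun e => by
        have := finrank_span_le_card (R := F) ({y} : Set (ι → F))
        rw [e] at this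
        simp at this
        omega)
    obtain ⟨s, hs⟩ := U.fix_norm hyy z (b := 0) (map_zero σ)
    refine ⟨z + s • y, add_mem hz (W.smul_mem s hy), fun e => hzy (Submodule.mem_span_singleton.mpr ⟨-s, ?_⟩), hs⟩
    rw [neg_smul]
    exact (eq_neg_of_add_eq_zero_left e).symm
  · push Not at hy
    obtain ⟨w, hw, hw0⟩ := W.exists_mem_ne_zero_of_ne_bot fun e => by rw [e, finrank_bot] at h; omega
    exact ⟨w, hw, hw0, hy w hw⟩

/-- An isotropic vector orthogonal to given ones and outside a line. -/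
theorem exists_iso_avoid {k : ℕ} (s : Fin k → ι → F) (o : ι → F) (h : k + 3 ≤ Fintype.card ι) :
    ∃ w, w ≠ 0 ∧ f w w = 0 ∧ (∀ i, f w (s i) = 0) ∧ w ∉ Submodule.span F {o} := by
  obtain ⟨W, hW, hWs⟩ := U.exists_perp s
  obtain ⟨C, hC⟩ := Submodule.exists_isCompl (Submodule.span F {o})
  have h1 : 2 ≤ finrank F ↥(W ⊓ C) := by
    have h2 := Submodule.finrank_sup_add_finrank_inf_eq W C
    have h3 := (Submodule.finrank_le (W ⊔ C)).trans_eq (finrank_fintype_fun_eq_card F)
    have h4 := (Submodule.finrank_add_eq_of_isCompl hC).trans (finrank_fintype_fun_eq_card F)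
    have h5 := finrank_span_le_card (R := F) ({o} : Set (ι → F))
    simp at h5
    omega
  obtain ⟨w, hw, hw0, hww⟩ := U.exists_iso h1
  exact ⟨w, hw0, hww, hWs w hw.1, fun e => hw0 (Submodule.disjoint_def.mp hC.disjoint w e hw.2)⟩

theorem exists_pair_one {u : ι → F} (hu : u ≠ 0) : ∃ z, f z u = 1 := by
  obtain ⟨x, hx⟩ := (U.refl.nondeg u hu).1
  exact ⟨(f x u)⁻¹ • x, by rw [U.refl.semi.smul_left, inv_mul_cancel₀ hx]⟩

/-- An isotropic partner of an isotropic vector. -/
theorem exists_partner {u : ι → F} (hu : u ≠ 0) (huu : f u u = 0) :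
    ∃ v, f v v = 0 ∧ f v u = 1 ∧ f u v = 1 := by
  obtain ⟨z, hz⟩ := U.exists_pair_one hu
  obtain ⟨X, hX⟩ := U.exists_trace (U.fixed z)
  have hv : f (z + (-X) • u) u = 1 := by rw [U.refl.semi.add_left, U.refl.semi.smul_left, huu, hz, mul_zero, add_zero]
  refine ⟨z + (-X) • u, ?_, hv, by rw [← U.herm, hv, map_one]⟩
  rw [U.expand, huu, ← U.herm z u, hz, map_one, mul_one, map_neg]
  linear_combination -hX

theorem exists_sep {p r : ι → F} (hp : p ∉ Submodule.span F {r}) : ∃ u, f r u = 0 ∧ f p u ≠ 0 := by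
  by_contra hcon
  push Not at hcon
  refine hp (U.refl.perp_perp (Submodule.span F {r}) ▸ fun u hu => hcon u ?_)
  exact U.refl.eq_zero_swap (hu r (Submodule.mem_span_singleton_self r))

/-- Prescribed products with two independent vectors. -/
theorem exists_products {a b : ι → F} (hb : b ∉ Submodule.span F {a}) (ha : a ≠ 0) (x y : F) :
    ∃ z, f z a = x ∧ f z b = y := by
  obtain ⟨u, hau, hbu⟩ := U.exists_sep hb
  obtain ⟨z, hz⟩ := U.exists_pair_one ha
  have h1 : f u a = 0 := U.refl.eq_zero_swap hau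
  have h2 : f u b ≠ 0 := fun e => hbu (U.refl.eq_zero_swap e)
  refine ⟨x • z + ((y - x * f z b) / f u b) • u, ?_, ?_⟩ <;>
    rw [U.refl.semi.add_left, U.refl.semi.smul_left, U.refl.semi.smul_left]
  · rw [hz, h1, mul_zero, add_zero, mul_one]
  · rw [div_mul_cancel₀ _ h2]; ring

/-- A transvection carrying a singular vector to a multiple of another one. -/
theorem move_one {u v : ι → F} (huu : f u u = 0) (hvv : f v v = 0) (huv : f u v ≠ 0) {s : F} (hs0 : s ≠ 0)
    (hs : s + σ s = 0) : ∃ t : GL ι F, (t : Matrix ι ι F).det = 1 ∧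
      (∀ a b, f ((t : Matrix ι ι F) *ᵥ a) ((t : Matrix ι ι F) *ᵥ b) = f a b) ∧
      (t : Matrix ι ι F) *ᵥ u = σ (s / f u v) • v := by
  haveI : Nonempty ι := by
    by_contra hne
    exact huv (by rw [show u = 0 from funext fun i => absurd ⟨i⟩ hne, U.refl.zero_left])
  obtain ⟨l, hl⟩ : ∃ l, l = σ (s / f u v) := ⟨_, rfl⟩
  obtain ⟨d, hd⟩ : ∃ d, d = l • v - u := ⟨_, rfl⟩
  have hud : f u d = s := by
    rw [hd, sub_eq_add_neg, U.refl.semi.add_right, U.refl.semi.smul_right, ← neg_one_smul F u, U.refl.semi.smul_right,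
      huu, mul_zero, add_zero, hl, U.sig.involutive, div_mul_cancel₀ _ huv]
  have hdd : f d d = 0 := by
    rw [hd, sub_eq_neg_add, ← neg_one_smul F u, U.expand]
    simp only [U.refl.semi.smul_left, U.refl.semi.smul_right, huu, hvv, map_mul, map_neg, map_one, U.sig.involutive]
    rw [← U.herm u v, U.sig.involutive, hl, U.sig.involutive]
    have e : s / f u v * f u v = s := div_mul_cancel₀ _ huv
    have e' : σ (s / f u v) * σ (f u v) = σ s := by rw [← map_mul, e]
    linear_combination (-1 : F) * e - e' - hs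
  have hc : (1 : F) * s⁻¹ + σ s⁻¹ + f (0 : ι → F) 0 = 0 := by
    have hs' : σ s = -s := by linear_combination hs
    rw [U.refl.zero_left, map_inv₀, hs', inv_neg]; ring
  obtain ⟨t, ht, hU, htx⟩ := Radical.exists_UF U.refl hdd (U.refl.zero_left d) hc
  refine ⟨t, mem_specialLinear_iff.mp ht, Radical.UF_iso U.refl hdd hU, ?_⟩
  rw [htx, smul_zero, add_zero, U.refl.zero_right, mul_zero, sub_zero, hud, inv_mul_cancel₀ hs0, one_smul, hd, ← hl,
    add_sub_cancel]

theorem exists_common {u v : ι → F} (hu : u ≠ 0) (huu : f u u = 0) (hv : v ≠ 0) (huv : f u v = 0) :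
    ∃ z, f z z = 0 ∧ f z u ≠ 0 ∧ f z v ≠ 0 := by
  obtain ⟨x, hx⟩ := (U.refl.nondeg u hu).1
  obtain ⟨y, hy⟩ := (U.refl.nondeg v hv).1
  obtain ⟨z, hzu, hzv⟩ : ∃ z, f z u ≠ 0 ∧ f z v ≠ 0 := by
    by_cases h1 : f x v = 0
    · by_cases h2 : f y u = 0
      · exact ⟨x + y, by rwa [U.refl.semi.add_left, h2, add_zero], by rwa [U.refl.semi.add_left, h1, zero_add]⟩
      · exact ⟨y, h2, hy⟩
    · exact ⟨x, hx, h1⟩
  obtain ⟨X, hX⟩ := U.exists_trace (U.fixed z)
  have hu' : f u z ≠ 0 := fun e => hzu (U.refl.eq_zero_swap e)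
  refine ⟨z + (-X / f u z) • u, ?_, ?_, ?_⟩
  · rw [U.expand, huu, div_mul_cancel₀ _ hu', map_neg]
    linear_combination -hX
  · rwa [U.refl.semi.add_left, U.refl.semi.smul_left, huu, mul_zero, add_zero]
  · rwa [U.refl.semi.add_left, U.refl.semi.smul_left, huv, mul_zero, add_zero]

/-- Singular vectors are moved to multiples of each other. -/
theorem move {u v : ι → F} (hu : u ≠ 0) (huu : f u u = 0) (hv : v ≠ 0) (hvv : f v v = 0) :
    ∃ t : GL ι F, (t : Matrix ι ι F).det = 1 ∧
      (∀ a b, f ((t : Matrix ι ι F) *ᵥ a) ((t : Matrix ι ι F) *ᵥ b) = f a b) ∧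
      ∃ l : F, l ≠ 0 ∧ (t : Matrix ι ι F) *ᵥ u = l • v := by
  obtain ⟨s, hs0, hs⟩ := U.sig.exists_skew
  by_cases huv : f u v = 0
  swap
  · obtain ⟨t, ht, hiso, h⟩ := U.move_one huu hvv huv hs0 hs
    exact ⟨t, ht, hiso, _, (map_ne_zero σ).mpr (div_ne_zero hs0 huv), h⟩
  obtain ⟨z, hzz, hzu, hzv⟩ := U.exists_common hu huu hv huv
  have huz : f u z ≠ 0 := fun e => hzu (U.refl.eq_zero_swap e)
  obtain ⟨t, ht, hiso, h⟩ := U.move_one huu hzz huz hs0 hs
  obtain ⟨t', ht', hiso', h'⟩ := U.move_one hzz hvv hzv hs0 hs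
  refine ⟨t' * t, by rw [Units.val_mul, Matrix.det_mul, ht', ht, one_mul], fun a b => ?_,
    σ (s / f u z) * σ (s / f z v),
    mul_ne_zero ((map_ne_zero σ).mpr (div_ne_zero hs0 huz)) ((map_ne_zero σ).mpr (div_ne_zero hs0 hzv)), ?_⟩
  · rw [gl_mul_mulVec, gl_mul_mulVec, hiso', hiso]
  · rw [gl_mul_mulVec, h, Matrix.mulVec_smul, h', smul_smul]

theorem spanned (h : 2 ≤ Fintype.card ι) : Submodule.span F {v : ι → F | f v v = 0} = ⊤ := by
  obtain ⟨W, hW⟩ : ∃ W, W = Submodule.span F {v : ι → F | f v v = 0} := ⟨_, rfl⟩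
  rw [← hW]
  refine eq_top_iff.mpr fun x _ => ?_
  by_contra hx
  have hx0 : x ≠ 0 := fun e => hx (e ▸ zero_mem W)
  -- every isotropic vector is orthogonal to `x`
  have horth : ∀ w, f w w = 0 → f w x = 0 := fun w hw => by
    by_contra hwx
    obtain ⟨X, hX⟩ := U.exists_trace (U.fixed x)
    refine hx ?_
    have h1 : x + (-X / f w x) • w ∈ W := hW ▸ Submodule.subset_span (show f _ _ = 0 by
      rw [U.expand, hw, div_mul_cancel₀ _ hwx, map_neg]; linear_combination -hX)
    have h2 : w ∈ W := hW ▸ Submodule.subset_span hw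
    simpa using sub_mem h1 (W.smul_mem (-X / f w x) h2)
  obtain ⟨z, hz⟩ := (U.refl.nondeg x hx0).1
  -- so the norm vanishes nowhere outside the orthogonal of `x` only if everything is forced
  by_cases hxx : f x x = 0
  · exact hx (hW ▸ Submodule.subset_span hxx)
  obtain ⟨P, hP, hPx⟩ := U.exists_perp (k := 1) fun _ => x
  obtain ⟨y, hy, hyy⟩ : ∃ y ∈ P, f y y ≠ 0 := by
    by_contra hcon
    push Not at hcon
    obtain ⟨y, hy, hy0⟩ := P.exists_mem_ne_zero_of_ne_bot fun e => by rw [e, finrank_bot] at hP; omega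
    have hperp : U.refl.perp (P ⊔ Submodule.span F {x}) = ⊥ := by
      have h1 : finrank F ↥(P ⊔ Submodule.span F {x}) = Fintype.card ι := by
        have h2 := Submodule.finrank_sup_add_finrank_inf_eq P (Submodule.span F {x})
        have h3 : P ⊓ Submodule.span F {x} = ⊥ := by
          refine eq_bot_iff.mpr fun w hw => ?_
          obtain ⟨hwP, hwx⟩ := Submodule.mem_inf.mp hw
          obtain ⟨r, rfl⟩ := Submodule.mem_span_singleton.mp hwx
          have := hPx _ hwP 0
          rw [U.refl.semi.smul_left, mul_eq_zero] at this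
          rw [this.resolve_right hxx, zero_smul]
          exact zero_mem _
        rw [h3, finrank_bot, finrank_span_singleton hx0] at h2
        have h4 := (Submodule.finrank_le (P ⊔ Submodule.span F {x})).trans_eq (finrank_fintype_fun_eq_card F)
        omega
      have h5 := U.refl.finrank_perp (P ⊔ Submodule.span F {x})
      exact Submodule.finrank_eq_zero.mp (by omega)
    have : y ∈ U.refl.perp (P ⊔ Submodule.span F {x}) := fun w hw => by
      obtain ⟨p, hp, r, hr, rfl⟩ := Submodule.mem_sup.mp hw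
      obtain ⟨c, rfl⟩ := Submodule.mem_span_singleton.mp hr
      rw [U.refl.semi.add_right, U.refl.semi.smul_right, hPx y hy 0, U.null hcon y hy p hp, mul_zero, add_zero]
    exact hy0 ((Submodule.mem_bot F).mp (hperp ▸ this))
  obtain ⟨s, hs⟩ := U.fix_norm hyy x (b := 0) (map_zero σ)
  have := horth _ hs
  rw [U.refl.semi.add_left, U.refl.semi.smul_left, hPx y hy 0, mul_zero, add_zero] at this
  exact hxx this

theorem join (u v : ι → F) (hu : f u u = 0) (hv : f v v = 0) : ∃ k : F, k ≠ 0 ∧ f (u + k • v) (u + k • v) = 0 := by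
  obtain ⟨s, hs0, hs⟩ := U.sig.exists_skew
  by_cases huv : f v u = 0
  · exact ⟨1, one_ne_zero, by rw [U.expand, hu, hv, huv]; simp⟩
  · refine ⟨s / f v u, div_ne_zero hs0 huv, ?_⟩
    rw [U.expand, hu, hv, div_mul_cancel₀ _ huv]
    linear_combination hs

theorem nice (h : 4 ≤ Fintype.card ι) : Nice σ (1 : F) f where
  skew := by
    obtain ⟨s, hs0, hs⟩ := U.sig.exists_skew
    exact ⟨s, hs0, by rw [one_mul, hs]⟩
  halve v := by
    obtain ⟨X, hX⟩ := U.exists_trace (U.fixed v)
    exact ⟨X, by rw [one_mul, hX]⟩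
  mid := Or.inl fun o o₂ hoo hoo₂ => by
    by_cases hmem : o₂ ∈ Submodule.span F {o}
    · obtain ⟨r, rfl⟩ := Submodule.mem_span_singleton.mp hmem
      obtain ⟨w, hw0, hww, hws, hwo⟩ := U.exists_iso_avoid ![o] o (by omega)
      have h0 : f w o = 0 := hws 0
      exact ⟨w, hw0, hww, h0, by rw [U.refl.semi.smul_right, h0, mul_zero], hwo⟩
    obtain ⟨W, hW, hWs⟩ := U.exists_perp ![o, o₂]
    obtain ⟨w, hw, hw0, hww⟩ := U.exists_iso (W := W) (by omega)
    have h0 : f w o = 0 := hWs w hw 0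
    have h1 : f w o₂ = 0 := hWs w hw 1
    by_cases hwo : w ∈ Submodule.span F {o}
    swap
    · exact ⟨w, hw0, hww, h0, h1, hwo⟩
    -- then the two vectors are orthogonal and the second one serves
    obtain ⟨r, rfl⟩ := Submodule.mem_span_singleton.mp hwo
    rw [U.refl.semi.smul_left] at h1
    have h2 : f o o₂ = 0 := (mul_eq_zero.mp h1).resolve_left fun e => hw0 (by rw [e, zero_smul])
    exact ⟨o₂, fun e => hmem (e ▸ zero_mem _), hoo₂, U.refl.eq_zero_swap h2, hoo₂, hmem⟩
  move _ _ hu huu hv hvv := U.move hu huu hv hvv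
  spanned := U.spanned (by omega)
  join := U.join

end UForm

end Cfsg.Agent.Classical.TensorMax.Form
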