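/-
An algebra of matrices invariant under the symplectic group is scalar or everything.
-/
import Cfsg.Agent.Lib.Classical.TensorMax.Form.SpTools

set_option autoImplicit false
set_option linter.unusedSectionVars false

namespace Cfsg.Agent.Classical.TensorMax.Form

open Matrix Module Cfsg.Geo
open Cfsg.Agent.Classical

variable {ι : Type} [Fintype ι] [DecidableEq ι] {F : Type*} [Field F] {f : (ι → F) → (ι → F) → F}

local notation:max g:max " ⬝ₘ " x:max => ((g : GL ι F) : Matrix ι ι F) *ᵥ x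
local notation "Mat" => Matrix ι ι F

/-- The map `x ↦ f x v • u`. -/
def dyad (f : (ι → F) → (ι → F) → F) (u v : ι → F) : Matrix ι ι F := vecMulVec u (gramMatrix f *ᵥ v)

/-- Closed under the operations and under conjugation by isometries. -/
structure Closed (f : (ι → F) → (ι → F) → F) (P : Matrix ι ι F → Prop) : Prop where
  add : ∀ {φ ψ}, P φ → P ψ → P (φ + ψ)
  smul : ∀ (r : F) {φ}, P φ → P (r • φ)
  mul : ∀ {φ ψ}, P φ → P ψ → P (φ * ψ)
  conj : ∀ t ∈ TGen f, ∀ {φ}, P φ → P ((t : Matrix ι ι F) * φ * ((t⁻¹ : GL ι F) : Matrix ι ι F))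

theorem rank_add_le' (M N : Matrix ι ι F) : (M + N).rank ≤ M.rank + N.rank :=
  (Submodule.finrank_mono (t := LinearMap.range M.mulVecLin ⊔ LinearMap.range N.mulVecLin) (by
    rintro _ ⟨x, rfl⟩
    rw [Matrix.mulVecLin_apply, Matrix.add_mulVec]
    exact Submodule.add_mem_sup ⟨x, rfl⟩ ⟨x, rfl⟩)).trans (Submodule.finrank_add_le_finrank_add_finrank _ _)

variable (A : SForm f)

include A

theorem dyad_mulVec (u v x : ι → F) : dyad f u v *ᵥ x = f x v • u := by
  funext i
  rw [dyad, Matrix.vecMulVec_mulVec, A.refl.apply_eq, show ((RingEquiv.refl F : F ≃+* F) : F → F) ∘ v = v from rfl,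
    dotProduct_comm]
  simp [mul_comm]

theorem dyad_conj {t : GL ι F} (ht : t ∈ TGen f) (u v : ι → F) :
    (t : Mat) * dyad f u v * ((t⁻¹ : GL ι F) : Mat) = dyad f (t ⬝ₘ u) (t ⬝ₘ v) :=
  Matrix.toLin'.injective (LinearMap.ext fun x => by
    simp only [Matrix.toLin'_apply, ← Matrix.mulVec_mulVec, dyad_mulVec A, Matrix.mulVec_smul]
    congr 1
    conv_rhs => rw [← gl_mulVec_inv_cancel t x, (tgen_iso A ht).2])

theorem dyad_mul (u v r p : ι → F) : dyad f u v * dyad f r p = f r v • dyad f u p :=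
  Matrix.toLin'.injective (LinearMap.ext fun x => by
    simp only [Matrix.toLin'_apply, ← Matrix.mulVec_mulVec, dyad_mulVec A, Matrix.smul_mulVec,
      A.refl.semi.smul_left, smul_smul]
    rw [mul_comm])

theorem exists_not_eigen {φ : Mat} (hns : ∀ r : F, φ ≠ r • 1) : ∃ v, φ *ᵥ v ∉ Submodule.span F {v} := by
  by_contra hcon
  push Not at hcon
  choose r hr using fun v => Submodule.mem_span_singleton.mp (hcon v)
  rcases isEmpty_or_nonempty ι with hι | hι
  · exact hns 0 (Matrix.ext fun i => (hι.false i).elim)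
  obtain ⟨i₀⟩ := hι
  obtain ⟨e, he⟩ : ∃ e : ι → F, e = Pi.single i₀ 1 := ⟨_, rfl⟩
  have he0 : e ≠ 0 := by rw [he]; simp
  refine hns (r e) (Matrix.toLin'.injective (LinearMap.ext fun x => ?_))
  simp only [Matrix.toLin'_apply, Matrix.smul_mulVec, Matrix.one_mulVec]
  by_cases hx : x ∈ Submodule.span F {e}
  · obtain ⟨s, rfl⟩ := Submodule.mem_span_singleton.mp hx
    rw [Matrix.mulVec_smul, ← hr e, smul_comm]
  · have h := hr (x + e)
    rw [Matrix.mulVec_add, ← hr x, ← hr e, smul_add] at h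
    have h' : (r (x + e) - r x) • x = (r e - r (x + e)) • e := by linear_combination (norm := module) h
    by_cases hd : r (x + e) - r x = 0
    · rw [hd, zero_smul] at h'
      have h2 := (smul_eq_zero.mp h'.symm).resolve_right he0
      rw [← hr x, show r x = r e by linear_combination -hd - h2]
    · exact (hx (Submodule.mem_span_singleton.mpr ⟨(r (x + e) - r x)⁻¹ * (r e - r (x + e)), by
        rw [← smul_smul, ← h', smul_smul, inv_mul_cancel₀ hd, one_smul]⟩)).elim

/-- A singular non-zero element. -/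
theorem exists_singular {P : Mat → Prop} (C : Closed f P) (hone : P 1)
    (hq : (∃ θ : F, θ ≠ 0 ∧ θ ≠ 1) ∨ 3 ≤ Fintype.card ι) {φ : Mat} (hφ : P φ) (hns : ∀ r : F, φ ≠ r • 1) :
    ∃ M, P M ∧ M ≠ 0 ∧ ∃ k : ι → F, k ≠ 0 ∧ M *ᵥ k = 0 := by
  obtain ⟨v, hv⟩ := exists_not_eigen A hns
  have hv0 : v ≠ 0 := fun e => hv (by rw [e, Matrix.mulVec_zero]; exact zero_mem _)
  obtain ⟨w, hw⟩ : ∃ w, w = φ *ᵥ v := ⟨_, rfl⟩
  rw [← hw] at hv
  have hE : ∀ c : F, ∃ E, P E ∧ ∀ x, E *ᵥ x = (c * f (φ *ᵥ x) v - c * c * f x v * f w v) • v - (c * f x v) • w := by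
    intro c
    obtain ⟨t, ht, -, -⟩ := exists_stv A v c
    have htG : t ∈ TGen f := Subgroup.subset_closure ⟨v, c, ht⟩
    have hinv : ∀ x, t⁻¹ ⬝ₘ x = x - (c * f x v) • v := fun x => by
      refine gl_mulVec_injective t ?_
      change t ⬝ₘ (t⁻¹ ⬝ₘ x) = t ⬝ₘ (x - (c * f x v) • v)
      rw [gl_mulVec_inv_cancel, ht, A.sub_left, A.refl.semi.smul_left, A.alt, mul_zero, sub_zero, sub_add_cancel]
    refine ⟨(t : Mat) * φ * ((t⁻¹ : GL ι F) : Mat) + (-1 : F) • φ, C.add (C.conj t htG hφ) (C.smul _ hφ), fun x => ?_⟩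
    rw [Matrix.add_mulVec, Matrix.smul_mulVec, ← Matrix.mulVec_mulVec, ← Matrix.mulVec_mulVec, hinv, Matrix.mulVec_sub,
      Matrix.mulVec_smul, ← hw, ht, A.sub_left, A.refl.semi.smul_left]
    match_scalars <;> ring
  obtain ⟨x₁, hx₁⟩ : ∃ x, f x v = 1 := by
    obtain ⟨x, hx⟩ := (A.refl.nondeg v hv0).1
    exact ⟨(f x v)⁻¹ • x, by rw [A.refl.semi.smul_left, inv_mul_cancel₀ hx]⟩
  rcases hq with ⟨θ, hθ0, hθ1⟩ | h3
  · have key : ∀ c : F, ∃ M, P M ∧ M *ᵥ v = 0 ∧
        M *ᵥ x₁ = (c * f (φ *ᵥ x₁) v - c * c * f w v) • v - c • w - (c * f w v) • x₁ := fun c => by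
      obtain ⟨E, hEP, hE⟩ := hE c
      refine ⟨E + (-(c * f w v)) • 1, C.add hEP (C.smul _ hone), ?_, ?_⟩
      · rw [Matrix.add_mulVec, Matrix.smul_mulVec, Matrix.one_mulVec, hE, A.alt, ← hw]
        module
      · rw [Matrix.add_mulVec, Matrix.smul_mulVec, Matrix.one_mulVec, hE, hx₁]
        module
    by_contra hcon
    push Not at hcon
    have hz : ∀ c : F, (c * f (φ *ᵥ x₁) v - c * c * f w v) • v - c • w - (c * f w v) • x₁ = 0 := fun c => by
      obtain ⟨M, hM, hMv, hMx⟩ := key c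
      by_cases hM0 : M = 0
      · rw [← hMx, hM0, Matrix.zero_mulVec]
      · exact (hcon M hM hM0 v hv0 hMv).elim
    have h1 := hz 1
    have h2 := hz θ
    have h3 : (θ * (θ - 1) * f w v) • v = 0 := by linear_combination (norm := module) θ • h1 - h2
    have hβ : f w v = 0 := (mul_eq_zero.mp ((smul_eq_zero.mp h3).resolve_right hv0)).resolve_left
      (mul_ne_zero hθ0 (sub_ne_zero.mpr hθ1))
    rw [hβ] at h1
    exact hv (Submodule.mem_span_singleton.mpr ⟨f (φ *ᵥ x₁) v, by linear_combination (norm := module) h1⟩)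
  · obtain ⟨E, hEP, hE⟩ := hE 1
    refine ⟨E, hEP, fun e => hv (Submodule.mem_span_singleton.mpr ⟨f (φ *ᵥ x₁) v - f w v, ?_⟩), ?_⟩
    · have h := hE x₁
      rw [e, Matrix.zero_mulVec, hx₁] at h
      linear_combination (norm := module) -h
    · let L : (ι → F) →ₗ[F] F × F :=
        { toFun := fun x => (f x v, f (φ *ᵥ x) v)
          map_add' := fun x y => by
            rw [A.refl.semi.add_left, Matrix.mulVec_add, A.refl.semi.add_left]; rfl
          map_smul' := fun r x => by
            rw [A.refl.semi.smul_left, Matrix.mulVec_smul, A.refl.semi.smul_left]; rfl }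
      obtain ⟨k, hk, hk0⟩ := Submodule.exists_mem_ne_zero_of_ne_bot (LinearMap.ker_ne_bot_of_finrank_lt (f := L) (by
        rw [finrank_prod, finrank_self, finrank_fintype_fun_eq_card]; omega))
      have e1 : f k v = 0 := congrArg Prod.fst (LinearMap.mem_ker.mp hk)
      have e2 : f (φ *ᵥ k) v = 0 := congrArg Prod.snd (LinearMap.mem_ker.mp hk)
      exact ⟨k, hk0, by rw [hE, e1, e2]; simp⟩

/-- From a singular element to one of rank one. -/
theorem exists_dyad {P : Mat → Prop} (C : Closed f P) {M : Mat} (hM : P M) (hM0 : M ≠ 0) {k : ι → F} (hk : k ≠ 0)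
    (hMk : M *ᵥ k = 0) : ∃ u v, u ≠ 0 ∧ v ≠ 0 ∧ P (dyad f u v) := by
  induction hr : M.rank using Nat.strong_induction_on generalizing M k with
  | _ R ih =>
  obtain ⟨x₀, hx₀⟩ : ∃ x, M *ᵥ x ≠ 0 := by
    by_contra hcon
    push Not at hcon
    exact hM0 (Matrix.toLin'.injective (LinearMap.ext fun x => by
      rw [Matrix.toLin'_apply, hcon, map_zero, LinearMap.zero_apply]))
  have hx0 : x₀ ≠ 0 := fun e => hx₀ (by rw [e, Matrix.mulVec_zero])
  by_cases hR : R ≤ 1
  · have hspan : LinearMap.range M.mulVecLin = Submodule.span F {M *ᵥ x₀} := by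
      refine (Submodule.eq_of_le_of_finrank_le ?_ ?_).symm
      · rw [Submodule.span_singleton_le_iff_mem]; exact ⟨x₀, rfl⟩
      · rw [finrank_span_singleton hx₀, ← Matrix.rank, hr]; exact hR
    have hmem : ∀ j, M *ᵥ Pi.single j 1 ∈ Submodule.span F {M *ᵥ x₀} := fun j => by
      rw [← hspan]; exact ⟨Pi.single j 1, rfl⟩
    choose y hy using fun j => Submodule.mem_span_singleton.mp (hmem j)
    obtain ⟨G, hG⟩ : ∃ G, G = gramMatrix f := ⟨_, rfl⟩
    have hGdet := (Matrix.isUnit_iff_isUnit_det G).mp (hG ▸ A.refl.gram_isUnit)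
    have e : dyad f (M *ᵥ x₀) (G⁻¹ *ᵥ y) = M := by
      rw [dyad, ← hG, Matrix.mulVec_mulVec, Matrix.mul_nonsing_inv G hGdet, Matrix.one_mulVec]
      ext i j
      have := congrFun (hy j) i
      rw [Matrix.mulVec_single_one, Matrix.col_apply] at this
      rw [vecMulVec_apply, ← this, Pi.smul_apply, smul_eq_mul, mul_comm]
    refine ⟨M *ᵥ x₀, G⁻¹ *ᵥ y, hx₀, fun e0 => hM0 ?_, by rwa [e]⟩
    rw [← e, e0, dyad, Matrix.mulVec_zero, Matrix.vecMulVec_zero]
  let ρ : GL ι F → ℕ := fun t => (M * (t : Mat) * M).rank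
  by_cases hmid : ∃ t ∈ TGen f, ρ t ≠ 0 ∧ ρ t < R
  · obtain ⟨t, ht, h0, hlt⟩ := hmid
    have hN : (M * ((t : Mat) * M * ((t⁻¹ : GL ι F) : Mat))).rank = ρ t := by
      rw [← Matrix.mul_assoc, ← Matrix.mul_assoc]
      exact Matrix.rank_mul_eq_left_of_isUnit_det _ _ ((Matrix.isUnit_iff_isUnit_det _).mp (t⁻¹).isUnit)
    refine ih _ hlt (C.mul hM (C.conj t ht hM)) (fun e => h0 (by rw [← hN, e, Matrix.rank_zero])) (k := t ⬝ₘ k)
      (fun e => hk (gl_mulVec_injective t (e.trans (Matrix.mulVec_zero _).symm))) ?_ hN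
    rw [← Matrix.mulVec_mulVec, ← Matrix.mulVec_mulVec, gl_inv_mulVec_cancel, ← Matrix.mulVec_mulVec, hMk,
      Matrix.mulVec_zero, Matrix.mulVec_zero]
  push Not at hmid
  have hle : ∀ t, ρ t ≤ R := fun t => hr ▸ Matrix.rank_mul_le_right _ _
  have hstep : ∀ (s t : GL ι F) (v : ι → F) (c : F), STv f t v c → ρ (s * t) ≤ ρ s + 1 := by
    intro s t v c ht
    have e : M * ((s * t : GL ι F) : Mat) * M = M * (s : Mat) * M + M * ((s : Mat) * dyad f (c • v) v) * M := by
      rw [← add_mul, ← mul_add, Units.val_mul]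
      congr 2
      refine Matrix.toLin'.injective (LinearMap.ext fun x => ?_)
      simp only [Matrix.toLin'_apply, Matrix.add_mulVec, ← Matrix.mulVec_mulVec, dyad_mulVec A]
      rw [ht, Matrix.mulVec_add, smul_smul, mul_comm]
    simp only [ρ, e]
    refine (rank_add_le' _ _).trans (Nat.add_le_add_left ?_ _)
    refine (Matrix.rank_mul_le_left _ _).trans ((Matrix.rank_mul_le_right _ _).trans
      ((Matrix.rank_mul_le_right _ _).trans (Matrix.rank_vecMulVec_le _ _)))
  have hconst : ∀ t ∈ TGen f, ∀ s ∈ TGen f, ρ (s * t) = ρ s := by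
    intro t ht
    induction ht using Subgroup.closure_induction with
    | mem t ht =>
      intro s hs
      obtain ⟨v, c, ht⟩ := ht
      have htm : t ∈ TGen f := Subgroup.subset_closure ⟨v, c, ht⟩
      have h1 := hstep s t v c ht
      obtain ⟨t', ht', -, -⟩ := exists_stv A v (-c)
      have e : t * t' = 1 := gl_ext_mulVec fun x => by
        rw [gl_mul_mulVec, ht, ht', A.refl.semi.add_left, A.refl.semi.smul_left, A.alt, mul_zero, add_zero,
          Units.val_one, Matrix.one_mulVec]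
        module
      have h2 := hstep (s * t) t' v (-c) ht'
      rw [mul_assoc, e, mul_one] at h2
      have a1 := hmid _ (mul_mem hs htm)
      have a2 := hmid _ hs
      have := hle (s * t)
      have := hle s
      omega
    | one => intro s _; rw [mul_one]
    | mul a b ha _ iha ihb => intro s hs; rw [← mul_assoc, ihb _ (mul_mem hs ha), iha s hs]
    | inv a ha iha =>
      intro s hs
      have := iha _ (mul_mem hs (inv_mem ha))
      rw [inv_mul_cancel_right] at this
      exact this.symm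
  obtain ⟨t₀, ht₀, e₀⟩ := tmove_one A hx₀ hk
  obtain ⟨t₁, ht₁, e₁⟩ := tmove_one A hx₀ hx0
  have h0 : ρ t₀ < R := by
    have hle' : LinearMap.ker M.mulVecLin < LinearMap.ker (M * (t₀ : Mat) * M).mulVecLin := by
      refine lt_of_le_of_ne (fun x hx => ?_) fun e => hx₀ ?_
      · simp only [LinearMap.mem_ker, Matrix.mulVecLin_apply] at hx ⊢
        rw [← Matrix.mulVec_mulVec, hx, Matrix.mulVec_zero]
      · have : x₀ ∈ LinearMap.ker (M * (t₀ : Mat) * M).mulVecLin := by
          rw [LinearMap.mem_ker, Matrix.mulVecLin_apply, ← Matrix.mulVec_mulVec, ← Matrix.mulVec_mulVec, e₀, hMk]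
        rw [← e] at this
        simpa using this
    have := Submodule.finrank_lt_finrank_of_lt hle'
    have a := LinearMap.finrank_range_add_finrank_ker M.mulVecLin
    have b := LinearMap.finrank_range_add_finrank_ker (M * (t₀ : Mat) * M).mulVecLin
    rw [← Matrix.rank, hr] at a
    rw [← Matrix.rank] at b
    simp only [ρ]
    omega
  have h1 : ρ t₁ ≠ 0 := fun e => hx₀ (by
    have h : LinearMap.range (M * (t₁ : Mat) * M).mulVecLin = ⊥ := Submodule.finrank_eq_zero.mp e
    have := LinearMap.congr_fun (LinearMap.range_eq_bot.mp h) x₀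
    rwa [Matrix.mulVecLin_apply, ← Matrix.mulVec_mulVec, ← Matrix.mulVec_mulVec, e₁, LinearMap.zero_apply] at this)
  have c₀ := hconst t₀ ht₀ 1 (one_mem _)
  have c₁ := hconst t₁ ht₁ 1 (one_mem _)
  rw [one_mul] at c₀ c₁
  have := hmid t₁ ht₁ h1
  omega

/-- A closed set with a non-scalar element contains all maps of rank one. -/
theorem all_dyads {P : Mat → Prop} (C : Closed f P) (hone : P 1)
    (hq : (∃ θ : F, θ ≠ 0 ∧ θ ≠ 1) ∨ 3 ≤ Fintype.card ι) {φ : Mat} (hφ : P φ) (hns : ∀ r : F, φ ≠ r • 1)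
    (u v : ι → F) : P (dyad f u v) := by
  obtain ⟨M, hM, hM0, k, hk, hMk⟩ := exists_singular A C hone hq hφ hns
  obtain ⟨u₀, p₀, hu₀, hp₀, h₀⟩ := exists_dyad A C hM hM0 hk hMk
  have hsmul : ∀ (r : F) (u v : ι → F), dyad f u (r • v) = r • dyad f u v := fun r u v => by
    rw [dyad, dyad, Matrix.mulVec_smul, Matrix.vecMulVec_smul]
  have hscale : ∀ {r : F} {u v : ι → F}, r ≠ 0 → P (r • dyad f u v) → P (dyad f u v) := fun {r u v} hr h => by
    have := C.smul r⁻¹ h
    rwa [smul_smul, inv_mul_cancel₀ hr, one_smul] at this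
  obtain ⟨p, hp, h1⟩ : ∃ p, p ∉ Submodule.span F {u₀} ∧ P (dyad f u₀ p) := by
    by_cases h : p₀ ∈ Submodule.span F {u₀}
    · obtain ⟨r, rfl⟩ := Submodule.mem_span_singleton.mp h
      rw [hsmul] at h₀
      have hr : r ≠ 0 := fun e => hp₀ (by rw [e, zero_smul])
      have huu := hscale hr h₀
      obtain ⟨d, hd⟩ := (A.refl.nondeg u₀ hu₀).1
      obtain ⟨t, ht, htu⟩ := tmove_one A hu₀ (show d ≠ 0 from fun e => hd (by rw [e, A.refl.zero_left]))
      have hdd := C.conj t ht huu
      rw [dyad_conj A ht, htu] at hdd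
      have := C.mul huu hdd
      rw [dyad_mul A] at this
      refine ⟨d, fun e => hd ?_, hscale hd this⟩
      obtain ⟨s, rfl⟩ := Submodule.mem_span_singleton.mp e
      rw [A.refl.semi.smul_left, A.alt, mul_zero]
    · exact ⟨p₀, h, h₀⟩
  have horth : ∀ u z, f u z = 0 → P (dyad f u z) := by
    have hfirst : ∀ z, f u₀ z = 0 → f p z ≠ 0 → P (dyad f u₀ z) := fun z hz hpz => by
      obtain ⟨t, ht, -, -⟩ := exists_stv A z 1
      have h2 := C.conj t (Subgroup.subset_closure ⟨z, 1, ht⟩) h1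
      rw [dyad_conj A (Subgroup.subset_closure ⟨z, 1, ht⟩), ht, ht, hz, one_mul, one_mul, zero_smul, add_zero] at h2
      refine hscale hpz ?_
      have := C.add h2 (C.smul (-1) h1)
      rw [← hsmul]
      convert this using 1
      rw [dyad, dyad, dyad, Matrix.mulVec_add, Matrix.vecMulVec_add]
      module
    have hsecond : ∀ z, f u₀ z = 0 → P (dyad f u₀ z) := fun z hz => by
      by_cases hpz : f p z = 0
      · obtain ⟨d, hd, hdp, -⟩ := exists_avoid A hp hp
        have hud : f u₀ d = 0 := A.refl.eq_zero_swap (hd u₀ (Submodule.mem_span_singleton_self u₀))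
        have a := hfirst (z + d) (by rw [A.refl.semi.add_right, hz, hud, add_zero])
          (by rwa [A.refl.semi.add_right, hpz, zero_add])
        have := C.add a (C.smul (-1) (hfirst d hud hdp))
        convert this using 1
        rw [dyad, dyad, dyad, Matrix.mulVec_add, Matrix.vecMulVec_add]
        module
      · exact hfirst z hz hpz
    intro u z huz
    rcases eq_or_ne u 0 with hu | hu
    · rw [hu, dyad, Matrix.zero_vecMulVec, ← zero_smul F φ]
      exact C.smul 0 hφ
    obtain ⟨t, ht, htu⟩ := tmove_one A hu₀ hu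
    have hz' : f u₀ (t⁻¹ ⬝ₘ z) = 0 := by
      rw [← huz, ← htu]
      conv_rhs => rw [← gl_mulVec_inv_cancel t z, (tgen_iso A ht).2]
    have := C.conj t ht (hsecond _ hz')
    rwa [dyad_conj A ht, htu, gl_mulVec_inv_cancel] at this
  by_cases huv : f u v = 0
  · exact horth u v huv
  have hu : u ∉ Submodule.span F {v} := fun e => huv (by
    obtain ⟨s, rfl⟩ := Submodule.mem_span_singleton.mp e
    rw [A.refl.semi.smul_left, A.alt, mul_zero])
  obtain ⟨r, hr, hru, -⟩ := exists_avoid A hu hu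
  have := C.mul (horth u u (A.alt u)) (horth r v (hr v (Submodule.mem_span_singleton_self v)))
  rw [dyad_mul A] at this
  exact hscale (by rw [A.swap u r, neg_ne_zero]; exact hru) this

end Cfsg.Agent.Classical.TensorMax.Form
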