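/-
Two alternating forms: radical elements of a fibre are in the stabiliser unless a non-scalar slot occurs.
-/
import Cfsg.Agent.Lib.Classical.TensorMax.Form.SpAlg

set_option autoImplicit false
set_option linter.unusedSectionVars false

namespace Cfsg.Agent.Classical.TensorMax.Form

open Matrix Module Cfsg.Geo
open Cfsg.Agent.Classical

variable {α β : Type} [Fintype α] [DecidableEq α] [Fintype β] [DecidableEq β] {F : Type*} [Field F]
variable {fA : (α → F) → (α → F) → F} {fB : (β → F) → (β → F) → F}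
variable {Q : QuadraticForm F (α × β → F)} {X : Subgroup (GL (α × β) F)}

local notation:max g:max " ⬝ₘ " x:max => ((g : GL (α × β) F) : Matrix (α × β) (α × β) F) *ᵥ x
local notation "Mat" => Matrix α α F
local notation "adjA" => formAdj (RingEquiv.refl F) fA

/-- The setting without the quadratic form. -/
structure SCtx (fA : (α → F) → (α → F) → F) (fB : (β → F) → (β → F) → F) (X : Subgroup (GL (α × β) F)) : Prop where
  a : SForm fA
  b : SForm fB
  isot : ∀ g ∈ X, ∀ x y, tf (RingEquiv.refl F) fA fB ((g : Matrix (α × β) (α × β) F) *ᵥ x)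
    ((g : Matrix (α × β) (α × β) F) *ᵥ y) = tf (RingEquiv.refl F) fA fB x y
  right : ∀ t ∈ TGen fB, kr (1 : GL α F) t ∈ X
  six : 6 ≤ Fintype.card β

/-- The setting. -/
structure OCtx (fA : (α → F) → (α → F) → F) (fB : (β → F) → (β → F) → F) (Q : QuadraticForm F (α × β → F))
    (X : Subgroup (GL (α × β) F)) : Prop extends SCtx fA fB X where
  pol : ∀ x y, QuadraticMap.polar (⇑Q) x y = tf (RingEquiv.refl F) fA fB x y
  pure : ∀ u w, Q (tm u w) = 0
  iso : ∀ g ∈ X, ∀ x, Q ((g : Matrix (α × β) (α × β) F) *ᵥ x) = Q x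

/-- The element with centres `o`, `z` and slot `φ` lies in the group. -/
def Slot (fA : (α → F) → (α → F) → F) (fB : (β → F) → (β → F) → F) (X : Subgroup (GL (α × β) F))
    (o z : β → F) (φ : Matrix α α F) : Prop :=
  ∃ g ∈ X, ∀ a w, (g : Matrix (α × β) (α × β) F) *ᵥ tm a w =
    tm a w + fB w o • tm (φ *ᵥ a) z + fB w z • tm (formAdj (RingEquiv.refl F) fA φ *ᵥ a) o

/-- The slot occurs for every pair of centres. -/
def InS (fA : (α → F) → (α → F) → F) (fB : (β → F) → (β → F) → F) (X : Subgroup (GL (α × β) F))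
    (φ : Matrix α α F) : Prop :=
  ∀ o z, o ≠ 0 → fB o z = 0 → z ∉ Submodule.span F {o} → Slot fA fB X o z φ

/-- Preserving the quadratic form gives preserving the tensor product form. -/
theorem isot_of_iso (hpol : ∀ x y, QuadraticMap.polar (⇑Q) x y = tf (RingEquiv.refl F) fA fB x y)
    {g : GL (α × β) F} (hg : ∀ x, Q (g ⬝ₘ x) = Q x) (x y : α × β → F) :
    tf (RingEquiv.refl F) fA fB (g ⬝ₘ x) (g ⬝ₘ y) = tf (RingEquiv.refl F) fA fB x y := by
  rw [← hpol, ← hpol]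
  simp only [QuadraticMap.polar, ← Matrix.mulVec_add, hg]

variable (C : SCtx fA fB X)

include C

theorem SCtx.data : Data (RingEquiv.refl F) (-1) (-1) fA fB := ⟨C.a.refl, C.b.refl⟩

theorem SCtx.iso_tf {g : GL (α × β) F} (hg : g ∈ X) (x y : α × β → F) :
    tf (RingEquiv.refl F) fA fB (g ⬝ₘ x) (g ⬝ₘ y) = tf (RingEquiv.refl F) fA fB x y := C.isot g hg x y

theorem slot_add {o z : β → F} (hoz : fB o z = 0) {φ ψ : Mat} (hφ : Slot fA fB X o z φ) (hψ : Slot fA fB X o z ψ) :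
    Slot fA fB X o z (φ + ψ) := by
  obtain ⟨g, hg, hgx⟩ := hφ
  obtain ⟨h, hh, hhx⟩ := hψ
  refine ⟨g * h, mul_mem hg hh, fun a w => ?_⟩
  rw [gl_mul_mulVec, hhx, Matrix.mulVec_add, Matrix.mulVec_add, Matrix.mulVec_smul, Matrix.mulVec_smul, hgx, hgx, hgx,
    C.b.alt, C.b.alt, hoz, C.b.refl.eq_zero_swap hoz, C.a.refl.adj_add, Matrix.add_mulVec, Matrix.add_mulVec,
    tm_add_left, tm_add_left]
  module

theorem slot_addz {o z z' : β → F} (hoz : fB o z = 0) (hoz' : fB o z' = 0) (hzz : fB z z' = 0) {φ : Mat}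
    (hφ : Slot fA fB X o z φ) (hφ' : Slot fA fB X o z' φ) : Slot fA fB X o (z + z') φ := by
  obtain ⟨g, hg, hgx⟩ := hφ
  obtain ⟨h, hh, hhx⟩ := hφ'
  refine ⟨g * h, mul_mem hg hh, fun a w => ?_⟩
  rw [gl_mul_mulVec, hhx, Matrix.mulVec_add, Matrix.mulVec_add, Matrix.mulVec_smul, Matrix.mulVec_smul, hgx, hgx, hgx,
    C.b.alt, hoz, C.b.refl.eq_zero_swap hoz', C.b.refl.eq_zero_swap hzz, C.b.refl.semi.add_right, tm_add_right]
  module

theorem slot_smulz {o z : β → F} {φ : Mat} (r : F) :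
    Slot fA fB X o (r • z) φ ↔ Slot fA fB X o z (r • φ) := by
  constructor <;> rintro ⟨g, hg, hgx⟩ <;> refine ⟨g, hg, fun a w => ?_⟩ <;>
    rw [hgx, C.a.refl.adj_smul, RingEquiv.refl_apply, Matrix.smul_mulVec, Matrix.smul_mulVec, C.b.smul_right,
      tm_smul_left, tm_smul_left, tm_smul_right] <;>
    module

theorem slot_swap {o z : β → F} {φ : Mat} (hφ : Slot fA fB X o z φ) : Slot fA fB X z o (adjA φ) := by
  obtain ⟨g, hg, hgx⟩ := hφ
  exact ⟨g, hg, fun a w => by rw [hgx, C.a.refl.adj_adj]; abel⟩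

theorem slot_zero {o z : β → F} : Slot fA fB X o z 0 :=
  ⟨1, one_mem X, fun a w => by simp [C.a.refl.adj_zero]⟩

theorem slot_conjB {t : GL β F} (ht : t ∈ TGen fB) {o z : β → F} {φ : Mat} (hφ : Slot fA fB X o z φ) :
    Slot fA fB X ((t : Matrix β β F) *ᵥ o) ((t : Matrix β β F) *ᵥ z) φ := by
  obtain ⟨g, hg, hgx⟩ := hφ
  have hn := C.right _ ht
  refine ⟨kr 1 t * g * (kr 1 t)⁻¹, mul_mem (mul_mem hn hg) (inv_mem hn), fun a w => ?_⟩
  obtain ⟨w', rfl⟩ : ∃ w', w = (t : Matrix β β F) *ᵥ w' := ⟨_, (gl_mulVec_inv_cancel t w).symm⟩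
  have e : tm a ((t : Matrix β β F) *ᵥ w') = (kr (1 : GL α F) t) ⬝ₘ (tm a w') := by
    rw [kr_tm, Units.val_one, Matrix.one_mulVec]
  rw [gl_mul_mulVec, gl_mul_mulVec, e, gl_inv_mulVec_cancel, hgx, Matrix.mulVec_add, Matrix.mulVec_add,
    Matrix.mulVec_smul, Matrix.mulVec_smul, kr_tm, kr_tm, kr_tm, (tgen_iso C.b ht).2, (tgen_iso C.b ht).2]
  simp only [Units.val_one, Matrix.one_mulVec]

theorem slot_conjA {s : GL α F} (hs' : ∀ u v, fA ((s : Mat) *ᵥ u) ((s : Mat) *ᵥ v) = fA u v)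
    (hn : kr s (1 : GL β F) ∈ X) {o z : β → F} {φ : Mat} (hφ : Slot fA fB X o z φ) :
    Slot fA fB X o z ((s : Mat) * φ * ((s⁻¹ : GL α F) : Mat)) := by
  obtain ⟨g, hg, hgx⟩ := hφ
  have hadj : adjA ((s : Mat) * φ * ((s⁻¹ : GL α F) : Mat)) = (s : Mat) * adjA φ * ((s⁻¹ : GL α F) : Mat) :=
    C.a.refl.adj_unique fun u v => by
      simp only [← Matrix.mulVec_mulVec]
      conv_lhs => rw [← gl_mulVec_inv_cancel s v]
      rw [hs', C.a.refl.adj_spec]
      conv_rhs => rw [← gl_mulVec_inv_cancel s u, hs']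
  refine ⟨kr s 1 * g * (kr s 1)⁻¹, mul_mem (mul_mem hn hg) (inv_mem hn), fun a w => ?_⟩
  obtain ⟨a', rfl⟩ : ∃ a', a = (s : Mat) *ᵥ a' := ⟨_, (gl_mulVec_inv_cancel s a).symm⟩
  have e : tm ((s : Mat) *ᵥ a') w = (kr s (1 : GL β F)) ⬝ₘ (tm a' w) := by
    rw [kr_tm, Units.val_one, Matrix.one_mulVec]
  rw [gl_mul_mulVec, gl_mul_mulVec, e, gl_inv_mulVec_cancel, hgx, Matrix.mulVec_add, Matrix.mulVec_add,
    Matrix.mulVec_smul, Matrix.mulVec_smul, kr_tm, kr_tm, kr_tm, hadj]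
  simp only [Units.val_one, Matrix.one_mulVec, ← Matrix.mulVec_mulVec, gl_inv_mulVec_cancel]

theorem slot_one {o z : β → F} (hoz : fB o z = 0) : Slot fA fB X o z 1 := by
  obtain ⟨t, -, hiso, hU⟩ := exists_uel (α := α) C.data (o := o) (w := z) (c := 0) (C.b.alt o)
    (C.b.refl.eq_zero_swap hoz) (by rw [map_zero, mul_zero, C.b.alt, add_zero, add_zero])
  refine ⟨kr 1 t, C.right _ (tgen_top C.b t hiso), fun a w => ?_⟩
  rw [hU, ctr_tm C.data, ctr_tm C.data, C.a.refl.adj_one, Matrix.one_mulVec, zero_smul, zero_sub, RingEquiv.refl_apply,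
    neg_one_smul, neg_neg, tm_smul_left, tm_smul_left]

theorem exists_z {o z : β → F} : ∃ d, fB o d = 0 ∧ fB z d = 0 ∧ d ∉ Submodule.span F {o, z} := by
  by_contra hcon
  push Not at hcon
  have hle : C.b.refl.perp (Submodule.span F {o, z}) ≤ Submodule.span F {o, z} := fun d hd =>
    hcon d (C.b.refl.eq_zero_swap (hd o (Submodule.subset_span (by simp))))
      (C.b.refl.eq_zero_swap (hd z (Submodule.subset_span (by simp))))
  have h1 := Submodule.finrank_mono hle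
  have h2 := C.b.refl.finrank_perp (Submodule.span F {o, z})
  have h3 : finrank F (Submodule.span F ({o, z} : Set (β → F))) ≤ 2 := by
    classical
    have := finrank_span_finset_le_card (R := F) ({o, z} : Finset (β → F))
    rw [Finset.coe_pair] at this
    exact this.trans Finset.card_le_two
  have := C.six
  omega

/-- One pair of centres suffices. -/
theorem inS_of_slot {o z : β → F} (ho : o ≠ 0) (hoz : fB o z = 0) (hz : z ∉ Submodule.span F {o}) {φ : Mat}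
    (hφ : Slot fA fB X o z φ) : InS fA fB X φ := fun o' z' ho' hoz' hz' => by
  obtain ⟨t, ht, h1, h2⟩ := tmove_pair C.b ho ho' hoz hoz' hz hz'
  have := slot_conjB C ht hφ
  rwa [h1, h2] at this

theorem inS_one : InS fA fB X 1 := fun _ _ _ h _ => slot_one C h

theorem inS_adj {φ : Mat} (h : InS fA fB X φ) : InS fA fB X (adjA φ) := fun o z ho hoz hz => by
  have hz0 : z ≠ 0 := fun e => hz (e ▸ zero_mem _)
  refine slot_swap C (h z o hz0 (C.b.refl.eq_zero_swap hoz) fun e => ?_)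
  obtain ⟨r, hr⟩ := Submodule.mem_span_singleton.mp e
  have hr0 : r ≠ 0 := fun e0 => ho (by rw [← hr, e0, zero_smul])
  exact hz (Submodule.mem_span_singleton.mpr ⟨r⁻¹, by rw [← hr, smul_smul, inv_mul_cancel₀ hr0, one_smul]⟩)

theorem inS_mul {φ ψ : Mat} (hψ : InS fA fB X ψ) (hφ : InS fA fB X φ) : InS fA fB X (ψ * φ) := by
  intro o z' ho hoz' hz'
  have D := C.data
  obtain ⟨z, hzo, hzz', hzsp⟩ := exists_z C (o := o) (z := z')
  have hzW : z ∉ Submodule.span F ({o, z'} : Set (β → F)) := hzsp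
  obtain ⟨o', ho'o, ho'z', hzo'⟩ : ∃ o', fB o' o = 0 ∧ fB o' z' = 0 ∧ fB z o' = 1 := by
    obtain ⟨d, hd, hzd, -⟩ := exists_avoid C.b hzW hzW
    exact ⟨(fB z d)⁻¹ • d, by rw [C.b.refl.semi.smul_left, hd o (Submodule.subset_span (by simp)), mul_zero],
      by rw [C.b.refl.semi.smul_left, hd z' (Submodule.subset_span (by simp)), mul_zero],
      by rw [C.b.smul_right, inv_mul_cancel₀ hzd]⟩
  have ho'0 : o' ≠ 0 := fun e => by rw [e, C.b.refl.zero_right] at hzo'; exact zero_ne_one hzo'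
  have hz'o' : z' ∉ Submodule.span F {o'} := fun e => by
    obtain ⟨r, hr⟩ := Submodule.mem_span_singleton.mp e
    have hr0 : r = 0 := by
      have h := hzz'
      rw [← hr, C.b.refl.semi.smul_left, C.b.swap z o', hzo', mul_neg, mul_one, neg_eq_zero] at h
      exact h
    exact hz' (by rw [← hr, hr0, zero_smul]; exact zero_mem _)
  obtain ⟨g, hg, hgx⟩ := hφ o z ho hzo fun e => hzsp (Submodule.span_mono (by simp) e)
  obtain ⟨h, hh, hhx⟩ := hψ o' z' ho'0 ho'z' hz'o'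
  obtain ⟨K, hK⟩ : ∃ K, K = h * g * (g * h)⁻¹ := ⟨_, rfl⟩
  refine ⟨K, hK ▸ mul_mem (mul_mem hh hg) (inv_mem (mul_mem hg hh)), fun a w => ?_⟩
  have hoo' : fB o o' = 0 := C.b.refl.eq_zero_swap ho'o
  have hfix : ∀ x, (g * h) ⬝ₘ x = (h * g) ⬝ₘ x → K ⬝ₘ ((g * h) ⬝ₘ x) = (g * h) ⬝ₘ x := fun x e => by
    rw [hK, gl_mul_mulVec, gl_inv_mulVec_cancel, ← e]
  have zo : fB z o = 0 := C.b.refl.eq_zero_swap hzo
  have zz' : fB z z' = 0 := C.b.refl.eq_zero_swap hzz'
  have z'o : fB z' o = 0 := C.b.refl.eq_zero_swap hoz'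
  have z'o' : fB z' o' = 0 := C.b.refl.eq_zero_swap ho'z'
  have o'z : fB o' z = -1 := by rw [C.b.swap z o', hzo']
  have fo : ∀ c, g ⬝ₘ (tm c o) = tm c o ∧ h ⬝ₘ (tm c o) = tm c o := fun c => by
    constructor
    · rw [hgx, C.b.alt, hzo]; simp
    · rw [hhx, hoo', hoz']; simp
  have fz' : ∀ c, g ⬝ₘ (tm c z') = tm c z' ∧ h ⬝ₘ (tm c z') = tm c z' := fun c => by
    constructor
    · rw [hgx, z'o, hzz']; simp
    · rw [hhx, C.b.alt, z'o']; simp
  have Kfix : ∀ c, K ⬝ₘ (tm c o) = tm c o ∧ K ⬝ₘ (tm c z') = tm c z' ∧ K ⬝ₘ (tm c z) = tm c z ∧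
      K ⬝ₘ (tm c o') = tm c o' := fun c => by
    have e1 : ∀ c, K ⬝ₘ (tm c o) = tm c o := fun c => by
      have := hfix (tm c o) (by rw [gl_mul_mulVec, gl_mul_mulVec, (fo c).1, (fo c).2, (fo c).1])
      rwa [gl_mul_mulVec, (fo c).2, (fo c).1] at this
    have e2 : ∀ c, K ⬝ₘ (tm c z') = tm c z' := fun c => by
      have := hfix (tm c z') (by rw [gl_mul_mulVec, gl_mul_mulVec, (fz' c).1, (fz' c).2, (fz' c).1])
      rwa [gl_mul_mulVec, (fz' c).2, (fz' c).1] at this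
    have ez : g ⬝ₘ (tm c z) = tm c z := by rw [hgx, zo, C.b.alt]; simp
    have ez' : h ⬝ₘ (tm c z) = tm c z + tm (ψ *ᵥ c) z' := by rw [hhx, hzo', zz']; simp
    have eo : h ⬝ₘ (tm c o') = tm c o' := by rw [hhx, C.b.alt, ho'z']; simp
    have eo' : g ⬝ₘ (tm c o') = tm c o' - tm (adjA φ *ᵥ c) o := by
      rw [hgx, ho'o, o'z]
      simp [sub_eq_add_neg]
    refine ⟨e1 c, e2 c, ?_, ?_⟩
    · have := hfix (tm c z) (by rw [gl_mul_mulVec, gl_mul_mulVec, ez, ez', Matrix.mulVec_add, ez, (fz' _).1])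
      rw [gl_mul_mulVec, ez', Matrix.mulVec_add, ez, (fz' _).1, Matrix.mulVec_add, e2] at this
      exact add_right_cancel this
    · have := hfix (tm c o') (by rw [gl_mul_mulVec, gl_mul_mulVec, eo, eo', Matrix.mulVec_sub, eo, (fo _).2])
      rw [gl_mul_mulVec, eo, eo', Matrix.mulVec_sub, e1] at this
      exact sub_left_inj.mp this
  have key : K ⬝ₘ ((g * h) ⬝ₘ (tm a w)) = (h * g) ⬝ₘ (tm a w) := by
    rw [hK, gl_mul_mulVec, gl_inv_mulVec_cancel]
  have kz := fun c => (Kfix c).2.2.1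
  have ko := fun c => (Kfix c).1
  have kz' := fun c => (Kfix c).2.1
  have ko' := fun c => (Kfix c).2.2.2
  simp only [gl_mul_mulVec, hgx, hhx, Matrix.mulVec_add, Matrix.mulVec_smul, hzo', o'z, ho'o, hzo, zo, zz', hzz',
    z'o, hoz', hoo', C.b.alt, kz, ko, kz', ko', Matrix.mulVec_mulVec, zero_smul, one_smul, add_zero, neg_smul,
    Matrix.mulVec_neg] at key
  rw [C.a.refl.adj_mul]
  linear_combination (norm := module) key

theorem closed (hleft : ∀ s ∈ TGen fA, kr s (1 : GL β F) ∈ X) : Closed fA (InS fA fB X) where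
  add h h' o z ho hoz hz := slot_add C hoz (h o z ho hoz hz) (h' o z ho hoz hz)
  smul r {φ} h o z ho hoz hz := by
    rcases eq_or_ne r 0 with hr | hr
    · rw [hr, zero_smul]; exact slot_zero C
    refine (slot_smulz C r).mp (h o (r • z) ho (by rw [C.b.smul_right, hoz, mul_zero]) fun e => hz ?_)
    obtain ⟨s, hs⟩ := Submodule.mem_span_singleton.mp e
    exact Submodule.mem_span_singleton.mpr ⟨r⁻¹ * s, by rw [← smul_smul, hs, smul_smul, inv_mul_cancel₀ hr, one_smul]⟩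
  mul h h' := inS_mul C h h'
  conj t ht φ h o z ho hoz hz := slot_conjA C (tgen_iso C.a ht).2 (hleft t ht) (h o z ho hoz hz)

/-- A self-adjoint central element gives a slot. -/
theorem inS_of_central {o : β → F} (ho : o ≠ 0) {g : GL (α × β) F} (hg : g ∈ X) {ψ : Mat}
    (hψ : ∀ a w, g ⬝ₘ (tm a w) = tm a w + fB w o • tm (ψ *ᵥ a) o) : InS fA fB X ψ := by
  have D := C.data
  obtain ⟨o', ho'⟩ := partner D ho
  have hsa : adjA ψ = ψ := C.a.refl.adj_unique fun u v => by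
    have := C.iso_tf hg (tm u o') (tm v o')
    rw [hψ, hψ, ho', one_smul, one_smul, (tf_semi D).add_left, (tf_semi D).add_right, (tf_semi D).add_right,
      tf_tm D, tf_tm D, tf_tm D, tf_tm D, C.b.alt, C.b.alt, C.b.swap o' o, ho'] at this
    linear_combination -this
  obtain ⟨z, hoz, -, hzsp⟩ := exists_z C (o := o) (z := o)
  rw [Set.pair_eq_singleton] at hzsp
  have hz0 : z ≠ 0 := fun e => hzsp (e ▸ zero_mem _)
  have hoz0 : o + z ≠ 0 := fun e => hzsp (Submodule.mem_span_singleton.mpr ⟨-1, by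
    rw [neg_one_smul]; exact (eq_neg_of_add_eq_zero_right e).symm⟩)
  have hcen : ∀ v, v ≠ 0 → ∃ h ∈ X, ∀ a w, h ⬝ₘ (tm a w) = tm a w + fB w v • tm (ψ *ᵥ a) v := by
    intro v hv
    obtain ⟨t, ht, htv⟩ := tmove_one C.b ho hv
    have hn := C.right _ ht
    refine ⟨kr 1 t * g * (kr 1 t)⁻¹, mul_mem (mul_mem hn hg) (inv_mem hn), fun a w => ?_⟩
    obtain ⟨w', rfl⟩ : ∃ w', w = (t : Matrix β β F) *ᵥ w' := ⟨_, (gl_mulVec_inv_cancel t w).symm⟩
    have e : tm a ((t : Matrix β β F) *ᵥ w') = (kr (1 : GL α F) t) ⬝ₘ (tm a w') := by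
      rw [kr_tm, Units.val_one, Matrix.one_mulVec]
    rw [gl_mul_mulVec, gl_mul_mulVec, e, gl_inv_mulVec_cancel, hψ, Matrix.mulVec_add, Matrix.mulVec_smul, kr_tm, kr_tm,
      htv, ← htv, (tgen_iso C.b ht).2, htv]
    simp only [Units.val_one, Matrix.one_mulVec]
  obtain ⟨g₁, hg₁, h₁⟩ := hcen z hz0
  obtain ⟨g₂, hg₂, h₂⟩ := hcen (o + z) hoz0
  obtain ⟨K, hK⟩ : ∃ K, K = g₂ * (g₁ * g)⁻¹ := ⟨_, rfl⟩
  have hzo := C.b.refl.eq_zero_swap hoz
  have hv : ∀ c v, fB v o = 0 → fB v z = 0 → K ⬝ₘ (tm c v) = tm c v := fun c v h h' => by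
    have e : (g₁ * g) ⬝ₘ (tm c v) = tm c v := by rw [gl_mul_mulVec, hψ, h, zero_smul, add_zero, h₁, h', zero_smul, add_zero]
    conv_lhs => rw [← e, hK, gl_mul_mulVec, gl_inv_mulVec_cancel]
    rw [h₂, C.b.refl.semi.add_right, h, h', add_zero, zero_smul, add_zero]
  refine inS_of_slot C ho hoz hzsp ⟨K, hK ▸ mul_mem hg₂ (inv_mem (mul_mem hg₁ hg)), fun a w => ?_⟩
  have key : K ⬝ₘ ((g₁ * g) ⬝ₘ (tm a w)) = g₂ ⬝ₘ (tm a w) := by rw [hK, gl_mul_mulVec, gl_inv_mulVec_cancel]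
  rw [gl_mul_mulVec, hψ, Matrix.mulVec_add, Matrix.mulVec_smul, h₁, h₁, hoz, zero_smul, add_zero, Matrix.mulVec_add,
    Matrix.mulVec_add, Matrix.mulVec_smul, Matrix.mulVec_smul, hv _ o (C.b.alt o) hoz, hv _ z hzo (C.b.alt z), h₂,
    C.b.refl.semi.add_right, tm_add_right] at key
  rw [hsa]
  linear_combination (norm := module) key

/-- The radical of a fibre lies in the stabiliser, or a non-scalar slot occurs. -/
theorem toOverO (hS : ∀ φ, InS fA fB X φ → ∃ r : F, φ = r • 1) : Over (RingEquiv.refl F) fA fB X := by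
  classical
  refine ⟨fun g hg => C.iso_tf hg, fun t _ hiso => C.right _ (tgen_top C.b t hiso), fun o ho hoo g hg hfix hmid => ?_⟩
  have D := C.data
  obtain ⟨k₀, hk₀⟩ := Function.ne_iff.mp ho
  let R : (GL (α × β) F) → (β → F) →ₗ[F] (α → F) →ₗ[F] (α → F) := fun g =>
    LinearMap.mk₂ F (fun w a i => (g ⬝ₘ (tm a w) - tm a w) (i, k₀) / o k₀)
      (fun w w' a => funext fun i => by simp [tm_add_right, Matrix.mulVec_add]; ring)
      (fun r w a => funext fun i => by simp [tm_smul_right, Matrix.mulVec_smul]; ring)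
      (fun w a a' => funext fun i => by simp [tm_add_left, Matrix.mulVec_add]; ring)
      (fun r w a => funext fun i => by simp [tm_smul_left, Matrix.mulVec_smul]; ring)
  have hR : ∀ (g : GL (α × β) F) w a u, g ⬝ₘ (tm a w) = tm a w + tm u o → LinearMap.toMatrix' (R g w) *ᵥ a = u := by
    intro g w a u e
    rw [← Matrix.toLin'_apply, Matrix.toLin'_toMatrix']
    funext i
    change (g ⬝ₘ (tm a w) - tm a w) (i, k₀) / o k₀ = _
    rw [e, add_sub_cancel_left, tm_apply, mul_div_cancel_right₀ _ hk₀]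
  let M : (β → F) → Matrix α α F := fun w => LinearMap.toMatrix' (R g w)
  have hM : ∀ w, fB w o = 0 → ∀ a, g ⬝ₘ (tm a w) = tm a w + tm (M w *ᵥ a) o := fun w hw a => by
    obtain ⟨a', ha'⟩ := hmid a w hw
    rw [show M w *ᵥ a = a' from hR g w a a' ha', ha']
  have hMs : ∀ (r : F) w, M (r • w) = r • M w := fun r w => by simp only [M, map_smul]
  have hscalar : ∀ z, fB z o = 0 → ∃ r : F, M z = r • 1 := by
    intro z hzo
    by_cases hzsp : z ∈ Submodule.span F {o}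
    · obtain ⟨r, rfl⟩ := Submodule.mem_span_singleton.mp hzsp
      refine ⟨0, Matrix.toLin'.injective (LinearMap.ext fun a => ?_)⟩
      rw [Matrix.toLin'_apply, Matrix.toLin'_apply, zero_smul, Matrix.zero_mulVec]
      exact hR g _ a 0 (by rw [tm_smul_right, Matrix.mulVec_smul, hfix, tm_zero_left, add_zero])
    obtain ⟨τ, hτ, -, -⟩ := exists_stv C.b z 1
    obtain ⟨τ', hτ', -, -⟩ := exists_stv C.b z (-1)
    have hnX : kr (1 : GL α F) τ ∈ X := C.right _ (Subgroup.subset_closure ⟨z, 1, hτ⟩)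
    have hnX' : kr (1 : GL α F) τ' ∈ X := C.right _ (Subgroup.subset_closure ⟨z, -1, hτ'⟩)
    have hn : ∀ (c : F) (t : GL β F), STv fB t z c → ∀ x,
        (kr (1 : GL α F) t) ⬝ₘ x = x + tm (c • ctr fB z x) z := fun c t ht x => funext fun p => by
      have := congrFun (kr_one_row (α := α) t x p.1) p.2
      rw [ht] at this
      simpa [row, ctr, tm_apply] using this
    obtain ⟨h, hh⟩ : ∃ h, h = g * kr 1 τ * g⁻¹ * kr 1 τ' := ⟨_, rfl⟩
    have hhX : h ∈ X := hh ▸ mul_mem (mul_mem (mul_mem hg hnX) (inv_mem hg)) hnX'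
    have hoz := C.b.refl.eq_zero_swap hzo
    have hform : ∀ x, h ⬝ₘ x = x + tm (adjA (M z) *ᵥ ctr fB o x) z +
        tm (M z *ᵥ (ctr fB z x + adjA (M z) *ᵥ ctr fB o x)) o := by
      intro x
      obtain ⟨x', hx'⟩ : ∃ x', x' = (kr (1 : GL α F) τ') ⬝ₘ x := ⟨_, rfl⟩
      have hz' : ctr fB z x' = ctr fB z x := by
        rw [hx', hn (-1) τ' hτ', ctr_add D, ctr_tm D, C.b.alt, zero_smul, add_zero]
      have ho' : ctr fB o x' = ctr fB o x := by
        rw [hx', hn (-1) τ' hτ', ctr_add D, ctr_tm D, hzo, zero_smul, add_zero]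
      have hd : ctr fB z (g⁻¹ ⬝ₘ x') = ctr fB z x + adjA (M z) *ᵥ ctr fB o x := by
        refine ctr_eq D fun a => ?_
        rw [← C.iso_tf hg, gl_mulVec_inv_cancel, hM z hzo, (tf_semi D).add_right, tf_tm_right D, tf_tm_right D, hz',
          ho', C.a.refl.semi.add_left, C.a.refl.adj_spec']
      rw [hh, gl_mul_mulVec, ← hx', gl_mul_mulVec, gl_mul_mulVec, hn 1 τ hτ, one_smul, hd, Matrix.mulVec_add,
        gl_mulVec_inv_cancel, hM z hzo, hx', hn (-1) τ' hτ', neg_one_smul, tm_add_left,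
        show tm (-ctr fB z x) z = -tm (ctr fB z x) z by rw [← neg_one_smul F (ctr fB z x), tm_smul_left, neg_one_smul]]
      abel
    obtain ⟨z₂, hoz₂, hzz₂, hz₂sp⟩ := exists_z C (o := o) (z := z)
    have hnew : z + z₂ ∉ Submodule.span F {o} := fun e => hz₂sp (by
      have := sub_mem (Submodule.span_mono (show ({o} : Set (β → F)) ⊆ {o, z} by simp) e)
        (Submodule.subset_span (show z ∈ ({o, z} : Set (β → F)) by simp))
      rwa [add_sub_cancel_left] at this)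
    obtain ⟨t, ht, htz, hto⟩ := tmove C.b (W := Submodule.span F {o}) hzsp hnew fun x hx => by
      obtain ⟨r, rfl⟩ := Submodule.mem_span_singleton.mp hx
      rw [C.b.refl.semi.smul_left, C.b.refl.semi.smul_left, C.b.refl.semi.add_right, hoz₂, add_zero]
    have htoo : (t : Matrix β β F) *ᵥ o = o := hto o (Submodule.mem_span_singleton_self o)
    obtain ⟨n, hn'⟩ : ∃ n, n = kr (1 : GL α F) t := ⟨_, rfl⟩
    have hnX2 : n ∈ X := hn' ▸ C.right _ ht
    obtain ⟨h', hh'⟩ : ∃ h', h' = n * h * n⁻¹ := ⟨_, rfl⟩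
    have h'X : h' ∈ X := hh' ▸ mul_mem (mul_mem hnX2 hhX) (inv_mem hnX2)
    have hpure : ∀ a w, h ⬝ₘ (tm a w) = tm a w + fB w o • tm (adjA (M z) *ᵥ a) z + fB w z • tm (M z *ᵥ a) o +
        fB w o • tm (M z *ᵥ (adjA (M z) *ᵥ a)) o := fun a w => by
      rw [hform, ctr_tm D, ctr_tm D]
      simp only [Matrix.mulVec_add, Matrix.mulVec_smul, tm_add_left, tm_smul_left]
      abel
    have hpure' : ∀ a w, h' ⬝ₘ (tm a w) = tm a w + fB w o • tm (adjA (M z) *ᵥ a) (z + z₂) +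
        fB w (z + z₂) • tm (M z *ᵥ a) o + fB w o • tm (M z *ᵥ (adjA (M z) *ᵥ a)) o := fun a w => by
      obtain ⟨w', rfl⟩ : ∃ w', w = (t : Matrix β β F) *ᵥ w' := ⟨_, (gl_mulVec_inv_cancel t w).symm⟩
      have e : tm a ((t : Matrix β β F) *ᵥ w') = n ⬝ₘ (tm a w') := by
        rw [hn', kr_tm, Units.val_one, Matrix.one_mulVec]
      conv_lhs => rw [hh', gl_mul_mulVec, gl_mul_mulVec, e, gl_inv_mulVec_cancel, hpure, hn']
      simp only [Matrix.mulVec_add, Matrix.mulVec_smul, kr_tm, Units.val_one, Matrix.one_mulVec, htz, htoo]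
      rw [← htoo, ← htz, (tgen_iso C.b ht).2, (tgen_iso C.b ht).2, htz, htoo]
    obtain ⟨K, hK⟩ : ∃ K, K = h' * h⁻¹ := ⟨_, rfl⟩
    have hzz₂' := C.b.refl.eq_zero_swap hzz₂
    have hv : ∀ c v, fB v o = 0 → fB v z = 0 → fB v z₂ = 0 → K ⬝ₘ (tm c v) = tm c v := fun c v e1 e2 e3 => by
      have e : h ⬝ₘ (tm c v) = tm c v := by rw [hpure, e1, e2]; simp
      conv_lhs => rw [← e, hK, gl_mul_mulVec, gl_inv_mulVec_cancel]
      rw [hpure', e1, C.b.refl.semi.add_right, e2, e3]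
      simp
    have hslot : InS fA fB X (adjA (M z)) := by
      refine inS_of_slot C ho hoz₂ (fun e => hz₂sp (Submodule.span_mono (by simp) e))
        ⟨K, hK ▸ mul_mem h'X (inv_mem hhX), fun a w => ?_⟩
      have key : K ⬝ₘ (h ⬝ₘ (tm a w)) = h' ⬝ₘ (tm a w) := by rw [hK, gl_mul_mulVec, gl_inv_mulVec_cancel]
      rw [hpure, hpure', Matrix.mulVec_add, Matrix.mulVec_add, Matrix.mulVec_add, Matrix.mulVec_smul, Matrix.mulVec_smul,
        Matrix.mulVec_smul, hv _ o (C.b.alt o) hoz hoz₂, hv _ o (C.b.alt o) hoz hoz₂, hv _ z hzo (C.b.alt z) hzz₂,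
        C.b.refl.semi.add_right, tm_add_right] at key
      rw [C.a.refl.adj_adj]
      linear_combination (norm := module) key
    obtain ⟨r, hr⟩ := hS _ hslot
    exact ⟨r, by rw [← C.a.refl.adj_adj (M z), hr, C.a.refl.adj_scalar]; rfl⟩
  obtain ⟨o', ho'⟩ := partner D ho
  rcases isEmpty_or_nonempty α with hα | ⟨⟨i₀⟩⟩
  · exact ⟨1, 1, gl_ext_mulVec fun x => funext fun p => (hα.false p.1).elim⟩
  obtain ⟨y, hy⟩ : ∃ y, ∀ v, fB v y = M (v - fB v o • o') i₀ i₀ := by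
    let L : (β → F) →ₗ[F] F :=
      { toFun := fun v => M (v - fB v o • o') i₀ i₀
        map_add' := fun u v => by
          simp only [M]
          rw [C.b.refl.semi.add_left, show u + v - (fB u o + fB v o) • o' = (u - fB u o • o') + (v - fB v o • o') by
            module, map_add, map_add, Matrix.add_apply]
        map_smul' := fun r u => by
          rw [C.b.refl.semi.smul_left, show r • u - (r * fB u o) • o' = r • (u - fB u o • o') by module, hMs,
            Matrix.smul_apply, RingHom.id_apply] }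
    refine ⟨(gramMatrix fB)⁻¹ *ᵥ fun j => L (Pi.single j 1), fun v => ?_⟩
    rw [C.b.refl.apply_eq, show ((RingEquiv.refl F : F ≃+* F) : F → F) ∘ ((gramMatrix fB)⁻¹ *ᵥ fun j => L (Pi.single j 1)) =
      (gramMatrix fB)⁻¹ *ᵥ fun j => L (Pi.single j 1) from rfl, Matrix.mulVec_mulVec,
      Matrix.mul_nonsing_inv _ ((Matrix.isUnit_iff_isUnit_det _).mp C.b.refl.gram_isUnit), Matrix.one_mulVec]
    change _ = L v
    conv_rhs => rw [pi_eq_sum_univ' v, map_sum]
    refine Finset.sum_congr rfl fun j _ => ?_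
    rw [map_smul, smul_eq_mul]
  have hMy : ∀ v, fB v o = 0 → M v = fB v y • 1 := fun v hv => by
    obtain ⟨r, hr⟩ := hscalar v hv
    rw [hy, hv, zero_smul, sub_zero, hr]
    simp
  have hyo : fB y o = 0 := C.b.refl.eq_zero_swap (by
    have h1 := hMy o (C.b.alt o)
    have h2 : M o *ᵥ Pi.single i₀ 1 = 0 := hR g o _ 0 (by rw [hfix, tm_zero_left, add_zero])
    rw [h1, Matrix.smul_mulVec, Matrix.one_mulVec] at h2
    simpa using h2)
  obtain ⟨t, -, hiso, hU⟩ := exists_uel (α := α) D hoo hyo (c := 0)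
    (by rw [map_zero, mul_zero, C.b.alt, add_zero, add_zero])
  obtain ⟨n, hn⟩ : ∃ n, n = kr (1 : GL α F) t := ⟨_, rfl⟩
  have hnX : n ∈ X := hn ▸ C.right _ (tgen_top C.b t hiso)
  obtain ⟨g', hg'⟩ : ∃ g', g' = n⁻¹ * g := ⟨_, rfl⟩
  have hg'X : g' ∈ X := hg' ▸ mul_mem (inv_mem hnX) hg
  have hg'tm : ∀ a v, fB v o = 0 → g' ⬝ₘ (tm a v) = tm a v := fun a v hv => by
    rw [hg', gl_mul_mulVec, hM v hv, hMy v hv, Matrix.smul_mulVec, Matrix.one_mulVec]
    have := uel_mid D hU hv a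
    rw [map_neg, map_one, neg_one_mul, neg_neg] at this
    rw [← this, ← hn, gl_inv_mulVec_cancel]
  have hcen : ∀ a, ∃ u, g' ⬝ₘ (tm a o') = tm a o' + tm u o := fun a => by
    obtain ⟨u, hu⟩ : ∃ u, g' ⬝ₘ (tm a o') - tm a o' = tm u o := eq_tm_of_ctr D fun v' hv' => by
      rw [ctr_sub D, sub_eq_zero]
      refine ctr_eq D fun c => ?_
      conv_lhs => rw [← hg'tm c v' hv', C.iso_tf hg'X, tf_tm_right D]
    exact ⟨u, by rw [← hu, add_sub_cancel]⟩
  obtain ⟨ψ, hψdef⟩ : ∃ ψ, ψ = LinearMap.toMatrix' (R g' o') := ⟨_, rfl⟩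
  have hψ : ∀ a w, g' ⬝ₘ (tm a w) = tm a w + fB w o • tm (ψ *ᵥ a) o := fun a w => by
    obtain ⟨u, hu⟩ := hcen a
    rw [show ψ *ᵥ a = u from hψdef ▸ hR g' o' a u hu]
    have e : tm a w = tm a (w - fB w o • o') + fB w o • tm a o' := by rw [← tm_smul_right, ← tm_add_right, sub_add_cancel]
    conv_lhs => rw [e, Matrix.mulVec_add, Matrix.mulVec_smul, hu, hg'tm a _ (by
      rw [C.b.sub_left, C.b.refl.semi.smul_left, ho', mul_one, sub_self])]
    rw [e]
    module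
  obtain ⟨l, hl⟩ := hS ψ (inS_of_central C ho hg'X hψ)
  obtain ⟨t', -, -, hR'⟩ := exists_rt (α := α) D hoo (c := l) (by rw [RingEquiv.refl_apply]; ring)
  have hK : g' = kr 1 t' := gl_ext_mulVec fun x => ext_pure (M := (g' : Matrix (α × β) (α × β) F))
    (M' := ((kr (1 : GL α F) t' : GL (α × β) F) : Matrix (α × β) (α × β) F)) (fun a w => by
      rw [hR', hψ, ctr_tm D, hl, Matrix.smul_mulVec, Matrix.one_mulVec, tm_smul_left, tm_smul_left, tm_smul_left,
        smul_comm]) x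
  have : g = n * g' := by rw [hg', mul_inv_cancel_left]
  rw [this, hK, hn]
  exact mul_mem ⟨1, t, rfl⟩ ⟨1, t', rfl⟩

end Cfsg.Agent.Classical.TensorMax.Form
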