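/-
The radical of a fibre in the unitary case: either scalar or containing a root element of the whole space.
-/
import Cfsg.Agent.Lib.Classical.TensorMax.Form.UTools

set_option autoImplicit false
set_option linter.unusedSectionVars false

namespace Cfsg.Agent.Classical.TensorMax.Form

open Matrix Module Cfsg.Geo
open Cfsg.Agent.Classical

variable {α β : Type} [Fintype α] [DecidableEq α] [Fintype β] [DecidableEq β] {F : Type*} [Field F] [Fintype F]
variable {q : ℕ} {σ : F ≃+* F} {fA : (α → F) → (α → F) → F} {fB : (β → F) → (β → F) → F}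
variable {X : Subgroup (GL (α × β) F)}

local notation:max g:max " ⬝ₘ " x:max => ((g : GL (α × β) F) : Matrix (α × β) (α × β) F) *ᵥ x

/-- A subgroup between the stabiliser and the unitary group. -/
structure UOver (σ : F ≃+* F) (fA : (α → F) → (α → F) → F) (fB : (β → F) → (β → F) → F)
    (X : Subgroup (GL (α × β) F)) : Prop where
  iso : ∀ g ∈ X, ∀ x y, tf σ fA fB ((g : Matrix (α × β) (α × β) F) *ᵥ x) ((g : Matrix (α × β) (α × β) F) *ᵥ y) =
    tf σ fA fB x y
  full : ∀ (a : GL α F) (t : GL β F), (∀ u v, fA ((a : Matrix α α F) *ᵥ u) ((a : Matrix α α F) *ᵥ v) = fA u v) →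
    (∀ u v, fB ((t : Matrix β β F) *ᵥ u) ((t : Matrix β β F) *ᵥ v) = fB u v) →
    (a : Matrix α α F).det = 1 → (t : Matrix β β F).det = 1 → kr a t ∈ X

/-- The operator occurs as a central radical element. -/
def CenOp (fB : (β → F) → (β → F) → F) (X : Subgroup (GL (α × β) F)) (o : β → F) (φ : (α → F) → (α → F)) : Prop :=
  ∃ g ∈ X, ∀ x, (g : Matrix (α × β) (α × β) F) *ᵥ x = x + tm (φ (ctr fB o x)) o

/-- A transvection of the whole space with singular pure centre lies in the group. -/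
def Seed (fA : (α → F) → (α → F) → F) (fB : (β → F) → (β → F) → F) (X : Subgroup (GL (α × β) F)) : Prop :=
  ∃ (o : β → F) (u : α → F) (k : F), o ≠ 0 ∧ fB o o = 0 ∧ u ≠ 0 ∧ fA u u = 0 ∧ k ≠ 0 ∧
    CenOp fB X o fun v => (k * fA v u) • u

variable (UA : UForm q σ fA) (UB : UForm q σ fB) (H : UOver σ fA fB X)

include UA UB H

theorem data : Data σ 1 1 fA fB := ⟨UA.refl, UB.refl⟩

theorem UOver.right {t : GL β F} (ht : (t : Matrix β β F).det = 1)
    (hiso : ∀ u v, fB ((t : Matrix β β F) *ᵥ u) ((t : Matrix β β F) *ᵥ v) = fB u v) : kr (1 : GL α F) t ∈ X :=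
  H.full 1 t (fun u v => by simp) hiso (by simp) ht

section Op

variable {o : β → F}

theorem cen_sub (hoo : fB o o = 0) {φ ψ : (α → F) → (α → F)} (hφ : CenOp fB X o φ) (hψ : CenOp fB X o ψ) :
    CenOp fB X o fun v => φ v - ψ v := by
  have D := data UA UB H
  obtain ⟨g, hg, hgx⟩ := hφ
  obtain ⟨k, hk, hkx⟩ := hψ
  refine ⟨g * k⁻¹, mul_mem hg (inv_mem hk), fun x => ?_⟩
  obtain ⟨y, rfl⟩ : ∃ y, x = k ⬝ₘ y := ⟨_, (gl_mulVec_inv_cancel k x).symm⟩
  rw [gl_mul_mulVec, gl_inv_mulVec_cancel, hgx, hkx, ctr_add D, ctr_tm D, hoo, zero_smul, add_zero, tm_sub_left]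
  abel

theorem cen_linear (ho : o ≠ 0) {φ : (α → F) → (α → F)} (hφ : CenOp fB X o φ) :
    ∃ M : Matrix α α F, ∀ v, φ v = M *ᵥ v := by
  have D := data UA UB H
  obtain ⟨g, hg, hgx⟩ := hφ
  obtain ⟨o', ho'⟩ := partner D ho
  obtain ⟨k₀, hk₀⟩ := Function.ne_iff.mp ho
  have hφ : ∀ v, φ v = fun i => (g ⬝ₘ (tm v o') - tm v o') (i, k₀) / o k₀ := fun v => funext fun i => by
    rw [hgx, ctr_tm D, ho', one_smul, add_sub_cancel_left, tm_apply, mul_div_cancel_right₀ _ hk₀]
  let L : (α → F) →ₗ[F] (α → F) :=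
    { toFun := φ
      map_add' := fun a b => by
        rw [hφ, hφ, hφ]
        funext i
        simp [tm_add_left, Matrix.mulVec_add, add_div, sub_div]
        ring
      map_smul' := fun r a => by
        rw [hφ, hφ]
        funext i
        simp [tm_smul_left, Matrix.mulVec_smul]
        ring }
  exact ⟨LinearMap.toMatrix' L, fun v => by rw [← Matrix.toLin'_apply, Matrix.toLin'_toMatrix']; rfl⟩

theorem cen_skew (ho : o ≠ 0) (hoo : fB o o = 0) {φ : (α → F) → (α → F)} (hφ : CenOp fB X o φ) (v v' : α → F) :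
    fA (φ v) v' + fA v (φ v') = 0 := by
  have D := data UA UB H
  obtain ⟨g, hg, hgx⟩ := hφ
  obtain ⟨o', -, ho', ho''⟩ := UB.exists_partner ho hoo
  have := H.iso g hg (tm v o') (tm v' o')
  rw [hgx, hgx, ctr_tm D, ctr_tm D, ho', one_smul, one_smul, (tf_semi D).add_left, (tf_semi D).add_right,
    (tf_semi D).add_right, tf_tm D, tf_tm D, tf_tm D, tf_tm D, hoo, ho'', ho'] at this
  linear_combination this

theorem cen_conjA {φ : (α → F) → (α → F)} (hφ : CenOp fB X o φ) {a : GL α F} (ha : (a : Matrix α α F).det = 1)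
    (hiso : ∀ u v, fA ((a : Matrix α α F) *ᵥ u) ((a : Matrix α α F) *ᵥ v) = fA u v) :
    CenOp fB X o fun v => (a : Matrix α α F) *ᵥ φ (((a⁻¹ : GL α F) : Matrix α α F) *ᵥ v) := by
  have D := data UA UB H
  obtain ⟨g, hg, hgx⟩ := hφ
  obtain ⟨n, hn⟩ : ∃ n, n = kr a (1 : GL β F) := ⟨_, rfl⟩
  have hnX : n ∈ X := hn ▸ H.full a 1 hiso (fun u v => by simp) ha (by simp)
  refine ⟨n * g * n⁻¹, mul_mem (mul_mem hnX hg) (inv_mem hnX), fun x => ?_⟩
  have hc : ctr fB o (n⁻¹ ⬝ₘ x) = ((a⁻¹ : GL α F) : Matrix α α F) *ᵥ ctr fB o x := by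
    refine ctr_eq D fun v => ?_
    rw [← H.iso n hnX, gl_mulVec_inv_cancel, hn, kr_tm, Units.val_one, Matrix.one_mulVec, tf_tm_right D]
    conv_rhs => rw [← hiso, gl_mulVec_inv_cancel]
  rw [gl_mul_mulVec, gl_mul_mulVec, hgx, Matrix.mulVec_add, gl_mulVec_inv_cancel, hc, hn, kr_tm, Units.val_one,
    Matrix.one_mulVec]

theorem cen_sq (ho : o ≠ 0) (hoo : fB o o = 0) {φ : (α → F) → (α → F)} (hφ : CenOp fB X o φ) {θ : F}
    (hθ : σ θ = θ) : CenOp fB X o fun v => (θ * θ) • φ v := by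
  have D := data UA UB H
  obtain ⟨M, hM⟩ := cen_linear UA UB H ho hφ
  by_cases hθ0 : θ = 0
  · refine ⟨1, one_mem X, fun x => ?_⟩
    simp [hθ0]
  obtain ⟨g, hg, hgx⟩ := hφ
  obtain ⟨z, hzz, hzo, hoz⟩ := UB.exists_partner ho hoo
  obtain ⟨s, hs0, hs⟩ := UB.sig.exists_skew
  obtain ⟨t₁, ht₁, hiso₁, h₁⟩ := UB.move_one hoo hzz (by rw [hoz]; exact one_ne_zero) hs0 hs
  obtain ⟨t₂, ht₂, hiso₂, h₂⟩ := UB.move_one hzz hoo (by rw [hzo]; exact one_ne_zero) (s := θ / s)
    (div_ne_zero hθ0 hs0) (by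
      rw [map_div₀, hθ, show σ s = -s by linear_combination hs, div_neg, add_neg_cancel])
  obtain ⟨t, ht⟩ : ∃ t, t = t₂ * t₁ := ⟨_, rfl⟩
  have hiso : ∀ u v, fB ((t : Matrix β β F) *ᵥ u) ((t : Matrix β β F) *ᵥ v) = fB u v := fun u v => by
    rw [ht, gl_mul_mulVec, gl_mul_mulVec, hiso₂, hiso₁]
  have hto : (t : Matrix β β F) *ᵥ o = θ • o := by
    rw [ht, gl_mul_mulVec, h₁, Matrix.mulVec_smul, h₂, smul_smul, hoz, hzo, div_one, div_one, ← map_mul,
      mul_div_cancel₀ _ hs0, hθ]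
  obtain ⟨n, hn⟩ : ∃ n, n = kr (1 : GL α F) t := ⟨_, rfl⟩
  have hnX : n ∈ X := hn ▸ H.right (UA := UA) (UB := UB) (by rw [ht, Units.val_mul, Matrix.det_mul, ht₁, ht₂, one_mul]) hiso
  refine ⟨n * g * n⁻¹, mul_mem (mul_mem hnX hg) (inv_mem hnX), fun x => ?_⟩
  have hc : ctr fB o (n⁻¹ ⬝ₘ x) = θ • ctr fB o x := by
    funext i
    rw [ctr, hn, kr_inv, inv_one, kr_one_row, Pi.smul_apply, ctr, smul_eq_mul, ← hiso, gl_mulVec_inv_cancel, hto,
      UB.refl.semi.smul_right, hθ]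
  rw [gl_mul_mulVec, gl_mul_mulVec, hgx, Matrix.mulVec_add, gl_mulVec_inv_cancel, hc, hn, kr_tm, hto, Units.val_one,
    Matrix.one_mulVec]
  show _ = x + tm ((θ * θ) • φ (ctr fB o x)) o
  rw [hM, hM, Matrix.mulVec_smul, tm_smul_left, tm_smul_left, tm_smul_right, smul_smul]

theorem cen_scale (ho : o ≠ 0) (hoo : fB o o = 0) {φ : (α → F) → (α → F)} (hφ : CenOp fB X o φ) {θ : F}
    (hθ : σ θ = θ) : CenOp fB X o fun v => θ • φ v := by
  by_cases h2 : (2 : F) = 0
  · haveI : CharP F 2 := CharTwo.of_one_ne_zero_of_two_eq_zero one_ne_zero h2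
    obtain ⟨μ, hμ⟩ : ∃ μ, μ * μ = θ := by
      obtain ⟨μ, hμ⟩ := (Finite.injective_iff_surjective.mp (frobenius F 2).injective) θ
      exact ⟨μ, by rw [← hμ, frobenius_def, pow_two]⟩
    have hμσ : σ μ = μ := by
      have : (σ μ) ^ 2 = μ ^ 2 := by rw [pow_two, pow_two, ← map_mul, hμ, hθ]
      exact (frobenius F 2).injective (by simpa [frobenius_def] using this)
    exact hμ ▸ cen_sq UA UB H ho hoo hφ hμσ
  · obtain ⟨r, hr⟩ : ∃ r, r = θ / 2 := ⟨_, rfl⟩
    have hrσ : σ r = r := by rw [hr, map_div₀, hθ, map_ofNat]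
    have h1 := cen_sub UA UB H hoo (cen_sub UA UB H hoo (cen_sq UA UB H ho hoo hφ (θ := r + 1)
      (by rw [map_add, hrσ, map_one])) (cen_sq UA UB H ho hoo hφ hrσ)) hφ
    convert h1 using 2 with v
    have e : θ = (r + 1) * (r + 1) - r * r - 1 := by rw [hr]; field_simp; ring
    rw [e, sub_smul, sub_smul, one_smul]

theorem seed_eichler (ho : o ≠ 0) (hoo : fB o o = 0) {u w : α → F} {k k' : F} (hu : u ≠ 0) (huu : fA u u = 0)
    (hwu : fA w u = 0) (hw : w ∉ Submodule.span F {u}) (hk : k ≠ 0)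
    (h : CenOp fB X o fun v => k • (fA v w • u + fA v u • w) + (k' * fA v u) • u) : Seed fA fB X := by
  haveI : Nonempty α := by
    by_contra hne
    exact hu (funext fun i => absurd ⟨i⟩ hne)
  obtain ⟨z, hzu, hzw⟩ := UA.exists_sep hw
  obtain ⟨θ, hθ⟩ := UA.exists_trace_one
  obtain ⟨y, hy⟩ : ∃ y, y = σ (-θ / fA w z) • z := ⟨_, rfl⟩
  have hwy : fA w y = -θ := by rw [hy, UA.refl.semi.smul_right, UA.sig.involutive, div_mul_cancel₀ _ hzw]
  have hyu : fA y u = 0 := by rw [hy, UA.refl.semi.smul_left, UA.refl.eq_zero_swap hzu, mul_zero]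
  obtain ⟨c, hc⟩ := UA.exists_trace (UA.fixed y)
  obtain ⟨a, ha, hU, hax⟩ := Radical.exists_UF UA.refl huu hyu (c := -c) (by rw [map_neg]; linear_combination -hc)
  have hiso := Radical.UF_iso UA.refl huu hU
  have hau : (a : Matrix α α F) *ᵥ u = u := by
    rw [hax, huu, UA.refl.eq_zero_swap hyu]; simp
  have haw : (a : Matrix α α F) *ᵥ w = w + θ • u := by
    rw [hax, hwu, hwy]; simp
  have e : ∀ v x, fA (((a⁻¹ : GL α F) : Matrix α α F) *ᵥ v) x = fA v ((a : Matrix α α F) *ᵥ x) := fun v x => by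
    rw [← hiso (((a⁻¹ : GL α F) : Matrix α α F) *ᵥ v), gl_mulVec_inv_cancel]
  have h1 := cen_sub UA UB H hoo (cen_conjA UA UB H h (mem_specialLinear_iff.mp ha) hiso) h
  refine ⟨o, u, k, ho, hoo, hu, huu, hk, ?_⟩
  convert h1 using 2 with v
  simp only [Matrix.mulVec_add, Matrix.mulVec_smul, e, hau, haw, UA.refl.semi.add_right, UA.refl.semi.smul_right]
  match_scalars <;>
    first
    | linear_combination (-(k * fA v u)) * hθ
    | linear_combination (k * fA v u) * hθ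
    | ring

/-- A central element is scalar unless a transvection is present. -/
theorem cen_scalar (hex : (∃ θ : F, σ θ = θ ∧ θ ≠ 0 ∧ θ ≠ 1) ∨ 3 ≤ Fintype.card α) (h2 : 2 ≤ Fintype.card α)
    (hS : ¬ Seed fA fB X) (ho : o ≠ 0) (hoo : fB o o = 0) {φ : (α → F) → (α → F)} (hφ : CenOp fB X o φ) :
    ∃ l : F, ∀ v, φ v = l • v := by
  obtain ⟨M, hM⟩ := cen_linear UA UB H ho hφ
  have hskew := cen_skew UA UB H ho hoo hφ
  obtain ⟨c, hc0, hc⟩ := UA.sig.exists_skew
  have hσc : σ c = -c := by linear_combination hc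
  -- commutator with a transvection
  have hΔ : ∀ u : α → F, u ≠ 0 → fA u u = 0 → ∀ d : F, d + σ d = 0 → CenOp fB X o fun v =>
      (-d) • (fA v (φ u) • u + fA v u • φ u) + (-(d * d * fA (φ u) u) * fA v u) • u := by
    intro u hu huu d hd
    haveI : Nonempty α := ⟨(Function.ne_iff.mp hu).choose⟩
    obtain ⟨a, ha, hU, hax⟩ := Radical.exists_UF UA.refl huu (UA.refl.zero_left u) (c := d)
      (by rw [UA.refl.zero_left, one_mul, hd, add_zero])
    have hax' : ∀ x, (a : Matrix α α F) *ᵥ x = x + (d * fA x u) • u := fun x => by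
      rw [hax, smul_zero, add_zero, UA.refl.zero_right, mul_zero, sub_zero]
    have hainv : ∀ v, ((a⁻¹ : GL α F) : Matrix α α F) *ᵥ v = v + (-(d * fA v u)) • u := fun v => by
      refine gl_mulVec_injective a ?_
      change (a : Matrix α α F) *ᵥ _ = (a : Matrix α α F) *ᵥ _
      rw [gl_mulVec_inv_cancel, hax', UA.refl.semi.add_left, UA.refl.semi.smul_left, huu, mul_zero, add_zero]
      module
    have h1 := cen_sub UA UB H hoo (cen_conjA UA UB H hφ (mem_specialLinear_iff.mp ha)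
      (Radical.UF_iso UA.refl huu hU)) hφ
    convert h1 using 2 with v
    rw [hax', hainv, hM (v + _), Matrix.mulVec_add, Matrix.mulVec_smul, ← hM, ← hM, UA.refl.semi.add_left,
      UA.refl.semi.smul_left, show fA (φ v) u = -fA v (φ u) by linear_combination hskew v u]
    module
  have heig : ∀ u : α → F, u ≠ 0 → fA u u = 0 → φ u ∈ Submodule.span F {u} := by
    intro u hu huu
    by_contra hmem
    haveI : Nonempty α := ⟨(Function.ne_iff.mp hu).choose⟩
    obtain ⟨κ, hκ⟩ : ∃ κ, κ = fA (φ u) u := ⟨_, rfl⟩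
    rcases eq_or_ne κ 0 with hκ0 | hκ0
    · exact hS (seed_eichler UA UB H ho hoo hu huu (hκ ▸ hκ0) hmem (neg_ne_zero.mpr hc0) (hΔ u hu huu c hc))
    by_cases h3 : 3 ≤ Fintype.card α
    · obtain ⟨W, hW, hWu⟩ := UA.exists_perp (k := 1) fun _ => u
      obtain ⟨y, hy, hyn⟩ : ∃ y ∈ W, y ∉ Submodule.span F {u} := by
        by_contra hcon
        push Not at hcon
        have := (Submodule.finrank_mono (show W ≤ Submodule.span F {u} from hcon)).trans
          (finrank_span_le_card (R := F) ({u} : Set (α → F)))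
        simp at this
        omega
      have hyu : fA y u = 0 := hWu y hy 0
      obtain ⟨X', hX'⟩ := UA.exists_trace (UA.fixed y)
      obtain ⟨a, ha, hU, hax⟩ := Radical.exists_UF UA.refl huu hyu (c := -X') (by rw [map_neg]; linear_combination -hX')
      have hiso := Radical.UF_iso UA.refl huu hU
      have hau : (a : Matrix α α F) *ᵥ u = u := by rw [hax, huu, UA.refl.eq_zero_swap hyu]; simp
      obtain ⟨e, he⟩ : ∃ e, e = -X' * κ - fA (φ u) y := ⟨_, rfl⟩
      have haφ : (a : Matrix α α F) *ᵥ φ u = φ u + κ • y + e • u := by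
        rw [hax, ← hκ, map_one, one_mul, he]
      have hinv : ∀ v x, fA (((a⁻¹ : GL α F) : Matrix α α F) *ᵥ v) x = fA v ((a : Matrix α α F) *ᵥ x) := fun v x => by
        rw [← hiso (((a⁻¹ : GL α F) : Matrix α α F) *ᵥ v), gl_mulVec_inv_cancel]
      have h1 := hΔ u hu huu c hc
      have h2' := cen_sub UA UB H hoo (cen_conjA UA UB H h1 (mem_specialLinear_iff.mp ha) hiso) h1
      refine hS (seed_eichler UA UB H ho hoo hu huu (w := κ • y) (k := -c) (k' := -c * (e + σ e))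
        (by rw [UA.refl.semi.smul_left, hyu, mul_zero]) (fun h => hyn ?_) (neg_ne_zero.mpr hc0) ?_)
      · have := Submodule.smul_mem _ κ⁻¹ h
        rwa [smul_smul, inv_mul_cancel₀ hκ0, one_smul] at this
      · convert h2' using 2 with v
        simp only [Matrix.mulVec_add, Matrix.mulVec_smul, hinv, hau, haφ, UA.refl.semi.add_right,
          UA.refl.semi.smul_right]
        module
    · obtain ⟨θ, hθ, hθ0, hθ1⟩ := hex.resolve_right h3
      have h1 := cen_sub UA UB H hoo (cen_scale UA UB H ho hoo (hΔ u hu huu c hc) hθ)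
        (hΔ u hu huu (θ * c) (by rw [map_mul, hθ]; linear_combination θ * hc))
      refine hS ⟨o, u, (θ * θ - θ) * (c * c * κ), ho, hoo, hu, huu, ?_, ?_⟩
      · refine mul_ne_zero ?_ (mul_ne_zero (mul_ne_zero hc0 hc0) hκ0)
        rw [show θ * θ - θ = θ * (θ - 1) by ring]
        exact mul_ne_zero hθ0 (sub_ne_zero.mpr hθ1)
      · convert h1 using 2 with v
        rw [hκ]
        module
  obtain ⟨u₀, -, hu₀, hu₀u⟩ := UA.exists_iso (W := ⊤) (by rw [finrank_top, finrank_fintype_fun_eq_card]; exact h2)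
  obtain ⟨l, hl⟩ := Submodule.mem_span_singleton.mp (heig u₀ hu₀ hu₀u)
  have hiso : ∀ w, fA w w = 0 → M *ᵥ w = l • w := by
    intro w hw
    by_cases hmem : w ∈ Submodule.span F {u₀}
    · obtain ⟨r, rfl⟩ := Submodule.mem_span_singleton.mp hmem
      rw [Matrix.mulVec_smul, ← hM, ← hl, smul_comm]
    have hw0 : w ≠ 0 := fun e => hmem (e ▸ zero_mem _)
    obtain ⟨m, hm⟩ := Submodule.mem_span_singleton.mp (heig w hw0 hw)
    obtain ⟨k, hk, hkw⟩ := UA.join u₀ w hu₀u hw
    have hne : u₀ + k • w ≠ 0 := fun e => hmem (Submodule.mem_span_singleton.mpr ⟨-k⁻¹, by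
      rw [eq_neg_of_add_eq_zero_left e, smul_neg, neg_smul, neg_neg, smul_smul, inv_mul_cancel₀ hk, one_smul]⟩)
    obtain ⟨m', hm'⟩ := Submodule.mem_span_singleton.mp (heig _ hne hkw)
    rw [hM (u₀ + k • w), Matrix.mulVec_add, Matrix.mulVec_smul, ← hM, ← hM, ← hl, ← hm, smul_add, smul_smul,
      smul_smul] at hm'
    -- compare coefficients
    have e : (k * (m' - m)) • w = (l - m') • u₀ := by
      rw [mul_sub, sub_smul, sub_smul, mul_comm k m', eq_sub_iff_add_eq, ← eq_sub_iff_add_eq']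
      rw [eq_sub_iff_add_eq]
      linear_combination (norm := module) hm'
    have hkm : k * (m' - m) = 0 := by
      by_contra hne'
      exact hmem (Submodule.mem_span_singleton.mpr ⟨(k * (m' - m))⁻¹ * (l - m'), by
        rw [← smul_smul, ← e, smul_smul, inv_mul_cancel₀ hne', one_smul]⟩)
    rw [hkm, zero_smul, eq_comm, smul_eq_zero, sub_eq_zero] at e
    rw [← hM, ← hm, e.resolve_right hu₀, sub_eq_zero.mp ((mul_eq_zero.mp hkm).resolve_left hk)]
  refine ⟨l, fun v => ?_⟩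
  rw [hM]
  have hv : v ∈ Submodule.span F {w : α → F | fA w w = 0} := by rw [UA.spanned h2]; trivial
  induction hv using Submodule.span_induction with
  | mem w hw => exact hiso w hw
  | zero => simp
  | add x y _ _ hx hy => rw [Matrix.mulVec_add, hx, hy, smul_add]
  | smul r x _ hx => rw [Matrix.mulVec_smul, hx, smul_comm]

end Op

/-- Without transvections the radical of a fibre is in the stabiliser. -/
theorem toOver (hex : (∃ θ : F, σ θ = θ ∧ θ ≠ 0 ∧ θ ≠ 1) ∨ 3 ≤ Fintype.card α) (h2 : 2 ≤ Fintype.card α)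
    (hS : ¬ Seed fA fB X) : Over σ fA fB X := by
  classical
  refine ⟨H.iso, fun t ht hiso => H.right (UA := UA) (UB := UB) ht hiso, fun o ho hoo g hg hfix hmid => ?_⟩
  have D := data UA UB H
  haveI : Nonempty α := Fintype.card_pos_iff.mp (by omega)
  obtain ⟨i₀⟩ := ‹Nonempty α›
  obtain ⟨k₀, hk₀⟩ := Function.ne_iff.mp ho
  let R : (β → F) → (α → F) →ₗ[F] (α → F) := fun w =>
    { toFun := fun a i => (g ⬝ₘ (tm a w) - tm a w) (i, k₀) / o k₀
      map_add' := fun a b => funext fun i => by simp [tm_add_left, Matrix.mulVec_add]; ring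
      map_smul' := fun r a => funext fun i => by simp [tm_smul_left, Matrix.mulVec_smul]; ring }
  let M : (β → F) → Matrix α α F := fun w => LinearMap.toMatrix' (R w)
  have hM : ∀ w, fB w o = 0 → ∀ a, g ⬝ₘ (tm a w) = tm a w + tm (M w *ᵥ a) o := fun w hw a => by
    obtain ⟨a', ha'⟩ := hmid a w hw
    have : M w *ᵥ a = a' := by
      rw [← Matrix.toLin'_apply, Matrix.toLin'_toMatrix']
      funext i
      change (g ⬝ₘ (tm a w) - tm a w) (i, k₀) / o k₀ = _
      rw [ha', add_sub_cancel_left, tm_apply, mul_div_cancel_right₀ _ hk₀]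
    rw [this, ha']
  have hMs : ∀ (r : F) w, M (r • w) = r • M w := fun r w => by
    refine Matrix.toLin'.injective (LinearMap.ext fun a => funext fun i => ?_)
    simp only [M, Matrix.toLin'_toMatrix', map_smul, LinearMap.smul_apply, Pi.smul_apply, smul_eq_mul]
    change (g ⬝ₘ (tm a (r • w)) - tm a (r • w)) (i, k₀) / o k₀ = r * ((g ⬝ₘ (tm a w) - tm a w) (i, k₀) / o k₀)
    rw [tm_smul_right, Matrix.mulVec_smul, ← smul_sub, Pi.smul_apply, smul_eq_mul, mul_div_assoc]
  -- the commutator with a Siegel element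
  have hcomm : ∀ w, fB w o = 0 → ∃ l : F, M w - formAdj σ fA (M w) = l • 1 := by
    intro w hw
    obtain ⟨X', hX'⟩ := UB.exists_trace (UB.fixed w)
    obtain ⟨t, ht, hiso, hU⟩ := exists_uel (α := α) D hoo hw (c := -X') (by rw [map_neg]; linear_combination -hX')
    obtain ⟨n, hn⟩ : ∃ n, n = kr (1 : GL α F) t := ⟨_, rfl⟩
    have hnX : n ∈ X := hn ▸ H.right (UA := UA) (UB := UB) ht hiso
    have hco : ∀ y, ctr fB o (g⁻¹ ⬝ₘ y) = ctr fB o y := fun y => ctr_eq D fun a => by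
      rw [← H.iso g hg, gl_mulVec_inv_cancel, hfix, tf_tm_right D]
    have hcw : ∀ y, ctr fB w (g⁻¹ ⬝ₘ y) = ctr fB w y + formAdj σ fA (M w) *ᵥ ctr fB o y := fun y => ctr_eq D fun a => by
      rw [← H.iso g hg, gl_mulVec_inv_cancel, hM w hw, (tf_semi D).add_right, tf_tm_right D, tf_tm_right D,
        UA.refl.semi.add_left, UA.refl.adj_spec']
    have hC : CenOp fB X o fun v => (M w - formAdj σ fA (M w)) *ᵥ v := by
      refine ⟨g * n * g⁻¹ * n⁻¹, mul_mem (mul_mem (mul_mem hg hnX) (inv_mem hg)) (inv_mem hnX), fun x => ?_⟩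
      obtain ⟨y, rfl⟩ : ∃ y, x = n ⬝ₘ y := ⟨_, (gl_mulVec_inv_cancel n x).symm⟩
      have hny : ctr fB o (n ⬝ₘ y) = ctr fB o y := by
        rw [hn, hU, ctr_add D, ctr_add D, ctr_tm D, ctr_tm D, hw, hoo, zero_smul, zero_smul, add_zero, add_zero]
      rw [gl_mul_mulVec, gl_inv_mulVec_cancel, gl_mul_mulVec, gl_mul_mulVec, hny, hn, hU, hU, Matrix.mulVec_add,
        Matrix.mulVec_add, gl_mulVec_inv_cancel, hM w hw, hfix, hco, hcw, map_one]
      simp only [Matrix.sub_mulVec, one_smul, tm_sub_left, tm_add_left, tm_smul_left]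
      abel
    obtain ⟨l, hl⟩ := cen_scalar UA UB H hex h2 hS ho hoo hC
    exact ⟨l, Matrix.toLin'.injective (LinearMap.ext fun v => by
      rw [Matrix.toLin'_apply, Matrix.toLin'_apply, hl, Matrix.smul_mulVec, Matrix.one_mulVec])⟩
  obtain ⟨z, hz⟩ : ∃ z : F, σ z ≠ z := by
    by_contra hcon
    push Not at hcon
    exact UA.sig.ne_refl (RingEquiv.ext hcon)
  have hscalar : ∀ w, fB w o = 0 → ∃ m : F, M w = m • 1 := fun w hw => by
    obtain ⟨l, hl⟩ := hcomm w hw
    obtain ⟨l', hl'⟩ := hcomm (z • w) (by rw [UB.refl.semi.smul_left, hw, mul_zero])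
    rw [hMs, UA.refl.adj_smul] at hl'
    refine ⟨(z - σ z)⁻¹ * (l' - σ z * l), ?_⟩
    rw [← smul_smul, sub_smul, ← hl', ← smul_smul, ← hl,
      show z • M w - σ z • formAdj σ fA (M w) - σ z • (M w - formAdj σ fA (M w)) = (z - σ z) • M w by module,
      smul_smul, inv_mul_cancel₀ (sub_ne_zero.mpr (Ne.symm hz)), one_smul]
  -- the middle part is one element of the stabiliser
  have hMii : ∀ w, (M w) i₀ i₀ =
      (g ⬝ₘ (tm (Pi.single i₀ (1 : F) : α → F) w) - tm (Pi.single i₀ (1 : F) : α → F) w) (i₀, k₀) / o k₀ := fun w => by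
    have h1 : (M w *ᵥ Pi.single i₀ (1 : F)) i₀ = (M w) i₀ i₀ := by simp
    rw [← h1, ← Matrix.toLin'_apply, Matrix.toLin'_toMatrix']
    rfl
  obtain ⟨k, hk⟩ : ∃ k : (β → F) →ₗ[F] F, ∀ w, k w = (M w) i₀ i₀ := ⟨
    { toFun := fun w => (M w) i₀ i₀
      map_add' := fun w w' => by
        simp only [hMii, tm_add_right, Matrix.mulVec_add, Pi.sub_apply, Pi.add_apply]
        ring
      map_smul' := fun r w => by rw [hMs]; simp }, fun w => rfl⟩
  obtain ⟨y, hy⟩ : ∃ y, ∀ v, -fB v y = k v := by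
    have hinj : Function.Injective fun y : β → F => fun i => -fB (Pi.single i 1) y := fun y y' e => by
      by_contra hne
      obtain ⟨x, hx⟩ := (UB.refl.nondeg _ (sub_ne_zero.mpr hne)).1
      apply hx
      rw [sub_eq_add_neg, UB.refl.semi.add_right, ← neg_one_smul F y', UB.refl.semi.smul_right, map_neg, map_one,
        pi_eq_sum_univ' x, UB.refl.sum_left, UB.refl.sum_left, Finset.mul_sum, ← Finset.sum_add_distrib]
      refine Finset.sum_eq_zero fun i _ => ?_
      rw [UB.refl.semi.smul_left, UB.refl.semi.smul_left]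
      linear_combination (-(x i)) * congrFun e i
    obtain ⟨y, hy⟩ := (Finite.injective_iff_surjective.mp hinj) fun i => k (Pi.single i 1)
    refine ⟨y, fun v => ?_⟩
    rw [pi_eq_sum_univ' v, UB.refl.sum_left, map_sum, ← Finset.sum_neg_distrib]
    refine Finset.sum_congr rfl fun i _ => ?_
    rw [UB.refl.semi.smul_left, map_smul, smul_eq_mul, ← congrFun hy i]
    ring
  have hyo : fB y o = 0 := UB.refl.eq_zero_swap (by
    have h1 : (M o) i₀ i₀ = 0 := by
      rw [hMii, hfix, sub_self, Pi.zero_apply, zero_div]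
    have := hy o
    rw [hk, h1, neg_eq_zero] at this
    exact this)
  obtain ⟨X', hX'⟩ := UB.exists_trace (UB.fixed y)
  obtain ⟨t, ht, hiso, hU⟩ := exists_uel (α := α) D hoo hyo (c := -X') (by rw [map_neg]; linear_combination -hX')
  obtain ⟨n, hn⟩ : ∃ n, n = kr (1 : GL α F) t := ⟨_, rfl⟩
  have hnX : n ∈ X := hn ▸ H.right (UA := UA) (UB := UB) ht hiso
  obtain ⟨g', hg'⟩ : ∃ g', g' = n⁻¹ * g := ⟨_, rfl⟩
  have hg'X : g' ∈ X := hg' ▸ mul_mem (inv_mem hnX) hg
  have hg'tm : ∀ a v, fB v o = 0 → g' ⬝ₘ (tm a v) = tm a v := fun a v hv => by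
    obtain ⟨m, hm⟩ := hscalar v hv
    have hmk : m = k v := by rw [hk, hm]; simp
    rw [hg', gl_mul_mulVec, hM v hv, hm, Matrix.smul_mulVec, Matrix.one_mulVec, hmk, ← hy]
    have := uel_mid D hU hv a
    rw [map_one, one_mul] at this
    rw [← this, ← hn, gl_inv_mulVec_cancel]
  have hg'fix : ∀ x, ctr fB o x = 0 → g' ⬝ₘ x = x := fun x hx => by
    rw [sum_rows x, Matrix.mulVec_sum]
    exact Finset.sum_congr rfl fun i _ => hg'tm _ _ (congrFun hx i)
  obtain ⟨o', -, ho', -⟩ := UB.exists_partner ho hoo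
  have hcen : ∀ c, ∃ u, g' ⬝ₘ (tm c o') - tm c o' = tm u o := fun c => eq_tm_of_ctr D fun v' hv' => by
    rw [ctr_sub D, sub_eq_zero]
    refine ctr_eq D fun a => ?_
    conv_lhs => rw [← hg'tm a v' hv', H.iso g' hg'X, tf_tm_right D]
  choose φ hφ using hcen
  have hC : CenOp fB X o φ := ⟨g', hg'X, fun x => by
    obtain ⟨x₁, hx₁⟩ : ∃ x₁, x₁ = x - tm (ctr fB o x) o' := ⟨_, rfl⟩
    have h1 : ctr fB o x₁ = 0 := by rw [hx₁, ctr_sub D, ctr_tm D, ho', one_smul, sub_self]
    have h2 := hg'fix x₁ h1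
    rw [hx₁, Matrix.mulVec_sub] at h2
    rw [← hφ]
    linear_combination (norm := module) h2⟩
  obtain ⟨l, hl⟩ := cen_scalar UA UB H hex h2 hS ho hoo hC
  obtain ⟨g'', hg''X, hg''⟩ := hC
  have hskew : l + σ l = 0 := by
    obtain ⟨a', ha'⟩ := (UA.refl.nondeg (Pi.single i₀ 1) (by simp)).2
    have := cen_skew UA UB H ho hoo ⟨g'', hg''X, hg''⟩ (Pi.single i₀ 1) a'
    rw [hl, hl, UA.refl.semi.smul_left, UA.refl.semi.smul_right, ← add_mul] at this
    exact (mul_eq_zero.mp this).resolve_right ha'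
  obtain ⟨t', -, -, hR⟩ := exists_rt (α := α) D hoo (c := l) (by rw [one_mul]; exact hskew)
  have hK : g' = kr 1 t' := gl_ext_mulVec fun x => by
    obtain ⟨x₁, hx₁⟩ : ∃ x₁, x₁ = x - tm (ctr fB o x) o' := ⟨_, rfl⟩
    have h1 : ctr fB o x₁ = 0 := by rw [hx₁, ctr_sub D, ctr_tm D, ho', one_smul, sub_self]
    have h2 := hg'fix x₁ h1
    rw [hx₁, Matrix.mulVec_sub] at h2
    rw [hR, ← hl, ← hφ]
    linear_combination (norm := module) h2
  have : g = n * g' := by rw [hg', mul_inv_cancel_left]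
  rw [this, hK, hn]
  exact mul_mem ⟨1, t, rfl⟩ ⟨1, t', rfl⟩

end Cfsg.Agent.Classical.TensorMax.Form
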