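/-
Singular pure tensors go to pure tensors, also when the dimensions of the factors differ by one.
-/
import Cfsg.Agent.Lib.Classical.TensorMax.Form.UCentre

set_option autoImplicit false
set_option linter.unusedSectionVars false

namespace Cfsg.Agent.Classical.TensorMax.Form

open Matrix Module Cfsg.Geo
open Cfsg.Agent.Classical

variable {n₁ n₂ : ℕ} {F : Type*} [Field F] [Fintype F] {q : ℕ} {σ : F ≃+* F}
  {fA : (Fin n₁ → F) → (Fin n₁ → F) → F} {fB : (Fin n₂ → F) → (Fin n₂ → F) → F}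
  {X : Subgroup (GL (Fin n₁ × Fin n₂) F)}

local notation "κ" => Fin n₁ × Fin n₂
local notation:max g:max " ⬝ₘ " x:max =>
  ((g : GL (Fin n₁ × Fin n₂) F) : Matrix (Fin n₁ × Fin n₂) (Fin n₁ × Fin n₂) F) *ᵥ x

namespace UForm

variable {ι : Type} [Fintype ι] [DecidableEq ι] {f : (ι → F) → (ι → F) → F} (U : UForm q σ f)

include U

/-- A combination whose mixed term vanishes. -/
theorem exists_keep (s z : ι → F) : ∃ r : F, r ≠ 0 ∧ f (s + r • z) (s + r • z) = f s s + r * σ r * f z z := by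
  obtain ⟨d, hd0, hd⟩ := U.sig.exists_skew
  by_cases hzs : f z s = 0
  · exact ⟨1, one_ne_zero, by rw [U.expand, hzs, mul_zero, map_zero, add_zero, add_zero]⟩
  · exact ⟨d / f z s, div_ne_zero hd0 hzs, by rw [U.expand, div_mul_cancel₀ _ hzs, hd, add_zero]⟩

end UForm

/-- A sum of `k` pure tensors. -/
def Summands (k : ℕ) (x : Fin n₁ × Fin n₂ → F) : Prop :=
  ∃ (a : Fin k → Fin n₁ → F) (b : Fin k → Fin n₂ → F), x = ∑ i, tm (a i) (b i)

omit [Fintype F] in
theorem summands_one {a : Fin n₁ → F} {b : Fin n₂ → F} : Summands 1 (tm a b) :=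
  ⟨fun _ => a, fun _ => b, by simp⟩

omit [Fintype F] in
theorem summands_add {k l : ℕ} {x y : κ → F} (hx : Summands k x) (hy : Summands l y) : Summands (k + l) (x + y) := by
  obtain ⟨a, b, rfl⟩ := hx
  obtain ⟨c, d, rfl⟩ := hy
  exact ⟨Fin.append a c, Fin.append b d, by simp [Fin.sum_univ_add]⟩

omit [Fintype F] in
theorem summands_map {k : ℕ} {x : κ → F} (hx : Summands k x) (A : GL (Fin n₁) F) (B : GL (Fin n₂) F) :
    Summands k ((kr A B) ⬝ₘ x) := by
  obtain ⟨a, b, rfl⟩ := hx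
  exact ⟨fun i => (A : Matrix (Fin n₁) (Fin n₁) F) *ᵥ a i, fun i => (B : Matrix (Fin n₂) (Fin n₂) F) *ᵥ b i,
    by rw [Matrix.mulVec_sum]; exact Finset.sum_congr rfl fun i _ => kr_tm _ _ _ _⟩

/-- The span of the rows. -/
def rowSpan (x : Fin n₁ × Fin n₂ → F) : Submodule F (Fin n₂ → F) := Submodule.span F (Set.range (row x))

omit [Fintype F] in
theorem summands_rows {k : ℕ} {x : κ → F} (hx : Summands k x) : finrank F (rowSpan x) ≤ k := by
  obtain ⟨a, b, rfl⟩ := hx
  refine (Submodule.finrank_mono (t := Submodule.span F (Set.range b)) (Submodule.span_le.mpr ?_)).trans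
    ((finrank_range_le_card b).trans_eq (Fintype.card_fin k))
  rintro _ ⟨i, rfl⟩
  have : row (∑ j, tm (a j) (b j)) i = ∑ j, a j i • b j := funext fun l => by
    simp [row, Finset.sum_apply, tm_apply]
  rw [SetLike.mem_coe, this]
  exact sum_mem fun j _ => Submodule.smul_mem _ _ (Submodule.subset_span ⟨j, rfl⟩)

/-- The setting. -/
structure UCtx (q : ℕ) (σ : F ≃+* F) (fA : (Fin n₁ → F) → (Fin n₁ → F) → F) (fB : (Fin n₂ → F) → (Fin n₂ → F) → F)
    (X : Subgroup (GL (Fin n₁ × Fin n₂) F)) : Prop where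
  ua : UForm q σ fA
  ub : UForm q σ fB
  ov : Over σ fA fB X
  two : 2 ≤ n₁
  lt : n₁ < n₂
  four : 4 ≤ n₂

variable (S : UCtx q σ fA fB X)

include S

theorem UCtx.data : Data σ 1 1 fA fB := ⟨S.ua.refl, S.ub.refl⟩

theorem UCtx.good_perp {x : κ → F} (W : Submodule F (Fin n₂ → F)) (hW : 2 ≤ finrank F W)
    (hx : ∀ w ∈ W, ctr fB w x = 0) : Good fB (fun _ : Unit => x) := by
  obtain ⟨o, ho, ho0, hoo⟩ := S.ub.exists_iso hW
  exact ⟨o, ho0, hoo, fun _ => hx o ho⟩

theorem UCtx.good_rows {x : κ → F} (h : finrank F (rowSpan x) + 2 ≤ n₂) : Good fB (fun _ : Unit => x) := by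
  refine S.good_perp (S.ub.refl.perp (rowSpan x)) ?_ fun w hw => funext fun i =>
    S.ub.refl.eq_zero_swap (hw _ (Submodule.subset_span ⟨i, rfl⟩))
  have := S.ub.refl.finrank_perp (rowSpan x)
  rw [Fintype.card_fin] at this
  omega

theorem UCtx.low {g : GL κ F} (hg : g ∈ X) {k : ℕ} (hk : k + 2 ≤ n₂) {x : κ → F} (hx : Summands k x)
    (hy : Good fB (fun _ : Unit => g ⬝ₘ x)) : Summands k (g ⬝ₘ x) := by
  have := summands_rows hx
  obtain ⟨A, B, -, h⟩ := factor S.data S.ov (S.ub.nice (by rw [Fintype.card_fin]; exact S.four)) S.two S.lt hg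
    (v := fun _ : Unit => x) (v' := fun _ => g ⬝ₘ x) (fun _ => rfl) (S.good_rows (by omega)) hy
  rw [← h ()]
  exact summands_map hx A B

theorem UCtx.pure_of_good {g : GL κ F} (hg : g ∈ X) {a : Fin n₁ → F} {b : Fin n₂ → F}
    (hy : Good fB (fun _ : Unit => g ⬝ₘ (tm a b))) : ∃ a' b', g ⬝ₘ (tm a b) = tm a' b' := by
  obtain ⟨c, d, h⟩ := S.low hg (k := 1) (by have := S.four; omega) summands_one hy
  exact ⟨c 0, d 0, by simpa using h⟩

/-- Pure tensors of the form `tm a w` with pure image. -/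
theorem UCtx.exists_pureSpace {g : GL κ F} (hg : g ∈ X) (a : Fin n₁ → F) :
    ∃ W : Submodule F (Fin n₂ → F), ∀ w, w ∈ W ↔ ∃ a' b', g ⬝ₘ (tm a w) = tm a' b' := by
  refine ⟨{ carrier := {w | ∃ a' b', g ⬝ₘ (tm a w) = tm a' b'}
            add_mem' := ?_, zero_mem' := ⟨0, 0, by simp⟩, smul_mem' := ?_ }, fun w => Iff.rfl⟩
  · rintro w w' ⟨a₁, b₁, h₁⟩ ⟨a₂, b₂, h₂⟩
    refine S.pure_of_good hg (S.good_rows ?_)
    rw [tm_add_right, Matrix.mulVec_add, h₁, h₂]
    have := summands_rows (summands_add (summands_one (a := a₁) (b := b₁)) (summands_one (a := a₂) (b := b₂)))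
    have := S.four
    omega
  · rintro r w ⟨a₁, b₁, h₁⟩
    exact ⟨r • a₁, b₁, by rw [tm_smul_right, Matrix.mulVec_smul, h₁, tm_smul_left]⟩

/-- In every line of pure tensors two independent ones have pure images with independent right factors. -/
theorem UCtx.exists_two {g : GL κ F} (hg : g ∈ X) {a : Fin n₁ → F} (ha : a ≠ 0) :
    ∃ (φ : Fin n₁ → F) (w w' b b' : Fin n₂ → F), φ ≠ 0 ∧ g ⬝ₘ (tm a w) = tm φ b ∧ g ⬝ₘ (tm a w') = tm φ b' ∧
      w' ∉ Submodule.span F {w} ∧ b' ∉ Submodule.span F {b} ∧ w ≠ 0 ∧ b ≠ 0 := by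
  have D := S.data
  have tool : ∀ o, o ≠ 0 → fB o o = 0 → ∃ w φ b, w ≠ 0 ∧ φ ≠ 0 ∧ b ≠ 0 ∧ g ⬝ₘ (tm a w) = tm φ b ∧ fB b o = 0 := by
    intro o ho hoo
    let L : (Fin n₂ → F) →ₗ[F] (Fin n₁ → F) :=
      { toFun := fun w => ctr fB o (g ⬝ₘ (tm a w))
        map_add' := fun w w' => by rw [tm_add_right, Matrix.mulVec_add, ctr_add D]
        map_smul' := fun r w => by rw [tm_smul_right, Matrix.mulVec_smul, ctr_smul D, RingHom.id_apply] }
    obtain ⟨w, hw, hw0⟩ := Submodule.exists_mem_ne_zero_of_ne_bot (LinearMap.ker_ne_bot_of_finrank_lt (f := L) (by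
      rw [finrank_fintype_fun_eq_card, finrank_fintype_fun_eq_card, Fintype.card_fin, Fintype.card_fin]; exact S.lt))
    obtain ⟨φ, b, h⟩ := S.pure_of_good hg ⟨o, ho, hoo, fun _ => hw⟩
    have hne : tm φ b ≠ 0 := fun e => tm_ne_zero ha hw0 (gl_mulVec_injective g (by
      change g ⬝ₘ _ = g ⬝ₘ _
      rw [h, e, Matrix.mulVec_zero]))
    have hφ : φ ≠ 0 := fun e => hne (by rw [e, tm_zero_left])
    refine ⟨w, φ, b, hw0, hφ, fun e => hne (by rw [e, tm_zero_right]), h, ?_⟩
    have : ctr fB o (g ⬝ₘ (tm a w)) = 0 := hw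
    rw [h, ctr_tm D, smul_eq_zero] at this
    exact this.resolve_right hφ
  obtain ⟨o, -, ho, hoo⟩ := S.ub.exists_iso (W := ⊤) (by
    rw [finrank_top, finrank_fintype_fun_eq_card, Fintype.card_fin]; have := S.four; omega)
  obtain ⟨w, φ, b, hw, hφ, hb, h, -⟩ := tool o ho hoo
  obtain ⟨o', hoo', hbo'⟩ : ∃ o', fB o' o' = 0 ∧ fB b o' ≠ 0 := by
    by_contra hcon
    push Not at hcon
    have hle : Submodule.span F {v : Fin n₂ → F | fB v v = 0} ≤ S.ub.refl.perp (Submodule.span F {b}) :=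
      Submodule.span_le.mpr fun v hv x hx => by
        obtain ⟨r, rfl⟩ := Submodule.mem_span_singleton.mp hx
        rw [S.ub.refl.semi.smul_right, S.ub.refl.eq_zero_swap (hcon v hv), mul_zero]
    rw [S.ub.spanned (by rw [Fintype.card_fin]; have := S.four; omega), top_le_iff] at hle
    have := S.ub.refl.finrank_perp (Submodule.span F {b})
    rw [hle, finrank_top, finrank_span_singleton hb, finrank_fintype_fun_eq_card] at this
    omega
  obtain ⟨w', φ', b', -, hφ', hb', h', hb'o⟩ := tool o' (fun e => hbo' (by rw [e, S.ub.refl.zero_right])) hoo'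
  have hbb : b' ∉ Submodule.span F {b} := fun e => by
    obtain ⟨r, hr⟩ := Submodule.mem_span_singleton.mp e
    rw [← hr, S.ub.refl.semi.smul_left, mul_eq_zero] at hb'o
    exact hb' (by rw [← hr, hb'o.resolve_right hbo', zero_smul])
  -- the sum is pure, so the left factors agree
  obtain ⟨c, d, hcd⟩ := S.pure_of_good hg (a := a) (b := w + w') (S.good_rows (by
    rw [tm_add_right, Matrix.mulVec_add, h, h']
    have := summands_rows (summands_add (summands_one (a := φ) (b := b)) (summands_one (a := φ') (b := b')))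
    have := S.four
    omega))
  rw [tm_add_right, Matrix.mulVec_add, h, h'] at hcd
  obtain ⟨u, hbu, hb'u⟩ := S.ub.exists_sep hbb
  have e : fB b' u • φ' = fB d u • c := by
    have := congrArg (ctr fB u) hcd
    rwa [ctr_add D, ctr_tm D, ctr_tm D, ctr_tm D, hbu, zero_smul, zero_add] at this
  have hbb' : b ∉ Submodule.span F {b'} := fun e => by
    obtain ⟨r, hr⟩ := Submodule.mem_span_singleton.mp e
    by_cases hr0 : r = 0
    · exact hb (by rw [← hr, hr0, zero_smul])
    exact hbb (Submodule.mem_span_singleton.mpr ⟨r⁻¹, by rw [← hr, smul_smul, inv_mul_cancel₀ hr0, one_smul]⟩)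
  obtain ⟨u', hb'u', hbu'⟩ := S.ub.exists_sep hbb'
  have e' : fB b u' • φ = fB d u' • c := by
    have := congrArg (ctr fB u') hcd
    rwa [ctr_add D, ctr_tm D, ctr_tm D, ctr_tm D, hb'u', zero_smul, add_zero] at this
  have hd : fB d u' ≠ 0 := fun e0 => hφ ((smul_eq_zero.mp (e'.trans (by rw [e0, zero_smul]))).resolve_left hbu')
  obtain ⟨k, hk⟩ : ∃ k, φ' = k • φ := ⟨(fB d u * fB b u') / (fB b' u * fB d u'), by
    have hc : c = ((fB d u')⁻¹ * fB b u') • φ := by rw [← smul_smul, e', smul_smul, inv_mul_cancel₀ hd, one_smul]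
    calc φ' = (fB b' u)⁻¹ • (fB b' u • φ') := by rw [smul_smul, inv_mul_cancel₀ hb'u, one_smul]
      _ = _ := by rw [e, hc, smul_smul, smul_smul]; congr 1; field_simp⟩
  have hk0 : k ≠ 0 := fun e0 => hφ' (by rw [hk, e0, zero_smul])
  refine ⟨φ, w, w', b, k • b', hφ, h, by rw [h', hk, tm_smul_left, tm_smul_right], fun e0 => ?_, fun e0 => ?_, hw, hb⟩
  · obtain ⟨r, hr⟩ := Submodule.mem_span_singleton.mp e0
    rw [← hr, tm_smul_right, Matrix.mulVec_smul, h, hk, ← tm_smul_right, tm_smul_left, ← tm_smul_right] at h'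
    obtain ⟨m, hm⟩ : ∃ m, m = k • b' := ⟨_, rfl⟩
    rw [← hm] at h'
    have : r • b = m := by
      have h0 : tm φ (r • b - m) = 0 := by rw [tm_sub_right, h', sub_self]
      exact sub_eq_zero.mp ((tm_eq_zero h0).resolve_left hφ)
    exact hbb (Submodule.mem_span_singleton.mpr ⟨k⁻¹ * r, by
      rw [← smul_smul, this, hm, smul_smul, inv_mul_cancel₀ hk0, one_smul]⟩)
  · have := Submodule.smul_mem _ k⁻¹ e0
    rw [smul_smul, inv_mul_cancel₀ hk0, one_smul] at this
    exact hbb this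

/-- Data attached to a non-pure image of a pure tensor. -/
structure UBad (g : GL (Fin n₁ × Fin n₂) F) (fB : (Fin n₂ → F) → (Fin n₂ → F) → F) (a : Fin n₁ → F)
    (w : Fin n₂ → F) (Q : Fin n₁ × Fin n₂ → F) (al : Fin n₂ → F) : Prop where
  eq : (g : Matrix (Fin n₁ × Fin n₂) (Fin n₁ × Fin n₂) F) *ᵥ tm a w = Q
  tight : n₂ = n₁ + 1
  rows : finrank F (rowSpan Q) = n₁
  al_perp : ∀ i, fB (row Q i) al = 0
  aniso : fB al al ≠ 0
  perp_al : ∀ v, (∀ i, fB (row Q i) v = 0) → v ∈ Submodule.span F {al}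
  mem : ∀ v, fB v al = 0 → v ∈ rowSpan Q

theorem UCtx.bad {g : GL κ F} (hg : g ∈ X) {a : Fin n₁ → F} {w : Fin n₂ → F}
    (h : ¬ ∃ a' b', g ⬝ₘ (tm a w) = tm a' b') : ∃ Q al, UBad g fB a w Q al := by
  obtain ⟨Q, hQ⟩ : ∃ Q, Q = g ⬝ₘ (tm a w) := ⟨_, rfl⟩
  have hng : ¬ Good fB (fun _ : Unit => Q) := fun hG => h (S.pure_of_good hg (hQ ▸ hG))
  obtain ⟨P, hP⟩ : ∃ P, P = S.ub.refl.perp (rowSpan Q) := ⟨_, rfl⟩
  have hPc : ∀ v ∈ P, ctr fB v Q = 0 := fun v hv => funext fun i =>
    S.ub.refl.eq_zero_swap (((hP ▸ hv) : v ∈ S.ub.refl.perp (rowSpan Q)) _ (Submodule.subset_span ⟨i, rfl⟩))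
  have hP1 : finrank F P ≤ 1 := by
    by_contra hcon
    exact hng (S.good_perp P (by omega) hPc)
  have hsum := S.ub.refl.finrank_perp (rowSpan Q)
  rw [← hP, Fintype.card_fin] at hsum
  have hr : finrank F (rowSpan Q) ≤ n₁ := (finrank_range_le_card _).trans_eq (Fintype.card_fin _)
  have hlt := S.lt
  have hPne : P ≠ ⊥ := fun e => by rw [e, finrank_bot] at hsum; omega
  obtain ⟨al, hal, hal0⟩ := P.exists_mem_ne_zero_of_ne_bot hPne
  have hPal : P = Submodule.span F {al} :=
    (Submodule.eq_of_le_of_finrank_le ((Submodule.span_singleton_le_iff_mem _ _).mpr hal)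
      (by rw [finrank_span_singleton hal0]; exact hP1)).symm
  have hPv : ∀ v, (∀ i, fB (row Q i) v = 0) → v ∈ P := fun v hv => by
    rw [hP]
    intro x hx
    have hle : rowSpan Q ≤ S.ub.refl.perp (Submodule.span F {v}) := Submodule.span_le.mpr (by
      rintro _ ⟨i, rfl⟩ y hy
      obtain ⟨r, rfl⟩ := Submodule.mem_span_singleton.mp hy
      rw [S.ub.refl.semi.smul_right, hv i, mul_zero])
    exact S.ub.refl.eq_zero_swap (hle hx v (Submodule.mem_span_singleton_self v))
  have hP1' : finrank F P = 1 := by rw [hPal, finrank_span_singleton hal0]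
  refine ⟨Q, al, hQ.symm, by omega, by omega, fun i => congrFun (hPc al hal) i,
    fun haa => hng ⟨al, hal0, haa, fun _ => hPc al hal⟩, fun v hv => hPal ▸ hPv v hv, fun v hv => ?_⟩
  have : v ∈ S.ub.refl.perp P := fun x hx => by
    rw [hPal] at hx
    obtain ⟨r, rfl⟩ := Submodule.mem_span_singleton.mp hx
    rw [S.ub.refl.semi.smul_right, hv, mul_zero]
  rwa [hP, S.ub.refl.perp_perp] at this

variable {g : GL (Fin n₁ × Fin n₂) F} {a₀ : Fin n₁ → F} {w₀ : Fin n₂ → F} {Q : Fin n₁ × Fin n₂ → F}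
  {al : Fin n₂ → F}

theorem UBad.al_ne (B : UBad g fB a₀ w₀ Q al) : al ≠ 0 := fun e => B.aniso (by rw [e, S.ub.refl.zero_left])

theorem UBad.row_al (B : UBad g fB a₀ w₀ Q al) {v : Fin n₂ → F} (hv : v ∈ rowSpan Q) : fB v al = 0 := by
  refine (show rowSpan Q ≤ S.ub.refl.perp (Submodule.span F {al}) from Submodule.span_le.mpr ?_) hv al
    (Submodule.mem_span_singleton_self al)
  rintro _ ⟨i, rfl⟩ x hx
  obtain ⟨r, rfl⟩ := Submodule.mem_span_singleton.mp hx
  rw [S.ub.refl.semi.smul_right, B.al_perp i, mul_zero]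

theorem UBad.ctr_al (B : UBad g fB a₀ w₀ Q al) : ctr fB al Q = 0 := funext B.al_perp

theorem UBad.eq_zero (B : UBad g fB a₀ w₀ Q al) {v : Fin n₂ → F} (hv : v ∈ rowSpan Q) (h : ctr fB v Q = 0) :
    v = 0 := by
  obtain ⟨r, rfl⟩ := Submodule.mem_span_singleton.mp (B.perp_al v fun i => congrFun h i)
  have := B.row_al S hv
  rw [S.ub.refl.semi.smul_left, mul_eq_zero] at this
  rw [this.resolve_right B.aniso, zero_smul]

theorem UBad.surj (B : UBad g fB a₀ w₀ Q al) (φ : Fin n₁ → F) : ∃ ρ ∈ rowSpan Q, ctr fB ρ Q = φ := by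
  have D := S.data
  have hinj : Function.Injective fun v : rowSpan Q => ctr fB (v : Fin n₂ → F) Q := fun v v' e => by
    refine Subtype.ext (sub_eq_zero.mp (B.eq_zero S (sub_mem v.2 v'.2) ?_))
    have e' : ctr fB (v : Fin n₂ → F) Q = ctr fB (v' : Fin n₂ → F) Q := e
    rw [show (v : Fin n₂ → F) - (v' : Fin n₂ → F) = (v : Fin n₂ → F) + (-1 : F) • (v' : Fin n₂ → F) by
      rw [neg_one_smul]; abel, ctr_add_vec D, ctr_smul_vec D, map_neg, map_one, neg_one_smul, e', add_neg_cancel]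
  haveI : Fintype (rowSpan Q) := Fintype.ofFinite _
  obtain ⟨v, hv⟩ := ((Fintype.bijective_iff_injective_and_card _).mpr ⟨hinj, by
    rw [Module.card_eq_pow_finrank (K := F) (V := rowSpan Q), B.rows, Fintype.card_fun, Fintype.card_fin]⟩).2 φ
  exact ⟨v, v.2, hv⟩

/-- Two orthogonal-to-everything directions give a good vector. -/
theorem UBad.good_of {v : Fin n₂ → F} (B : UBad g fB a₀ w₀ Q al) (hv : v ∈ rowSpan Q) (hv0 : v ≠ 0) {y : κ → F}
    (h₁ : ctr fB al y = 0) (h₂ : ctr fB v y = 0) : Good fB (fun _ : Unit => y) := by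
  have D := S.data
  refine S.good_perp (Submodule.span F {al} ⊔ Submodule.span F {v}) ?_ fun w hw => ?_
  · have hd : Submodule.span F {al} ⊓ Submodule.span F {v} = ⊥ := eq_bot_iff.mpr fun x hx => by
      obtain ⟨hx1, hx2⟩ := Submodule.mem_inf.mp hx
      obtain ⟨r, rfl⟩ := Submodule.mem_span_singleton.mp hx1
      obtain ⟨s, hs⟩ := Submodule.mem_span_singleton.mp hx2
      have h := B.row_al S ((rowSpan Q).smul_mem s hv)
      rw [hs, S.ub.refl.semi.smul_left, mul_eq_zero] at h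
      rw [h.resolve_right B.aniso, zero_smul]
      exact zero_mem _
    have := Submodule.finrank_sup_add_finrank_inf_eq (Submodule.span F {al}) (Submodule.span F {v})
    rw [hd, finrank_bot, finrank_span_singleton (B.al_ne S), finrank_span_singleton hv0] at this
    omega
  · obtain ⟨x, hx, z, hz, rfl⟩ := Submodule.mem_sup.mp hw
    obtain ⟨r, rfl⟩ := Submodule.mem_span_singleton.mp hx
    obtain ⟨s, rfl⟩ := Submodule.mem_span_singleton.mp hz
    rw [ctr_add_vec D, ctr_smul_vec D, ctr_smul_vec D, h₁, h₂, smul_zero, smul_zero, add_zero]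

/-- A pencil through a bad image and one pure tensor. -/
theorem UBad.single (B : UBad g fB a₀ w₀ Q al) (hg : g ∈ X) (h4 : 4 ≤ n₁) {ρ : Fin n₂ → F} (hρ : ρ ∈ rowSpan Q) {b : Fin n₂ → F}
    {e : Fin n₁ → F} {w : Fin n₂ → F} (hpre : g ⬝ₘ (tm e w) = tm (ctr fB ρ Q) b) :
    (fB ρ ρ ≠ 0 → fB b al = 0) ∧ (fB b al = 0 → fB b ρ = 0) := by
  have D := S.data
  have no : ∀ l : F, ¬ Good fB (fun _ : Unit => Q + l • tm (ctr fB ρ Q) b) := fun l hG => by
    have hd : g ⬝ₘ (tm a₀ w₀ + tm (l • e) w) = Q + l • tm (ctr fB ρ Q) b := by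
      rw [Matrix.mulVec_add, B.eq, tm_smul_left, Matrix.mulVec_smul, hpre]
    have h2 := S.low hg (k := 2) (by have := S.four; omega) (summands_add summands_one summands_one) (hd ▸ hG)
    rw [hd] at h2
    have h3 := summands_add h2 (summands_one (a := (-l) • ctr fB ρ Q) (b := b))
    rw [tm_smul_left, neg_smul, add_neg_cancel_right] at h3
    have := summands_rows h3
    rw [B.rows] at this
    omega
  constructor
  · intro hρρ
    by_contra hbal
    obtain ⟨s, -, hs⟩ := S.ub.sig.norm_surjective (t := -fB al al / fB ρ ρ)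
      (div_ne_zero (neg_ne_zero.mpr B.aniso) hρρ) (by rw [map_div₀, map_neg, S.ub.fixed, S.ub.fixed])
    obtain ⟨μ, hμ, hμ1, -, -⟩ := S.ub.sig.exists_norm_one
    obtain ⟨s', hs', hne⟩ : ∃ s', s' * σ s' = -fB al al / fB ρ ρ ∧ fB b (al + s' • ρ) ≠ 0 := by
      have e : ∀ r : F, fB b (al + r • ρ) = fB b al + σ r * fB b ρ := fun r => by
        rw [S.ub.refl.semi.add_right, S.ub.refl.semi.smul_right]
      by_cases h0 : fB b (al + s • ρ) = 0
      · refine ⟨μ * s, by rw [map_mul]; linear_combination (s * σ s) * hμ + hs, fun h1 => ?_⟩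
        rw [e] at h0 h1
        rw [map_mul] at h1
        have h2 : (σ μ - 1) * (σ s * fB b ρ) = 0 := by linear_combination h1 - h0
        rcases mul_eq_zero.mp h2 with h | h
        · exact hμ1 (by rw [← S.ub.sig.involutive μ, sub_eq_zero.mp h, map_one])
        · exact hbal (by rw [h, add_zero] at h0; exact h0)
      · exact ⟨s, hs, h0⟩
    refine no (-σ s' / fB b (al + s' • ρ)) ⟨al + s' • ρ, fun e => hne (by rw [e, S.ub.refl.zero_right]), ?_, fun _ => ?_⟩
    · rw [S.ub.expand, S.ub.refl.eq_zero_swap (S.ub.refl.eq_zero_swap (B.row_al S hρ)), hs']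
      field_simp
      simp
    · rw [ctr_add D, ctr_smul D, ctr_tm D, ctr_add_vec D, ctr_smul_vec D, B.ctr_al S, zero_add, smul_smul,
        div_mul_cancel₀ _ hne, ← add_smul, add_neg_cancel, zero_smul]
  · intro hbal
    by_contra hbρ
    have hρ0 : ρ ≠ 0 := fun e => hbρ (by rw [e, S.ub.refl.zero_right])
    refine no (-1 / fB b ρ) (B.good_of S hρ hρ0 ?_ ?_)
    · rw [ctr_add D, ctr_smul D, ctr_tm D, hbal, zero_smul, smul_zero, B.ctr_al S, add_zero]
    · rw [ctr_add D, ctr_smul D, ctr_tm D, smul_smul, div_mul_cancel₀ _ hbρ, neg_one_smul, add_neg_cancel]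

/-- A pencil through a bad image and two pure tensors whose preimages give few summands. -/
theorem UBad.pair (B : UBad g fB a₀ w₀ Q al) (hg : g ∈ X) {ρ ρ' : Fin n₂ → F} (hρ : ρ ∈ rowSpan Q)
    (hρ' : ρ' ∈ rowSpan Q) {b b' : Fin n₂ → F} {x x' : κ → F} (hx : g ⬝ₘ x = tm (ctr fB ρ Q) b)
    (hx' : g ⬝ₘ x' = tm (ctr fB ρ' Q) b') (hb : fB b al = 0) (hb' : fB b' al = 0) (hbρ : fB b ρ = 0)
    (hb'ρ : fB b' ρ' = 0) {k : ℕ} (hk : k + 2 ≤ n₁) (hsum : ∀ l l' : F, Summands k (tm a₀ w₀ + (l • x + l' • x'))) :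
    fB b ρ' * fB b' ρ = 0 := by
  by_contra hne
  have D := S.data
  have h1 : fB b ρ' ≠ 0 := left_ne_zero_of_mul hne
  have h2 : fB b' ρ ≠ 0 := right_ne_zero_of_mul hne
  obtain ⟨l, hl⟩ : ∃ l, l = -1 / fB b ρ' := ⟨_, rfl⟩
  obtain ⟨l', hl'⟩ : ∃ l', l' = -1 / fB b' ρ := ⟨_, rfl⟩
  obtain ⟨y, hy⟩ : ∃ y, y = Q + (l • tm (ctr fB ρ Q) b + l' • tm (ctr fB ρ' Q) b') := ⟨_, rfl⟩
  have hgy : g ⬝ₘ (tm a₀ w₀ + (l • x + l' • x')) = y := by
    rw [Matrix.mulVec_add, Matrix.mulVec_add, Matrix.mulVec_smul, Matrix.mulVec_smul, B.eq, hx, hx', hy]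
  have ho0 : ρ + ρ' ≠ 0 := fun e => h1 (by
    rw [eq_neg_of_add_eq_zero_right e, ← neg_one_smul F ρ, S.ub.refl.semi.smul_right, hbρ, mul_zero])
  have hG : Good fB (fun _ : Unit => y) := by
    refine B.good_of S (add_mem hρ hρ') ho0 ?_ ?_
    · rw [hy, ctr_add D, ctr_add D, ctr_smul D, ctr_smul D, ctr_tm D, ctr_tm D, hb, hb', B.ctr_al S]
      simp
    · rw [hy, ctr_add D, ctr_add D, ctr_smul D, ctr_smul D, ctr_tm D, ctr_tm D, S.ub.refl.semi.add_right,
        S.ub.refl.semi.add_right, hbρ, hb'ρ, zero_add, add_zero, ctr_add_vec D, smul_smul, smul_smul, hl, hl',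
        div_mul_cancel₀ _ h1, div_mul_cancel₀ _ h2]
      module
  have hlt := S.lt
  have hy3 := summands_rows (S.low hg (k := k) (by omega) (hsum l l') (hgy ▸ hG))
  rw [hgy] at hy3
  let T : (Fin n₂ → F) →ₗ[F] (Fin n₂ → F) :=
    { toFun := fun m => m + ((l * fB m ρ) • b + (l' * fB m ρ') • b')
      map_add' := fun m m' => by simp only [S.ub.refl.semi.add_left, mul_add, add_smul]; abel
      map_smul' := fun r m => by
        simp only [S.ub.refl.semi.smul_left, RingHom.id_apply, smul_add, smul_smul]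
        congr 2 <;> ring_nf }
  have hT : ∀ i, T (row Q i) = row y i := fun i => funext fun j => by
    simp only [T, LinearMap.coe_mk, AddHom.coe_mk, hy, row, Pi.add_apply, Pi.smul_apply, smul_eq_mul, tm_apply]
    simp only [show ∀ v, ctr fB v Q i = fB (row Q i) v from fun _ => rfl, row]
    ring
  obtain ⟨R, hR⟩ : ∃ R, R = T ∘ₗ (rowSpan Q).subtype := ⟨_, rfl⟩
  have hrange : LinearMap.range R ≤ rowSpan y := by
    rintro _ ⟨⟨v, hv⟩, rfl⟩
    rw [hR, LinearMap.comp_apply]
    refine (show rowSpan Q ≤ (rowSpan y).comap T from Submodule.span_le.mpr ?_) hv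
    rintro _ ⟨i, rfl⟩
    rw [SetLike.mem_coe, Submodule.mem_comap, hT i]; exact Submodule.subset_span ⟨i, rfl⟩
  have hker : finrank F (LinearMap.ker R) ≤ 1 := by
    obtain ⟨u, hu⟩ : ∃ u, u = (l * fB b' ρ) • b + (-1 : F) • b' := ⟨_, rfl⟩
    have hle : (LinearMap.ker R).map (rowSpan Q).subtype ≤ Submodule.span F {u} := by
      rintro _ ⟨⟨m, hm⟩, hm0, rfl⟩
      have h0 : m + ((l * fB m ρ) • b + (l' * fB m ρ') • b') = 0 := by
        have : R ⟨m, hm⟩ = 0 := hm0
        rw [hR] at this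
        exact this
      obtain ⟨s, hs⟩ : ∃ s, s = l * fB m ρ := ⟨_, rfl⟩
      obtain ⟨s', hs'⟩ : ∃ s', s' = l' * fB m ρ' := ⟨_, rfl⟩
      rw [← hs, ← hs'] at h0
      have hm' : m = -(s • b + s' • b') := eq_neg_of_add_eq_zero_left h0
      have h5 : fB m ρ = -(s' * fB b' ρ) := by
        rw [hm', S.ub.refl.neg_left, S.ub.refl.semi.add_left, S.ub.refl.semi.smul_left, S.ub.refl.semi.smul_left, hbρ,
          mul_zero, zero_add]
      refine Submodule.mem_span_singleton.mpr ⟨s', ?_⟩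
      change s' • u = m
      rw [hm', hu, hs, h5]
      module
    have h6 := Submodule.finrank_mono hle
    rw [Submodule.finrank_map_subtype_eq] at h6
    exact h6.trans ((finrank_span_le_card _).trans (by simp))
  have := LinearMap.finrank_range_add_finrank_ker R
  have := Submodule.finrank_mono hrange
  rw [B.rows] at *
  omega

/-- The right factors over a given left factor with pure preimage. -/
theorem UCtx.preSpace (hg : g ∈ X) (φ : Fin n₁ → F) :
    ∃ W : Submodule F (Fin n₂ → F), (∀ b, b ∈ W ↔ ∃ e w, g ⬝ₘ (tm e w) = tm φ b) ∧ (φ ≠ 0 → 2 ≤ finrank F W) := by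
  obtain ⟨W, hW⟩ := S.exists_pureSpace (inv_mem hg) φ
  have key : ∀ b, (∃ e w, g⁻¹ ⬝ₘ (tm φ b) = tm e w) ↔ ∃ e w, g ⬝ₘ (tm e w) = tm φ b := fun b =>
    ⟨fun ⟨e, w, h⟩ => ⟨e, w, by rw [← h, gl_mulVec_inv_cancel]⟩,
      fun ⟨e, w, h⟩ => ⟨e, w, by rw [← h, gl_inv_mulVec_cancel]⟩⟩
  refine ⟨W, fun b => (hW b).trans (key b), fun hφ => ?_⟩
  obtain ⟨e, w, w', b, b', -, h, h', hw', -, hw, -⟩ := S.exists_two (inv_mem hg) hφ
  have hle : Submodule.span F {w, w'} ≤ W := Submodule.span_le.mpr (by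
    intro x hx
    rcases hx with rfl | rfl
    exacts [(hW _).mpr ⟨e, b, h⟩, (hW _).mpr ⟨e, b', h'⟩])
  refine le_trans ?_ (Submodule.finrank_mono hle)
  have hli : LinearIndependent F ![w, w'] := linearIndependent_fin2.mpr ⟨fun e0 => hw' (by
    simp only [Matrix.cons_val_one, Matrix.cons_val_zero] at e0; rw [e0]; exact zero_mem _), fun r hr => by
      simp only [Matrix.cons_val_one, Matrix.cons_val_zero] at hr
      by_cases hr0 : r = 0
      · exact hw (by rw [← hr, hr0, zero_smul])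
      exact hw' (Submodule.mem_span_singleton.mpr ⟨r⁻¹, by rw [← hr, smul_smul, inv_mul_cancel₀ hr0, one_smul]⟩)⟩
  rw [← Matrix.range_cons_cons_empty w w' (![] : Fin 0 → Fin n₂ → F), finrank_span_eq_card hli, Fintype.card_fin]

theorem UBad.card_aniso (B : UBad g fB a₀ w₀ Q al) :
    Nat.card (rowSpan Q) ≤ (1 + Fintype.card F) * Nat.card {v : rowSpan Q // fB (v : Fin n₂ → F) v ≠ 0} := by
  classical
  haveI : Fintype (rowSpan Q) := Fintype.ofFinite _
  obtain ⟨y, hy, hyy⟩ : ∃ y ∈ rowSpan Q, fB y y ≠ 0 := S.ub.exists_aniso (by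
    rw [B.rows, Fintype.card_fin]; have := B.tight; have := S.two; omega)
  have pick : ∀ v : rowSpan Q, fB (v : Fin n₂ → F) v = 0 → ∃ r : F,
      fB ((v : Fin n₂ → F) + r • y) ((v : Fin n₂ → F) + r • y) ≠ 0 := by
    intro v hv
    obtain ⟨r, hr, h⟩ := S.ub.exists_keep (v : Fin n₂ → F) y
    exact ⟨r, by rw [h, hv, zero_add]; exact mul_ne_zero (mul_ne_zero hr ((map_ne_zero σ).mpr hr)) hyy⟩
  choose r hr using pick
  let Ψ : rowSpan Q → {v : rowSpan Q // fB (v : Fin n₂ → F) v ≠ 0} × Option F := fun v =>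
    if h : fB (v : Fin n₂ → F) v = 0 then
      (⟨⟨(v : Fin n₂ → F) + r v h • y, add_mem v.2 ((rowSpan Q).smul_mem _ hy)⟩, hr v h⟩, some (r v h))
    else (⟨v, h⟩, none)
  have hΨ : Function.Injective Ψ := fun v v' e => by
    simp only [Ψ] at e
    split_ifs at e with h h'
    · simp only [Prod.mk.injEq, Subtype.mk.injEq, Option.some.injEq] at e
      exact Subtype.ext (add_right_cancel (e.2 ▸ e.1))
    all_goals simp_all
  refine (Nat.card_le_card_of_injective Ψ hΨ).trans_eq ?_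
  rw [Nat.card_prod, Nat.card_eq_fintype_card (α := Option F), Fintype.card_option, add_comm 1, mul_comm]

/-- No bad image when the smaller dimension is at least five. -/
theorem UBad.false_big (B : UBad g fB a₀ w₀ Q al) (hg : g ∈ X) (h5 : 5 ≤ n₁) : False := by
  classical
  haveI : Fintype (rowSpan Q) := Fintype.ofFinite _
  choose Bp hBp hBp2 using fun ρ : rowSpan Q => S.preSpace hg (ctr fB (ρ : Fin n₂ → F) Q)
  obtain ⟨As, hAs⟩ : ∃ As : Finset (rowSpan Q), As = Finset.univ.filter fun v : rowSpan Q => fB (v : Fin n₂ → F) v ≠ 0 := ⟨_, rfl⟩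
  have hsingle : ∀ ρ ∈ As, ∀ b ∈ Bp ρ, fB b al = 0 ∧ fB b (ρ : Fin n₂ → F) = 0 := fun ρ hρ b hb => by
    obtain ⟨e, w, h⟩ := (hBp ρ b).mp hb
    rw [hAs, Finset.mem_filter] at hρ
    have := B.single S hg (by omega) ρ.2 h
    exact ⟨this.1 hρ.2, this.2 (this.1 hρ.2)⟩
  -- for any two, one is orthogonal to the partners of the other
  let K : rowSpan Q → Finset (rowSpan Q) := fun ρ => Finset.univ.filter fun v : rowSpan Q => ∀ b ∈ Bp ρ, fB b (v : Fin n₂ → F) = 0
  have hcover : As ×ˢ As ⊆ (As.biUnion fun ρ => (K ρ).image fun v => (ρ, v)) ∪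
      (As.biUnion fun ρ => (K ρ).image fun v => (v, ρ)) := by
    rintro ⟨ρ, ρ'⟩ hp
    obtain ⟨hρ, hρ'⟩ := Finset.mem_product.mp hp
    simp only [Finset.mem_union, Finset.mem_biUnion, Finset.mem_image, Prod.mk.injEq, K, Finset.mem_filter,
      Finset.mem_univ, true_and]
    by_cases h : ∀ b ∈ Bp ρ, fB b (ρ' : Fin n₂ → F) = 0
    · exact Or.inl ⟨ρ, hρ, ρ', h, rfl, rfl⟩
    push Not at h
    obtain ⟨b, hb, hbρ'⟩ := h
    refine Or.inr ⟨ρ', hρ', ρ, fun b' hb' => ?_, rfl, rfl⟩
    obtain ⟨e, w, he⟩ := (hBp ρ b).mp hb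
    obtain ⟨e', w', he'⟩ := (hBp ρ' b').mp hb'
    obtain ⟨h1, h2⟩ := hsingle ρ hρ b hb
    obtain ⟨h1', h2'⟩ := hsingle ρ' hρ' b' hb'
    refine (mul_eq_zero.mp (B.pair S hg ρ.2 ρ'.2 he he' h1 h1' h2 h2' (k := 3) (by omega) fun l l' => ?_)).resolve_left
      hbρ'
    rw [← tm_smul_left, ← tm_smul_left]
    exact summands_add summands_one (summands_add summands_one summands_one)
  have hbound : ∀ ρ ∈ As, (K ρ).card ≤ Fintype.card F ^ (n₁ - 2) := by
    intro ρ hρ
    have hne : ctr fB (ρ : Fin n₂ → F) Q ≠ 0 := fun e => by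
      rw [hAs, Finset.mem_filter] at hρ
      exact hρ.2 (by rw [B.eq_zero S ρ.2 e, S.ub.refl.zero_left])
    have h2 := hBp2 ρ hne
    obtain ⟨P, hP⟩ : ∃ P, P = S.ub.refl.perp (Bp ρ ⊔ Submodule.span F {al}) := ⟨_, rfl⟩
    have hsub : ∀ v : rowSpan Q, v ∈ K ρ → (v : Fin n₂ → F) ∈ P := fun v hv => by
      simp only [K, Finset.mem_filter, Finset.mem_univ, true_and] at hv
      rw [hP]
      intro x hx
      obtain ⟨b, hb, z, hz, rfl⟩ := Submodule.mem_sup.mp hx
      obtain ⟨r, rfl⟩ := Submodule.mem_span_singleton.mp hz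
      rw [S.ub.refl.semi.add_right, S.ub.refl.semi.smul_right, S.ub.refl.eq_zero_swap (hv b hb), B.row_al S v.2,
        mul_zero, add_zero]
    haveI : Fintype P := Fintype.ofFinite _
    have hc : (K ρ).card ≤ Fintype.card P := by
      rw [← Fintype.card_coe]
      exact Fintype.card_le_of_injective (fun v : K ρ => (⟨((v : rowSpan Q) : Fin n₂ → F), hsub v v.2⟩ : P))
        fun v v' e => by
          simp only [Subtype.mk.injEq] at e
          exact Subtype.ext (Subtype.ext e)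
    refine hc.trans ?_
    rw [Module.card_eq_pow_finrank (K := F) (V := P)]
    refine Nat.pow_le_pow_right Fintype.card_pos ?_
    have hd : Bp ρ ⊓ Submodule.span F {al} = ⊥ := eq_bot_iff.mpr fun x hx => by
      obtain ⟨hx1, hx2⟩ := Submodule.mem_inf.mp hx
      obtain ⟨r, rfl⟩ := Submodule.mem_span_singleton.mp hx2
      have := (hsingle ρ hρ _ hx1).1
      rw [S.ub.refl.semi.smul_left, mul_eq_zero] at this
      rw [this.resolve_right B.aniso, zero_smul]
      exact zero_mem _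
    have h3 := Submodule.finrank_sup_add_finrank_inf_eq (Bp ρ) (Submodule.span F {al})
    rw [hd, finrank_bot, finrank_span_singleton (B.al_ne S)] at h3
    have h4 := S.ub.refl.finrank_perp (Bp ρ ⊔ Submodule.span F {al})
    rw [← hP, Fintype.card_fin] at h4
    have := B.tight
    omega
  obtain ⟨N, hN⟩ : ∃ N, N = Fintype.card F ^ (n₁ - 2) := ⟨_, rfl⟩
  have h1 := (Finset.card_le_card hcover).trans (Finset.card_union_le _ _)
  have hb1 : ∀ f : rowSpan Q → rowSpan Q → rowSpan Q × rowSpan Q,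
      (As.biUnion fun ρ => (K ρ).image (f ρ)).card ≤ As.card * N := fun f =>
    Finset.card_biUnion_le_card_mul _ _ _ fun ρ hρ => Finset.card_image_le.trans (hN ▸ hbound ρ hρ)
  rw [Finset.card_product] at h1
  have h2 : As.card * As.card ≤ As.card * (2 * N) := by
    have := hb1 fun ρ v => (ρ, v)
    have := hb1 fun ρ v => (v, ρ)
    rw [two_mul, Nat.mul_add]
    omega
  have hA := B.card_aniso S
  rw [Nat.card_eq_fintype_card, Module.card_eq_pow_finrank (K := F) (V := rowSpan Q), B.rows,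
    Nat.card_eq_fintype_card, Fintype.card_subtype, ← hAs, show Fintype.card F ^ n₁ = Fintype.card F ^ (n₁ - 2) * Fintype.card F ^ 2 by rw [← pow_add]; congr 1; omega, ← hN] at hA
  have hNpos : 0 < N := hN ▸ Nat.pow_pos Fintype.card_pos
  have hApos : 0 < As.card := by
    rcases Nat.eq_zero_or_pos As.card with h | h
    · rw [h, mul_zero] at hA
      have := Nat.mul_pos hNpos (Nat.pow_pos (n := 2) (Fintype.card_pos (α := F)))
      omega
    · exact h
  have h3 : As.card ≤ 2 * N := Nat.le_of_mul_le_mul_left h2 hApos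
  have hF : 4 ≤ Fintype.card F := by
    have := S.ub.sig.two_le
    rw [S.ub.sig.card]
    nlinarith
  rw [pow_two] at hA
  nlinarith [Nat.mul_le_mul_left (1 + Fintype.card F) h3, Nat.mul_le_mul_left N hF,
    Nat.mul_le_mul_left N (Nat.mul_le_mul_right (Fintype.card F) hF)]

/-- No bad image when the dimensions are four and five. -/
theorem UBad.false_four (B : UBad g fB a₀ w₀ Q al) (hg : g ∈ X) (h4 : n₁ = 4) : False := by
  classical
  have D := S.data
  have hn2 : n₂ = 5 := by rw [B.tight, h4]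
  have ha₀ : a₀ ≠ 0 := fun e => by
    have h := B.rows
    rw [← B.eq, e, tm_zero_left, Matrix.mulVec_zero] at h
    have : rowSpan (0 : κ → F) = ⊥ := eq_bot_iff.mpr (Submodule.span_le.mpr (by rintro _ ⟨i, rfl⟩; rfl))
    rw [this, finrank_bot] at h
    omega
  obtain ⟨φe, w₁, w₂, b₁, b₂, hφe, h₁, h₂, -, hb₂, -, hb₁⟩ := S.exists_two hg ha₀
  obtain ⟨ρe, hρe, hρeQ⟩ := B.surj S φe
  obtain ⟨Be, hBe⟩ : ∃ W : Submodule F (Fin n₂ → F), ∀ b, b ∈ W ↔ ∃ e w, g ⬝ₘ (tm e w) = tm φe b := by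
    obtain ⟨W, hW, -⟩ := S.preSpace hg φe
    exact ⟨W, hW⟩
  -- preimages over the shared left factor
  have hshare : ∀ b ∈ Be, ∃ w, g ⬝ₘ (tm a₀ w) = tm φe b := by
    intro b hb
    obtain ⟨e, w, he⟩ := (hBe b).mp hb
    by_cases hea : e ∈ Submodule.span F {a₀}
    · obtain ⟨r, rfl⟩ := Submodule.mem_span_singleton.mp hea
      exact ⟨r • w, by rw [tm_smul_right, ← tm_smul_left, he]⟩
    have hprop : ∀ {w' b'}, g ⬝ₘ (tm a₀ w') = tm φe b' → w ∈ Submodule.span F {w'} ∨ w' = 0 := by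
      intro w' b' h'
      obtain ⟨c, d, hcd⟩ := S.pure_of_good (g := g⁻¹) (inv_mem hg) (a := φe) (b := b + b') (S.good_rows (by
        rw [tm_add_right, ← he, ← h', Matrix.mulVec_add, gl_inv_mulVec_cancel, gl_inv_mulVec_cancel]
        have := summands_rows (summands_add (summands_one (a := e) (b := w)) (summands_one (a := a₀) (b := w')))
        omega))
      rw [tm_add_right, ← he, ← h', Matrix.mulVec_add, gl_inv_mulVec_cancel, gl_inv_mulVec_cancel] at hcd
      rcases eq_or_ne w' 0 with hw' | hw'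
      · exact Or.inr hw'
      refine Or.inl (by_contra fun hmem => hea ?_)
      obtain ⟨u, hwu, hu⟩ := S.ub.exists_sep hmem
      have e1 := congrArg (ctr fB u) hcd
      rw [ctr_add D, ctr_tm D, ctr_tm D, ctr_tm D, hwu, zero_smul, add_zero] at e1
      obtain ⟨u', hwu', hu'⟩ := S.ub.exists_sep (p := w') (r := w) fun hm => by
        obtain ⟨r, hr⟩ := Submodule.mem_span_singleton.mp hm
        by_cases hr0 : r = 0
        · exact hw' (by rw [← hr, hr0, zero_smul])
        exact hmem (Submodule.mem_span_singleton.mpr ⟨r⁻¹, by rw [← hr, smul_smul, inv_mul_cancel₀ hr0, one_smul]⟩)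
      have e2 := congrArg (ctr fB u') hcd
      rw [ctr_add D, ctr_tm D, ctr_tm D, ctr_tm D, hwu', zero_smul, zero_add] at e2
      have hd : fB d u' ≠ 0 := fun e0 => by
        rw [e0, zero_smul] at e2
        exact ha₀ ((smul_eq_zero.mp e2).resolve_left hu')
      refine Submodule.mem_span_singleton.mpr ⟨(fB d u * fB w' u') / (fB w u * fB d u'), ?_⟩
      have hc : c = ((fB d u')⁻¹ * fB w' u') • a₀ := by rw [← smul_smul, e2, smul_smul, inv_mul_cancel₀ hd, one_smul]
      calc _ = (fB w u)⁻¹ • (fB d u • c) := by rw [hc, smul_smul, smul_smul]; congr 1; field_simp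
        _ = e := by rw [← e1, smul_smul, inv_mul_cancel₀ hu, one_smul]
    rcases eq_or_ne w 0 with hw | hw
    · exact ⟨0, by rw [← he, hw, tm_zero_right, tm_zero_right]⟩
    exfalso
    rcases hprop h₁ with hm₁ | hm₁
    swap
    · rw [hm₁, tm_zero_right, Matrix.mulVec_zero] at h₁
      exact tm_ne_zero hφe hb₁ h₁.symm
    rcases hprop h₂ with hm₂ | hm₂
    swap
    · rw [hm₂, tm_zero_right, Matrix.mulVec_zero] at h₂
      exact hb₂ (by rw [(tm_eq_zero h₂.symm).resolve_left hφe]; exact zero_mem _)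
    obtain ⟨r, hr⟩ := Submodule.mem_span_singleton.mp hm₁
    obtain ⟨s, hs⟩ := Submodule.mem_span_singleton.mp hm₂
    have hr0 : r ≠ 0 := fun e0 => hw (by rw [← hr, e0, zero_smul])
    have hs0 : s ≠ 0 := fun e0 => hw (by rw [← hs, e0, zero_smul])
    have : w₂ = (s⁻¹ * r) • w₁ := by rw [← smul_smul, hr, ← hs, smul_smul, inv_mul_cancel₀ hs0, one_smul]
    rw [this, tm_smul_right, Matrix.mulVec_smul, h₁, ← tm_smul_right] at h₂
    refine hb₂ (Submodule.mem_span_singleton.mpr ⟨s⁻¹ * r, ?_⟩)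
    exact sub_eq_zero.mp ((tm_eq_zero (by rw [tm_sub_right, h₂, sub_self])).resolve_left hφe)
  have hBe2 : 2 ≤ finrank F Be := by
    have hle : Submodule.span F {b₁, b₂} ≤ Be := Submodule.span_le.mpr (by
      intro x hx
      rcases hx with rfl | rfl
      exacts [(hBe _).mpr ⟨a₀, w₁, h₁⟩, (hBe _).mpr ⟨a₀, w₂, h₂⟩])
    refine le_trans ?_ (Submodule.finrank_mono hle)
    have hli : LinearIndependent F ![b₁, b₂] := linearIndependent_fin2.mpr ⟨fun e0 => hb₂ (by
      simp only [Matrix.cons_val_one, Matrix.cons_val_zero] at e0; rw [e0]; exact zero_mem _), fun r hr => by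
        simp only [Matrix.cons_val_one, Matrix.cons_val_zero] at hr
        by_cases hr0 : r = 0
        · exact hb₁ (by rw [← hr, hr0, zero_smul])
        exact hb₂ (Submodule.mem_span_singleton.mpr ⟨r⁻¹, by rw [← hr, smul_smul, inv_mul_cancel₀ hr0, one_smul]⟩)⟩
    rw [← Matrix.range_cons_cons_empty b₁ b₂ (![] : Fin 0 → Fin n₂ → F), finrank_span_eq_card hli, Fintype.card_fin]
  -- the planes orthogonal to two vectors inside the row space
  have plane : ∀ {ρ ρ' : Fin n₂ → F}, ρ ∈ rowSpan Q → ρ' ∈ rowSpan Q → LinearIndependent F ![ρ, ρ'] →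
      ∃ P : Submodule F (Fin n₂ → F), finrank F P = 2 ∧ ∀ v, v ∈ P ↔ fB v al = 0 ∧ fB v ρ = 0 ∧ fB v ρ' = 0 := by
    intro ρ ρ' hρ hρ' hli
    refine ⟨S.ub.refl.perp (Submodule.span F {al} ⊔ Submodule.span F (Set.range ![ρ, ρ'])), ?_, fun v => ?_⟩
    · have hd : Submodule.span F {al} ⊓ Submodule.span F (Set.range ![ρ, ρ']) = ⊥ := eq_bot_iff.mpr fun x hx => by
        obtain ⟨hx1, hx2⟩ := Submodule.mem_inf.mp hx
        obtain ⟨r, rfl⟩ := Submodule.mem_span_singleton.mp hx1
        have h0 := B.row_al S ((show Submodule.span F (Set.range ![ρ, ρ']) ≤ rowSpan Q from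
          Submodule.span_le.mpr (by rintro _ ⟨i, rfl⟩; fin_cases i <;> assumption)) hx2)
        rw [S.ub.refl.semi.smul_left, mul_eq_zero] at h0
        rw [h0.resolve_right B.aniso, zero_smul]
        exact zero_mem _
      have h := Submodule.finrank_sup_add_finrank_inf_eq (Submodule.span F {al}) (Submodule.span F (Set.range ![ρ, ρ']))
      rw [hd, finrank_bot, finrank_span_singleton (B.al_ne S), finrank_span_eq_card hli, Fintype.card_fin] at h
      have h' := S.ub.refl.finrank_perp (Submodule.span F {al} ⊔ Submodule.span F (Set.range ![ρ, ρ']))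
      rw [Fintype.card_fin] at h'
      omega
    · constructor
      · intro hv
        exact ⟨hv al (Submodule.mem_sup_left (Submodule.mem_span_singleton_self al)),
          hv ρ (Submodule.mem_sup_right (Submodule.subset_span ⟨0, rfl⟩)),
          hv ρ' (Submodule.mem_sup_right (Submodule.subset_span ⟨1, rfl⟩))⟩
      · rintro ⟨h0, h1, h2⟩
        have hle : Submodule.span F {al} ⊔ Submodule.span F (Set.range ![ρ, ρ']) ≤
            S.ub.refl.perp (Submodule.span F {v}) := by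
          refine sup_le (Submodule.span_le.mpr ?_) (Submodule.span_le.mpr ?_)
          · rintro _ rfl x hx
            obtain ⟨r, rfl⟩ := Submodule.mem_span_singleton.mp hx
            rw [S.ub.refl.semi.smul_right, S.ub.refl.eq_zero_swap h0, mul_zero]
          · rintro _ ⟨i, rfl⟩ x hx
            obtain ⟨r, rfl⟩ := Submodule.mem_span_singleton.mp hx
            rw [S.ub.refl.semi.smul_right]
            fin_cases i
            · simp [S.ub.refl.eq_zero_swap h1]
            · simp [S.ub.refl.eq_zero_swap h2]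
        intro x hx
        exact S.ub.refl.eq_zero_swap (hle hx v (Submodule.mem_span_singleton_self v))
  -- the partners of an anisotropic vector not orthogonal to one chosen partner of `φe`
  have full : ∀ be ∈ Be, fB be al = 0 → ∀ ρ ∈ rowSpan Q, fB ρ ρ ≠ 0 → fB be ρ ≠ 0 →
      ∀ v, fB v al = 0 → fB v ρ = 0 → fB v ρe = 0 → ∃ e w, g ⬝ₘ (tm e w) = tm (ctr fB ρ Q) v := by
    intro be hbe hbeal ρ hρ hρρ hbeρ
    obtain ⟨w, hw⟩ := hshare be hbe
    have hbeρe : fB be ρe = 0 := (B.single S hg (by omega) hρe (e := a₀) (w := w) (by rw [hρeQ, hw])).2 hbeal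
    have hne : ctr fB ρ Q ≠ 0 := fun e => hρρ (by rw [B.eq_zero S hρ e, S.ub.refl.zero_left])
    obtain ⟨W, hW, hW2⟩ := S.preSpace hg (ctr fB ρ Q)
    have hli : LinearIndependent F ![ρ, ρe] := linearIndependent_fin2.mpr ⟨fun e => hφe (by
      simp only [Matrix.cons_val_one, Matrix.cons_val_zero] at e
      rw [← hρeQ, e]; exact funext fun i => S.ub.refl.zero_right _), fun r hr => by
        simp only [Matrix.cons_val_one, Matrix.cons_val_zero] at hr
        exact hbeρ (by rw [← hr, S.ub.refl.semi.smul_right, hbeρe, mul_zero])⟩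
    obtain ⟨P, hP, hPm⟩ := plane hρ hρe hli
    have hle : W ≤ P := fun b hb => by
      obtain ⟨e', w', he'⟩ := (hW b).mp hb
      obtain ⟨h1, h2⟩ := B.single S hg (by omega) hρ he'
      refine (hPm b).mpr ⟨h1 hρρ, h2 (h1 hρρ), ?_⟩
      refine (mul_eq_zero.mp (B.pair S hg hρ hρe he' (x' := tm a₀ w) (by rw [hρeQ, hw]) (h1 hρρ) hbeal (h2 (h1 hρρ))
        hbeρe (k := 2) (by omega) fun l l' => ?_)).resolve_right hbeρ
      rw [show tm a₀ w₀ + (l • tm e' w' + l' • tm a₀ w) = tm a₀ (w₀ + l' • w) + tm (l • e') w' by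
        rw [tm_add_right, tm_smul_right, tm_smul_left]; abel]
      exact summands_add summands_one summands_one
    have : W = P := Submodule.eq_of_le_of_finrank_le hle (by rw [hP]; exact hW2 hne)
    intro v h1 h2 h3
    exact (hW v).mp (this ▸ (hPm v).mpr ⟨h1, h2, h3⟩)
  obtain ⟨be, hbe, hbe0, hbeal⟩ : ∃ be ∈ Be, be ≠ 0 ∧ fB be al = 0 := by
    obtain ⟨b, hb, hb0⟩ := Submodule.exists_mem_ne_zero_of_ne_bot (p := Be ⊓ rowSpan Q) fun e => by
      have h := Submodule.finrank_sup_add_finrank_inf_eq Be (rowSpan Q)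
      have h' := (Submodule.finrank_le (Be ⊔ rowSpan Q)).trans_eq (finrank_fintype_fun_eq_card F)
      rw [e, finrank_bot, B.rows] at h
      rw [Fintype.card_fin] at h'
      omega
    exact ⟨b, hb.1, hb0, B.row_al S hb.2⟩
  have hρe0 : ρe ≠ 0 := fun e => hφe (by rw [← hρeQ, e]; exact funext fun i => S.ub.refl.zero_right _)
  -- two dimensions of partners of `φe` in the row space
  obtain ⟨P0, hP0, hP0m⟩ : ∃ P0 : Submodule F (Fin n₂ → F), 2 ≤ finrank F P0 ∧
      ∀ v ∈ P0, v ∈ Be ∧ fB v al = 0 ∧ fB v ρe = 0 := by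
    by_cases hρee : fB ρe ρe = 0
    swap
    · refine ⟨Be, hBe2, fun v hv => ?_⟩
      obtain ⟨e, w, he⟩ := (hBe v).mp hv
      obtain ⟨h1, h2⟩ := B.single S hg (by omega) hρe (e := e) (w := w) (by rw [hρeQ, he])
      exact ⟨hv, h1 hρee, h2 (h1 hρee)⟩
    obtain ⟨ρ, hρ, hρρ, hbeρ⟩ : ∃ ρ ∈ rowSpan Q, fB ρ ρ ≠ 0 ∧ fB be ρ ≠ 0 := by
      obtain ⟨r0, hr0, hr00⟩ : ∃ r ∈ rowSpan Q, fB r r ≠ 0 := S.ub.exists_aniso (by
        rw [B.rows, Fintype.card_fin]; omega)
      by_cases hb : fB be r0 = 0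
      swap
      · exact ⟨r0, hr0, hr00, hb⟩
      obtain ⟨z, hz, hbz⟩ : ∃ z ∈ rowSpan Q, fB be z ≠ 0 := by
        by_contra hcon
        push Not at hcon
        exact hbe0 (B.eq_zero S (B.mem be hbeal) (funext fun i =>
          S.ub.refl.eq_zero_swap (hcon _ (Submodule.subset_span ⟨i, rfl⟩))))
      by_cases hzz : fB z z = 0
      swap
      · exact ⟨z, hz, hzz, hbz⟩
      obtain ⟨r, hr, he⟩ := S.ub.exists_keep r0 z
      refine ⟨r0 + r • z, add_mem hr0 ((rowSpan Q).smul_mem r hz), ?_, ?_⟩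
      · rw [he, hzz, mul_zero, add_zero]; exact hr00
      · rw [S.ub.refl.semi.add_right, S.ub.refl.semi.smul_right, hb, zero_add]
        exact mul_ne_zero ((map_ne_zero σ).mpr hr) hbz
    obtain ⟨μ, hμ, he⟩ := S.ub.exists_keep ρ ρe
    have hρ2 : fB (ρ + μ • ρe) (ρ + μ • ρe) ≠ 0 := by rw [he, hρee, mul_zero, add_zero]; exact hρρ
    obtain ⟨w, hw⟩ := hshare be hbe
    have hbeρe : fB be ρe = 0 := (B.single S hg (by omega) hρe (e := a₀) (w := w) (by rw [hρeQ, hw])).2 hbeal
    have hli : LinearIndependent F ![ρ, ρe] := linearIndependent_fin2.mpr ⟨by simpa using hρe0, fun r hr => by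
      simp only [Matrix.cons_val_one, Matrix.cons_val_zero] at hr
      exact hρρ (by rw [← hr, S.ub.refl.semi.smul_left, S.ub.refl.semi.smul_right, hρee, mul_zero, mul_zero])⟩
    obtain ⟨P, hP, hPm⟩ := plane hρ hρe hli
    refine ⟨P, hP.ge, fun v hv => ?_⟩
    obtain ⟨v0, v1, v2⟩ := (hPm v).mp hv
    obtain ⟨e1, u1, h1⟩ := full be hbe hbeal ρ hρ hρρ hbeρ v v0 v1 v2
    obtain ⟨e2, u2, h2⟩ := full be hbe hbeal (ρ + μ • ρe) (add_mem hρ ((rowSpan Q).smul_mem μ hρe)) hρ2
      (by rw [S.ub.refl.semi.add_right, S.ub.refl.semi.smul_right, hbeρe, mul_zero, add_zero]; exact hbeρ)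
      v v0 (by rw [S.ub.refl.semi.add_right, S.ub.refl.semi.smul_right, v1, v2, mul_zero, add_zero]) v2
    refine ⟨(hBe v).mpr ?_, v0, v2⟩
    obtain ⟨x, hx⟩ : ∃ x, x = tm ((σ μ)⁻¹ • e2) u2 + tm (-(σ μ)⁻¹ • e1) u1 := ⟨_, rfl⟩
    have hgx : g ⬝ₘ x = tm φe v := by
      rw [hx, Matrix.mulVec_add, tm_smul_left, tm_smul_left, Matrix.mulVec_smul, Matrix.mulVec_smul, h1, h2,
        ctr_add_vec D, ctr_smul_vec D, hρeQ, tm_add_left, tm_smul_left, smul_add, smul_smul,
        inv_mul_cancel₀ ((map_ne_zero σ).mpr hμ), one_smul]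
      module
    obtain ⟨c, d, hcd⟩ := S.pure_of_good (g := g⁻¹) (inv_mem hg) (a := φe) (b := v) (S.good_rows (by
      rw [← hgx, gl_inv_mulVec_cancel, hx]
      have := summands_rows (summands_add (summands_one (a := (σ μ)⁻¹ • e2) (b := u2))
        (summands_one (a := -(σ μ)⁻¹ • e1) (b := u1)))
      omega))
    exact ⟨c, d, by rw [← hcd, gl_mulVec_inv_cancel]⟩
  -- one more direction
  obtain ⟨y, hy0, hyal, hyρe, hspan⟩ : ∃ y, y ≠ 0 ∧ fB y al = 0 ∧ fB y ρe = 0 ∧
      finrank F ↥(P0 ⊔ Submodule.span F {y}) ≥ 3 := by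
    obtain ⟨N, hN⟩ : ∃ N, N = S.ub.refl.perp (Submodule.span F {al} ⊔ Submodule.span F {ρe}) := ⟨_, rfl⟩
    have hNm : ∀ v ∈ N, fB v al = 0 ∧ fB v ρe = 0 := fun v hv => by
      rw [hN] at hv
      exact ⟨hv al (Submodule.mem_sup_left (Submodule.mem_span_singleton_self al)),
        hv ρe (Submodule.mem_sup_right (Submodule.mem_span_singleton_self ρe))⟩
    have hN3 : 3 ≤ finrank F N := by
      have h1 := Submodule.finrank_add_le_finrank_add_finrank (Submodule.span F {al}) (Submodule.span F {ρe})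
      have h2 := S.ub.refl.finrank_perp (Submodule.span F {al} ⊔ Submodule.span F {ρe})
      rw [← hN, Fintype.card_fin] at h2
      rw [finrank_span_singleton (B.al_ne S), finrank_span_singleton hρe0] at h1
      omega
    by_cases hc : 3 ≤ finrank F P0
    · obtain ⟨y, hy, hy0⟩ := N.exists_mem_ne_zero_of_ne_bot fun e => by rw [e, finrank_bot] at hN3; omega
      exact ⟨y, hy0, (hNm y hy).1, (hNm y hy).2, hc.trans (Submodule.finrank_mono le_sup_left)⟩
    obtain ⟨y, hy, hyP⟩ : ∃ y ∈ N, y ∉ P0 := by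
      by_contra hcon
      push Not at hcon
      have := Submodule.finrank_mono (show N ≤ P0 from hcon)
      omega
    refine ⟨y, fun e => hyP (e ▸ zero_mem _), (hNm y hy).1, (hNm y hy).2, ?_⟩
    have : P0 < P0 ⊔ Submodule.span F {y} := lt_of_le_of_ne le_sup_left fun e =>
      hyP (e.symm ▸ Submodule.mem_sup_right (Submodule.mem_span_singleton_self y))
    have := Submodule.finrank_lt_finrank_of_lt this
    omega
  obtain ⟨Φy, hΦy⟩ : ∃ W : Submodule F (Fin n₁ → F), ∀ φ, φ ∈ W ↔ ∃ e w, g ⬝ₘ (tm e w) = tm φ y := by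
    refine ⟨{ carrier := {φ | ∃ e w, g ⬝ₘ (tm e w) = tm φ y}
              add_mem' := ?_, zero_mem' := ⟨0, 0, by simp⟩, smul_mem' := ?_ }, fun _ => Iff.rfl⟩
    · rintro φ φ' ⟨e, w, h⟩ ⟨e', w', h'⟩
      obtain ⟨c, d, hcd⟩ := S.pure_of_good (g := g⁻¹) (inv_mem hg) (a := φ + φ') (b := y) (S.good_rows (by
        rw [tm_add_left, ← h, ← h', Matrix.mulVec_add, gl_inv_mulVec_cancel, gl_inv_mulVec_cancel]
        have := summands_rows (summands_add (summands_one (a := e) (b := w)) (summands_one (a := e') (b := w')))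
        omega))
      exact ⟨c, d, by rw [← hcd, gl_mulVec_inv_cancel]⟩
    · rintro r φ ⟨e, w, h⟩
      exact ⟨r • e, w, by rw [tm_smul_left, Matrix.mulVec_smul, h, tm_smul_left]⟩
  obtain ⟨Ny, hNy⟩ : ∃ Ny, Ny = S.ub.refl.perp (Submodule.span F {al} ⊔ Submodule.span F {y}) := ⟨_, rfl⟩
  have hNym : ∀ v, v ∈ Ny ↔ fB v al = 0 ∧ fB v y = 0 := fun v => by
    rw [hNy]
    constructor
    · intro hv
      exact ⟨hv al (Submodule.mem_sup_left (Submodule.mem_span_singleton_self al)),
        hv y (Submodule.mem_sup_right (Submodule.mem_span_singleton_self y))⟩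
    · rintro ⟨h1, h2⟩ x hx
      obtain ⟨p, hp, r, hr, rfl⟩ := Submodule.mem_sup.mp hx
      obtain ⟨s, rfl⟩ := Submodule.mem_span_singleton.mp hp
      obtain ⟨t, rfl⟩ := Submodule.mem_span_singleton.mp hr
      rw [S.ub.refl.semi.add_right, S.ub.refl.semi.smul_right, S.ub.refl.semi.smul_right, h1, h2]; simp
  have hNy3 : finrank F Ny = 3 := by
    have hd : Submodule.span F {al} ⊓ Submodule.span F {y} = ⊥ := eq_bot_iff.mpr fun x hx => by
      obtain ⟨hx1, hx2⟩ := Submodule.mem_inf.mp hx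
      obtain ⟨r, rfl⟩ := Submodule.mem_span_singleton.mp hx1
      obtain ⟨s, hs⟩ := Submodule.mem_span_singleton.mp hx2
      have h := B.row_al S ((rowSpan Q).smul_mem s (B.mem y hyal))
      rw [hs, S.ub.refl.semi.smul_left, mul_eq_zero] at h
      rw [h.resolve_right B.aniso, zero_smul]
      exact zero_mem _
    have h := Submodule.finrank_sup_add_finrank_inf_eq (Submodule.span F {al}) (Submodule.span F {y})
    rw [hd, finrank_bot, finrank_span_singleton (B.al_ne S), finrank_span_singleton hy0] at h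
    have h' := S.ub.refl.finrank_perp (Submodule.span F {al} ⊔ Submodule.span F {y})
    rw [← hNy, Fintype.card_fin] at h'
    omega
  have hρeN : ρe ∈ Ny := (hNym ρe).mpr ⟨B.row_al S hρe, S.ub.refl.eq_zero_swap hyρe⟩
  obtain ⟨R, hR⟩ : ∃ R : Submodule F (Fin n₂ → F),
      R = Submodule.span F {r | r ∈ Ny ∧ fB r r ≠ 0 ∧ r ∉ Submodule.span F {ρe}} := ⟨_, rfl⟩
  have hRsub : ∀ r ∈ R, ctr fB r Q ∈ Φy := by
    intro r hr
    rw [hR] at hr
    induction hr using Submodule.span_induction with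
    | mem r hr =>
      obtain ⟨hrN, hrr, hrn⟩ := hr
      obtain ⟨hral, hry⟩ := (hNym r).mp hrN
      obtain ⟨b, hb, hbr⟩ : ∃ b ∈ P0, fB b r ≠ 0 := by
        by_contra hcon
        push Not at hcon
        refine hrn ?_
        obtain ⟨C, hC⟩ : ∃ C, C = P0 ⊔ Submodule.span F {y} ⊔ Submodule.span F {al} := ⟨_, rfl⟩
        have hd : (P0 ⊔ Submodule.span F {y}) ⊓ Submodule.span F {al} = ⊥ := eq_bot_iff.mpr fun x hx => by
          obtain ⟨hx1, hx2⟩ := Submodule.mem_inf.mp hx
          obtain ⟨t, rfl⟩ := Submodule.mem_span_singleton.mp hx2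
          obtain ⟨p, hp, z, hz, hpz⟩ := Submodule.mem_sup.mp hx1
          obtain ⟨s, rfl⟩ := Submodule.mem_span_singleton.mp hz
          have h0 : fB (t • al) al = 0 := by
            rw [← hpz, S.ub.refl.semi.add_left, S.ub.refl.semi.smul_left, (hP0m p hp).2.1, hyal]; simp
          rw [S.ub.refl.semi.smul_left, mul_eq_zero] at h0
          rw [h0.resolve_right B.aniso, zero_smul]
          exact zero_mem _
        have h := Submodule.finrank_sup_add_finrank_inf_eq (P0 ⊔ Submodule.span F {y}) (Submodule.span F {al})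
        rw [hd, finrank_bot, finrank_span_singleton (B.al_ne S), ← hC] at h
        have h' := S.ub.refl.finrank_perp C
        rw [Fintype.card_fin] at h'
        have hρC : ρe ∈ S.ub.refl.perp C := fun x hx => by
          rw [hC] at hx
          obtain ⟨p, hp, z, hz, rfl⟩ := Submodule.mem_sup.mp hx
          obtain ⟨t, rfl⟩ := Submodule.mem_span_singleton.mp hz
          obtain ⟨p', hp', z', hz', rfl⟩ := Submodule.mem_sup.mp hp
          obtain ⟨s, rfl⟩ := Submodule.mem_span_singleton.mp hz'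
          rw [S.ub.refl.semi.add_right, S.ub.refl.semi.add_right, S.ub.refl.semi.smul_right, S.ub.refl.semi.smul_right,
            S.ub.refl.eq_zero_swap (hP0m p' hp').2.2, S.ub.refl.eq_zero_swap hyρe, B.row_al S hρe]
          simp
        have heq : Submodule.span F {ρe} = S.ub.refl.perp C := Submodule.eq_of_le_of_finrank_le
          ((Submodule.span_singleton_le_iff_mem _ _).mpr hρC) (by rw [finrank_span_singleton hρe0]; omega)
        rw [heq]
        intro x hx
        rw [hC] at hx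
        obtain ⟨p, hp, z, hz, rfl⟩ := Submodule.mem_sup.mp hx
        obtain ⟨t, rfl⟩ := Submodule.mem_span_singleton.mp hz
        obtain ⟨p', hp', z', hz', rfl⟩ := Submodule.mem_sup.mp hp
        obtain ⟨s, rfl⟩ := Submodule.mem_span_singleton.mp hz'
        rw [S.ub.refl.semi.add_right, S.ub.refl.semi.add_right, S.ub.refl.semi.smul_right, S.ub.refl.semi.smul_right,
          S.ub.refl.eq_zero_swap (hcon p' hp'), hry, hral]
        simp
      exact (hΦy _).mpr (full b (hP0m b hb).1 (hP0m b hb).2.1 r (B.mem r hral) hrr hbr y hyal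
        (S.ub.refl.eq_zero_swap hry) hyρe)
    | zero => rw [show ctr fB (0 : Fin n₂ → F) Q = 0 from funext fun i => S.ub.refl.zero_right _]; exact zero_mem _
    | add x z _ _ hx hz => rw [ctr_add_vec D]; exact add_mem hx hz
    | smul t x _ hx => rw [ctr_smul_vec D]; exact Φy.smul_mem _ hx
  have hRN : Ny ≤ R := by
    have hin : ∀ r, r ∈ Ny → fB r r ≠ 0 → r ∉ Submodule.span F {ρe} → r ∈ R := fun r h1 h2 h3 =>
      hR ▸ Submodule.subset_span ⟨h1, h2, h3⟩
    obtain ⟨s, hs, hss, hsn⟩ : ∃ s ∈ Ny, fB s s ≠ 0 ∧ s ∉ Submodule.span F {ρe} := by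
      obtain ⟨a, ha, haa⟩ := S.ub.exists_aniso (W := Ny) (by rw [hNy3, Fintype.card_fin]; omega)
      by_cases han : a ∈ Submodule.span F {ρe}
      swap
      · exact ⟨a, ha, haa, han⟩
      obtain ⟨t, ht⟩ := Submodule.mem_span_singleton.mp han
      have hee : fB ρe ρe ≠ 0 := fun e => haa (by
        rw [← ht, S.ub.refl.semi.smul_left, S.ub.refl.semi.smul_right, e, mul_zero, mul_zero])
      obtain ⟨z, hz, hzn⟩ : ∃ z ∈ Ny, z ∉ Submodule.span F {ρe} := by
        by_contra hcon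
        push Not at hcon
        have := Submodule.finrank_mono (show Ny ≤ Submodule.span F {ρe} from hcon)
        rw [hNy3, finrank_span_singleton hρe0] at this
        omega
      by_cases hzz : fB z z = 0
      swap
      · exact ⟨z, hz, hzz, hzn⟩
      obtain ⟨r, hr, he⟩ := S.ub.exists_keep z ρe
      refine ⟨z + r • ρe, add_mem hz (Ny.smul_mem r hρeN), ?_, fun h => hzn ?_⟩
      · rw [he, hzz, zero_add]; exact mul_ne_zero (mul_ne_zero hr ((map_ne_zero σ).mpr hr)) hee
      · have := sub_mem h (Submodule.smul_mem _ r (Submodule.mem_span_singleton_self ρe))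
        rwa [add_sub_cancel_right] at this
    have hsR : s ∈ R := hin s hs hss hsn
    have h1 : ∀ v ∈ Ny, v ∈ R ⊔ Submodule.span F {ρe} := by
      intro v hv
      by_cases hvn : v ∈ Submodule.span F {ρe}
      · exact Submodule.mem_sup_right hvn
      by_cases hvv : fB v v = 0
      swap
      · exact Submodule.mem_sup_left (hin v hv hvv hvn)
      obtain ⟨r, hr, he⟩ := S.ub.exists_keep v s
      have hne : fB (v + r • s) (v + r • s) ≠ 0 := by
        rw [he, hvv, zero_add]; exact mul_ne_zero (mul_ne_zero hr ((map_ne_zero σ).mpr hr)) hss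
      have : v + r • s ∈ R ⊔ Submodule.span F {ρe} := by
        by_cases hn : v + r • s ∈ Submodule.span F {ρe}
        · exact Submodule.mem_sup_right hn
        · exact Submodule.mem_sup_left (hin _ (add_mem hv (Ny.smul_mem r hs)) hne hn)
      simpa using sub_mem this (Submodule.mem_sup_left (R.smul_mem r hsR))
    suffices hρR : ρe ∈ R by
      intro v hv
      obtain ⟨p, hp, z, hz, rfl⟩ := Submodule.mem_sup.mp (h1 v hv)
      obtain ⟨t, rfl⟩ := Submodule.mem_span_singleton.mp hz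
      exact add_mem hp (R.smul_mem t hρR)
    by_cases hee : fB ρe ρe = 0
    · obtain ⟨r, hr, he⟩ := S.ub.exists_keep s ρe
      have hmem := hin (s + r • ρe) (add_mem hs (Ny.smul_mem r hρeN))
        (by rw [he, hee, mul_zero, add_zero]; exact hss) (fun h => hsn (by
          have := sub_mem h (Submodule.smul_mem _ r (Submodule.mem_span_singleton_self ρe))
          rwa [add_sub_cancel_right] at this))
      have := R.smul_mem r⁻¹ (sub_mem hmem hsR)
      rwa [add_sub_cancel_left, smul_smul, inv_mul_cancel₀ hr, one_smul] at this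
    · by_contra hρR
      have hdim : 2 ≤ finrank F R := by
        have h2 := Submodule.finrank_mono (show Ny ≤ R ⊔ Submodule.span F {ρe} from h1)
        have h3 := Submodule.finrank_add_le_finrank_add_finrank R (Submodule.span F {ρe})
        rw [finrank_span_singleton hρe0] at h3
        omega
      obtain ⟨i, hi, hi0, hii⟩ := S.ub.exists_iso hdim
      have hiN : i ∈ Ny := (show R ≤ Ny from hR ▸ Submodule.span_le.mpr fun r hr => hr.1) hi
      obtain ⟨r, hr, he⟩ := S.ub.exists_keep i ρe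
      have hmem := hin (i + r • ρe) (add_mem hiN (Ny.smul_mem r hρeN))
        (by rw [he, hii, zero_add]; exact mul_ne_zero (mul_ne_zero hr ((map_ne_zero σ).mpr hr)) hee) (fun h => by
          have h' := sub_mem h (Submodule.smul_mem _ r (Submodule.mem_span_singleton_self ρe))
          rw [add_sub_cancel_right] at h'
          obtain ⟨t, ht⟩ := Submodule.mem_span_singleton.mp h'
          by_cases ht0 : t = 0
          · exact hi0 (by rw [← ht, ht0, zero_smul])
          exact hρR (by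
            have := R.smul_mem t⁻¹ hi
            rwa [← ht, smul_smul, inv_mul_cancel₀ ht0, one_smul] at this))
      have := R.smul_mem r⁻¹ (sub_mem hmem hi)
      rw [add_sub_cancel_left, smul_smul, inv_mul_cancel₀ hr, one_smul] at this
      exact hρR this
  have hΦ3 : 3 ≤ finrank F Φy := by
    haveI : Fintype Ny := Fintype.ofFinite _
    haveI : Fintype Φy := Fintype.ofFinite _
    have hinj : Function.Injective fun v : Ny => (⟨ctr fB (v : Fin n₂ → F) Q, hRsub _ (hRN v.2)⟩ : Φy) := fun v v' e => by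
      simp only [Subtype.mk.injEq] at e
      refine Subtype.ext (sub_eq_zero.mp (B.eq_zero S (B.mem _ ((hNym _).mp (sub_mem v.2 v'.2)).1) ?_))
      rw [show (v : Fin n₂ → F) - (v' : Fin n₂ → F) = (v : Fin n₂ → F) + (-1 : F) • (v' : Fin n₂ → F) by
        rw [neg_one_smul]; abel, ctr_add_vec D, ctr_smul_vec D, map_neg, map_one, neg_one_smul, e, add_neg_cancel]
    have := Fintype.card_le_of_injective _ hinj
    rw [Module.card_eq_pow_finrank (K := F) (V := Ny), Module.card_eq_pow_finrank (K := F) (V := Φy), hNy3] at this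
    exact (Nat.pow_le_pow_iff_right Fintype.one_lt_card).mp this
  -- a functional vanishing on three dimensions of left factors
  obtain ⟨χ, hχ0, hχ⟩ : ∃ χ : Fin n₁ → F, χ ≠ 0 ∧ ∀ φ ∈ Φy, χ ⬝ᵥ φ = 0 := by
    have hlt : finrank F Φy < n₁ := by
      by_contra hcon
      have htop : Φy = ⊤ := Submodule.eq_top_of_finrank_eq (le_antisymm (Submodule.finrank_le _) (by
        rw [finrank_fintype_fun_eq_card, Fintype.card_fin]; omega))
      obtain ⟨r, hr, hrr⟩ : ∃ r ∈ rowSpan Q, fB y r ≠ 0 := by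
        by_contra hc
        push Not at hc
        exact hy0 (B.eq_zero S (B.mem y hyal) (funext fun i =>
          S.ub.refl.eq_zero_swap (hc _ (Submodule.subset_span ⟨i, rfl⟩))))
      obtain ⟨e, w, he⟩ := (hΦy (ctr fB r Q)).mp (htop ▸ Submodule.mem_top)
      exact hrr ((B.single S hg (by omega) hr he).2 hyal)
    obtain ⟨l, hl, hle⟩ := Submodule.exists_le_ker_of_lt_top Φy (lt_top_iff_ne_top.mpr fun e => by
      rw [e, finrank_top, finrank_fintype_fun_eq_card, Fintype.card_fin] at hlt; omega)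
    obtain ⟨χ, hχ⟩ := Radical.exists_vec l
    refine ⟨χ, fun e => hl (LinearMap.ext fun x => ?_), fun φ hφ => by rw [hχ]; exact hle hφ⟩
    rw [← hχ, e, zero_dotProduct, LinearMap.zero_apply]
  -- every line of pure tensors has a large pure part
  have big : ∀ {a' : Fin n₁ → F}, ∀ W : Submodule F (Fin n₂ → F),
      (∀ w, w ∈ W ↔ ∃ c d, g ⬝ₘ (tm a' w) = tm c d) → 4 ≤ finrank F W := by
    intro a' W hW
    by_cases hWtop : W = ⊤
    · rw [hWtop, finrank_top, finrank_fintype_fun_eq_card, Fintype.card_fin]; omega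
    let L : (Fin n₂ → F) →ₗ[F] (Fin n₂ → F) :=
      { toFun := fun w => ∑ i, χ i • row (g ⬝ₘ (tm a' w)) i
        map_add' := fun w w' => by
          rw [← Finset.sum_add_distrib]
          exact Finset.sum_congr rfl fun i _ => by rw [tm_add_right, Matrix.mulVec_add, row_add, smul_add]
        map_smul' := fun r w => by
          rw [RingHom.id_apply, Finset.smul_sum]
          exact Finset.sum_congr rfl fun i _ => by rw [tm_smul_right, Matrix.mulVec_smul, row_smul, smul_comm] }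
    have hbad : ∀ w, w ∉ W → L w ∈ Submodule.span F {y} := by
      intro w hw
      obtain ⟨Q', al', B'⟩ := S.bad hg fun h => hw ((hW w).mpr h)
      obtain ⟨R', hR'⟩ : ∃ R' : Submodule F (Fin n₂ → F), ∀ v, v ∈ R' ↔ v ∈ rowSpan Q' ∧ ctr fB v Q' ∈ Φy :=
        ⟨{ carrier := {v | v ∈ rowSpan Q' ∧ ctr fB v Q' ∈ Φy}
           add_mem' := fun {u v} hu hv => ⟨add_mem hu.1 hv.1, by rw [ctr_add_vec D]; exact add_mem hu.2 hv.2⟩
           zero_mem' := ⟨zero_mem _, by
             rw [show ctr fB (0 : Fin n₂ → F) Q' = 0 from funext fun i => S.ub.refl.zero_right _]; exact zero_mem _⟩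
           smul_mem' := fun t v hv => ⟨(rowSpan Q').smul_mem t hv.1, by
             rw [ctr_smul_vec D]; exact Φy.smul_mem _ hv.2⟩ }, fun _ => Iff.rfl⟩
      have hR3 : 3 ≤ finrank F R' := by
        haveI : Fintype R' := Fintype.ofFinite _
        haveI : Fintype Φy := Fintype.ofFinite _
        have hsur : Function.Surjective fun v : R' => (⟨ctr fB (v : Fin n₂ → F) Q', ((hR' _).mp v.2).2⟩ : Φy) := by
          rintro ⟨φ, hφ⟩
          obtain ⟨v, hv, hvφ⟩ := B'.surj S φ
          exact ⟨⟨v, (hR' v).mpr ⟨hv, hvφ ▸ hφ⟩⟩, Subtype.ext hvφ⟩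
        have := Fintype.card_le_of_surjective _ hsur
        rw [Module.card_eq_pow_finrank (K := F) (V := R'), Module.card_eq_pow_finrank (K := F) (V := Φy)] at this
        exact hΦ3.trans ((Nat.pow_le_pow_iff_right Fintype.one_lt_card).mp this)
      obtain ⟨r, hr, hrr⟩ := S.ub.exists_aniso (W := R') (by rw [Fintype.card_fin]; omega)
      have hyal' : fB y al' = 0 := by
        obtain ⟨e, u, he⟩ := (hΦy _).mp ((hR' r).mp hr).2
        exact (B'.single S hg (by omega) ((hR' r).mp hr).1 he).1 hrr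
      have hyR : ∀ v ∈ R', fB y v = 0 := fun v hv => by
        obtain ⟨e, u, he⟩ := (hΦy _).mp ((hR' v).mp hv).2
        exact (B'.single S hg (by omega) ((hR' v).mp hv).1 he).2 hyal'
      obtain ⟨C, hC⟩ : ∃ C, C = R' ⊔ Submodule.span F {al'} := ⟨_, rfl⟩
      have hC4 : 4 ≤ finrank F C := by
        have hd : R' ⊓ Submodule.span F {al'} = ⊥ := eq_bot_iff.mpr fun x hx => by
          obtain ⟨hx1, hx2⟩ := Submodule.mem_inf.mp hx
          obtain ⟨t, rfl⟩ := Submodule.mem_span_singleton.mp hx2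
          have h0 := B'.row_al S ((hR' _).mp hx1).1
          rw [S.ub.refl.semi.smul_left, mul_eq_zero] at h0
          rw [h0.resolve_right B'.aniso, zero_smul]
          exact zero_mem _
        have h := Submodule.finrank_sup_add_finrank_inf_eq R' (Submodule.span F {al'})
        rw [hd, finrank_bot, finrank_span_singleton (B'.al_ne S), ← hC] at h
        omega
      have hperp : S.ub.refl.perp C = Submodule.span F {y} := by
        refine (Submodule.eq_of_le_of_finrank_le ((Submodule.span_singleton_le_iff_mem _ _).mpr ?_) ?_).symm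
        · intro x hx
          rw [hC] at hx
          obtain ⟨p, hp, z, hz, rfl⟩ := Submodule.mem_sup.mp hx
          obtain ⟨t, rfl⟩ := Submodule.mem_span_singleton.mp hz
          rw [S.ub.refl.semi.add_right, S.ub.refl.semi.smul_right, hyR p hp, hyal', mul_zero, add_zero]
        · have h' := S.ub.refl.finrank_perp C
          rw [Fintype.card_fin] at h'
          rw [finrank_span_singleton hy0]
          omega
      rw [← hperp]
      intro x hx
      rw [hC] at hx
      obtain ⟨p, hp, z, hz, rfl⟩ := Submodule.mem_sup.mp hx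
      obtain ⟨t, rfl⟩ := Submodule.mem_span_singleton.mp hz
      change fB (∑ i, χ i • row (g ⬝ₘ (tm a' w)) i) (p + t • al') = 0
      rw [B'.eq, S.ub.refl.sum_left]
      simp only [S.ub.refl.semi.smul_left, S.ub.refl.semi.add_right, S.ub.refl.semi.smul_right, B'.al_perp, mul_zero,
        add_zero]
      exact hχ _ ((hR' p).mp hp).2
    have hall : ∀ w, L w ∈ Submodule.span F {y} := fun w => by
      by_cases hw : w ∈ W
      swap
      · exact hbad w hw
      obtain ⟨z, -, hz⟩ := SetLike.exists_of_lt (lt_top_iff_ne_top.mpr hWtop)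
      have h := sub_mem (hbad (w + z) fun h => hz (by simpa using sub_mem h hw)) (hbad z hz)
      rwa [map_add, add_sub_cancel_right] at h
    have hker : 4 ≤ finrank F (LinearMap.ker L) := by
      have h1 := L.finrank_range_add_finrank_ker
      have h2 := Submodule.finrank_mono (show LinearMap.range L ≤ Submodule.span F {y} by
        rintro _ ⟨w, rfl⟩; exact hall w)
      rw [finrank_span_singleton hy0] at h2
      rw [finrank_fintype_fun_eq_card, Fintype.card_fin] at h1
      omega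
    refine hker.trans (Submodule.finrank_mono fun w hw => (hW w).mpr (by_contra fun hnp => ?_))
    obtain ⟨Q', al', B'⟩ := S.bad hg hnp
    have hL : ∑ i, χ i • row Q' i = 0 := by rw [← B'.eq]; exact hw
    obtain ⟨i, hi⟩ := Function.ne_iff.mp hχ0
    have hli : LinearIndependent F (row Q') :=
      linearIndependent_iff_card_eq_finrank_span.mpr (by rw [Fintype.card_fin]; exact B'.rows.symm)
    exact hi (Fintype.linearIndependent_iff.mp hli χ hL i)
  -- the partners of an anisotropic vector are too few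
  obtain ⟨ρ, hρ, hρρ⟩ : ∃ r ∈ rowSpan Q, fB r r ≠ 0 := S.ub.exists_aniso (by rw [B.rows, Fintype.card_fin]; omega)
  obtain ⟨W₁, hW₁, hW₁2⟩ := S.preSpace hg (ctr fB ρ Q)
  have hne : ctr fB ρ Q ≠ 0 := fun e => hρρ (by rw [B.eq_zero S hρ e, S.ub.refl.zero_left])
  obtain ⟨b, hb, hb0⟩ := W₁.exists_mem_ne_zero_of_ne_bot fun e => by
    have := hW₁2 hne
    rw [e, finrank_bot] at this
    omega
  obtain ⟨e, w, he⟩ := (hW₁ b).mp hb
  have he0 : e ≠ 0 := fun h0 => tm_ne_zero hne hb0 (by rw [← he, h0, tm_zero_left, Matrix.mulVec_zero])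
  have hw0 : w ≠ 0 := fun h0 => tm_ne_zero hne hb0 (by rw [← he, h0, tm_zero_right, Matrix.mulVec_zero])
  obtain ⟨W, hW⟩ := S.exists_pureSpace hg e
  have hW4 := big W hW
  obtain ⟨W', hW'⟩ : ∃ W' : Submodule F (Fin n₂ → F), ∀ u, u ∈ W' ↔ ∃ d, g ⬝ₘ (tm e u) = tm (ctr fB ρ Q) d :=
    ⟨{ carrier := {u | ∃ d, g ⬝ₘ (tm e u) = tm (ctr fB ρ Q) d}
       add_mem' := fun {u v} ⟨d, hd⟩ ⟨d', hd'⟩ => ⟨d + d', by rw [tm_add_right, Matrix.mulVec_add, hd, hd', tm_add_right]⟩
       zero_mem' := ⟨0, by simp⟩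
       smul_mem' := fun r u ⟨d, hd⟩ => ⟨r • d, by rw [tm_smul_right, Matrix.mulVec_smul, hd, tm_smul_right]⟩ },
      fun _ => Iff.rfl⟩
  obtain ⟨W'', hW''⟩ : ∃ W'' : Submodule F (Fin n₂ → F), ∀ u, u ∈ W'' ↔ ∃ c, g ⬝ₘ (tm e u) = tm c b :=
    ⟨{ carrier := {u | ∃ c, g ⬝ₘ (tm e u) = tm c b}
       add_mem' := fun {u v} ⟨c, hc⟩ ⟨c', hc'⟩ => ⟨c + c', by rw [tm_add_right, Matrix.mulVec_add, hc, hc', tm_add_left]⟩
       zero_mem' := ⟨0, by simp⟩
       smul_mem' := fun r u ⟨c, hc⟩ => ⟨r • c, by rw [tm_smul_right, Matrix.mulVec_smul, hc, tm_smul_left]⟩ },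
      fun _ => Iff.rfl⟩
  have hcases : ∀ u ∈ W, u ∈ W' ∨ u ∈ W'' := by
    intro u hu
    obtain ⟨c, d, hcd⟩ := (hW u).mp hu
    obtain ⟨c', d', hcd'⟩ := (hW _).mp (add_mem hu ((hW w).mpr ⟨_, _, he⟩))
    rw [tm_add_right, Matrix.mulVec_add, hcd, he] at hcd'
    by_cases hdb : d ∈ Submodule.span F {b}
    · obtain ⟨r, rfl⟩ := Submodule.mem_span_singleton.mp hdb
      exact Or.inr ((hW'' u).mpr ⟨r • c, by rw [hcd, tm_smul_right, tm_smul_left]⟩)
    obtain ⟨v, hbv, hdv⟩ := S.ub.exists_sep hdb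
    have e1 := congrArg (ctr fB v) hcd'
    rw [ctr_add D, ctr_tm D, ctr_tm D, ctr_tm D, hbv, zero_smul, add_zero] at e1
    obtain ⟨v', hdv', hbv'⟩ := S.ub.exists_sep (p := b) (r := d) fun hm => by
      obtain ⟨r, hr⟩ := Submodule.mem_span_singleton.mp hm
      by_cases hr0 : r = 0
      · exact hb0 (by rw [← hr, hr0, zero_smul])
      exact hdb (Submodule.mem_span_singleton.mpr ⟨r⁻¹, by rw [← hr, smul_smul, inv_mul_cancel₀ hr0, one_smul]⟩)
    have e2 := congrArg (ctr fB v') hcd'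
    rw [ctr_add D, ctr_tm D, ctr_tm D, ctr_tm D, hdv', zero_smul, zero_add] at e2
    have hd' : fB d' v' ≠ 0 := fun e0 => by
      rw [e0, zero_smul] at e2
      exact hne ((smul_eq_zero.mp e2).resolve_left hbv')
    refine Or.inl ((hW' u).mpr ⟨((fB d' v * fB b v') / (fB d v * fB d' v')) • d, ?_⟩)
    rw [hcd, tm_smul_right, ← tm_smul_left]
    refine congrArg (fun x => tm x d) ?_
    have hc : c' = ((fB d' v')⁻¹ * fB b v') • ctr fB ρ Q := by
      rw [← smul_smul, e2, smul_smul, inv_mul_cancel₀ hd', one_smul]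
    calc c = (fB d v)⁻¹ • (fB d' v • c') := by rw [← e1, smul_smul, inv_mul_cancel₀ hdv, one_smul]
      _ = _ := by rw [hc, smul_smul, smul_smul]; congr 1; field_simp
  have hsub : W ≤ W' ∨ W ≤ W'' := by
    by_contra hcon
    push Not at hcon
    obtain ⟨u, hu, hu'⟩ := SetLike.not_le_iff_exists.mp hcon.1
    obtain ⟨v, hv, hv'⟩ := SetLike.not_le_iff_exists.mp hcon.2
    have hu2 := (hcases u hu).resolve_left hu'
    have hv2 := (hcases v hv).resolve_right hv'
    rcases hcases (u + v) (add_mem hu hv) with h | h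
    · exact hu' (by simpa using sub_mem h hv2)
    · exact hv' (by simpa using sub_mem h hu2)
  rcases hsub with h | h
  · -- too many partners
    obtain ⟨Z, hZ⟩ : ∃ Z, Z = S.ub.refl.perp (Submodule.span F {al} ⊔ Submodule.span F {ρ}) := ⟨_, rfl⟩
    have hle : W₁ ≤ Z := fun c hc => by
      obtain ⟨e', u', he'⟩ := (hW₁ c).mp hc
      obtain ⟨h1, h2⟩ := B.single S hg (by omega) hρ he'
      rw [hZ]
      intro x hx
      obtain ⟨p, hp, z, hz, rfl⟩ := Submodule.mem_sup.mp hx
      obtain ⟨s, rfl⟩ := Submodule.mem_span_singleton.mp hp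
      obtain ⟨t, rfl⟩ := Submodule.mem_span_singleton.mp hz
      rw [S.ub.refl.semi.add_right, S.ub.refl.semi.smul_right, S.ub.refl.semi.smul_right, h1 hρρ, h2 (h1 hρρ)]
      simp
    haveI : Fintype W := Fintype.ofFinite _
    haveI : Fintype W₁ := Fintype.ofFinite _
    choose d hd using fun u : W => (hW' u).mp (h u.2)
    have hinj : Function.Injective fun u : W => (⟨d u, (hW₁ _).mpr ⟨e, u, hd u⟩⟩ : W₁) := fun u u' hh => by
      simp only [Subtype.mk.injEq] at hh
      have h0 : tm e (u : Fin n₂ → F) = tm e (u' : Fin n₂ → F) := gl_mulVec_injective g (by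
        change g ⬝ₘ _ = g ⬝ₘ _
        rw [hd, hd, hh])
      exact Subtype.ext (sub_eq_zero.mp ((tm_eq_zero (by rw [tm_sub_right, h0, sub_self])).resolve_left he0))
    have h5 := Fintype.card_le_of_injective _ hinj
    rw [Module.card_eq_pow_finrank (K := F) (V := W), Module.card_eq_pow_finrank (K := F) (V := W₁)] at h5
    have h6 := (Nat.pow_le_pow_iff_right Fintype.one_lt_card).mp h5
    have h7 := Submodule.finrank_mono hle
    have hd' : Submodule.span F {al} ⊓ Submodule.span F {ρ} = ⊥ := eq_bot_iff.mpr fun x hx => by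
      obtain ⟨hx1, hx2⟩ := Submodule.mem_inf.mp hx
      obtain ⟨r, rfl⟩ := Submodule.mem_span_singleton.mp hx1
      obtain ⟨s, hs⟩ := Submodule.mem_span_singleton.mp hx2
      have h0 := B.row_al S ((rowSpan Q).smul_mem s hρ)
      rw [hs, S.ub.refl.semi.smul_left, mul_eq_zero] at h0
      rw [h0.resolve_right B.aniso, zero_smul]
      exact zero_mem _
    have h8 := Submodule.finrank_sup_add_finrank_inf_eq (Submodule.span F {al}) (Submodule.span F {ρ})
    rw [hd', finrank_bot, finrank_span_singleton (B.al_ne S),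
      finrank_span_singleton (fun e0 => hρρ (by rw [e0, S.ub.refl.zero_left]))] at h8
    have h9 := S.ub.refl.finrank_perp (Submodule.span F {al} ⊔ Submodule.span F {ρ})
    rw [← hZ, Fintype.card_fin] at h9
    omega
  · -- a whole fibre has pure preimages
    haveI : Fintype W := Fintype.ofFinite _
    choose c hc using fun u : W => (hW'' u).mp (h u.2)
    have hinj : Function.Injective c := fun u u' hh => by
      have h0 : tm e (u : Fin n₂ → F) = tm e (u' : Fin n₂ → F) := gl_mulVec_injective g (by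
        change g ⬝ₘ _ = g ⬝ₘ _
        rw [hc, hc, hh])
      exact Subtype.ext (sub_eq_zero.mp ((tm_eq_zero (by rw [tm_sub_right, h0, sub_self])).resolve_left he0))
    have hsurj : Function.Surjective c := by
      refine ((Fintype.bijective_iff_injective_and_card c).mpr ⟨hinj, le_antisymm
        (Fintype.card_le_of_injective c hinj) ?_⟩).2
      rw [Module.card_eq_pow_finrank (K := F) (V := W), Fintype.card_fun, Fintype.card_fin]
      exact Nat.pow_le_pow_right Fintype.card_pos (by omega)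
    have hbal : fB b al = 0 := (B.single S hg (by omega) hρ he).1 hρρ
    refine hb0 (B.eq_zero S (B.mem b hbal) (funext fun i => S.ub.refl.eq_zero_swap ?_))
    obtain ⟨u, hu⟩ := hsurj (ctr fB (row Q i) Q)
    exact (B.single S hg (by omega) (Submodule.subset_span ⟨i, rfl⟩) (e := e) (w := u) (by rw [hc, hu])).2 hbal

end Cfsg.Agent.Classical.TensorMax.Form
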