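/-
Pure tensors go to pure tensors, also for factors of dimensions three and four.
-/
import Cfsg.Agent.Lib.Classical.TensorMax.Form.UTight
import Cfsg.Agent.Lib.Classical.UFrameField

set_option autoImplicit false
set_option linter.unusedSectionVars false

namespace Cfsg.Agent.Classical.TensorMax.Form

open Matrix Module Cfsg.Geo
open Cfsg.Agent.Classical

/-- Three proper subspaces do not cover a space over a field with at least four elements. -/
theorem not_cover {K V : Type*} [Field K] [Fintype K] [AddCommGroup V] [Module K V] (h4 : 4 ≤ Fintype.card K)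
    {A B C : Submodule K V} (hA : A ≠ ⊤) (hB : B ≠ ⊤) (hC : C ≠ ⊤) : ∃ v, v ∉ A ∧ v ∉ B ∧ v ∉ C := by
  classical
  by_contra hcon
  push Not at hcon
  obtain ⟨v, hvA, hvB⟩ : ∃ v, v ∉ A ∧ v ∉ B := by
    obtain ⟨x, -, hx⟩ := SetLike.exists_of_lt (lt_top_iff_ne_top.mpr hA)
    obtain ⟨y, -, hy⟩ := SetLike.exists_of_lt (lt_top_iff_ne_top.mpr hB)
    by_cases hxB : x ∈ B
    · by_cases hyA : y ∈ A
      · exact ⟨x + y, fun h => hx (by simpa using sub_mem h hyA), fun h => hy (by simpa using sub_mem h hxB)⟩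
      · exact ⟨y, hyA, hy⟩
    · exact ⟨x, hx, hxB⟩
  have hvC := hcon v hvA hvB
  obtain ⟨u, -, hu⟩ := SetLike.exists_of_lt (lt_top_iff_ne_top.mpr hC)
  have hline : ∀ r : K, u + r • v ∈ A ∨ u + r • v ∈ B := fun r => by
    by_contra h
    push Not at h
    exact hu (by simpa using sub_mem (hcon _ h.1 h.2) (C.smul_mem r hvC))
  have uniq : ∀ {S : Submodule K V}, v ∉ S → ∀ {r r' : K}, u + r • v ∈ S → u + r' • v ∈ S → r = r' := by
    intro S hv r r' h h'
    by_contra hne
    refine hv ?_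
    have h2 := S.smul_mem (r - r')⁻¹ (sub_mem h h')
    rwa [add_sub_add_left_eq_sub, ← sub_smul, smul_smul, inv_mul_cancel₀ (sub_ne_zero.mpr hne), one_smul] at h2
  have hinj : Function.Injective fun r : K => decide (u + r • v ∈ A) := fun r r' e => by
    simp only [decide_eq_decide] at e
    by_cases h : u + r • v ∈ A
    · exact uniq hvA h (e.mp h)
    · exact uniq hvB ((hline r).resolve_left h) ((hline r').resolve_left fun h' => h (e.mpr h'))
  have := Fintype.card_le_of_injective _ hinj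
  rw [Fintype.card_bool] at this
  omega

variable {n₁ n₂ : ℕ} {F : Type*} [Field F] [Fintype F] {q : ℕ} {σ : F ≃+* F}
  {fA : (Fin n₁ → F) → (Fin n₁ → F) → F} {fB : (Fin n₂ → F) → (Fin n₂ → F) → F}
  {X : Subgroup (GL (Fin n₁ × Fin n₂) F)}

local notation "κ" => Fin n₁ × Fin n₂
local notation:max g:max " ⬝ₘ " x:max =>
  ((g : GL (Fin n₁ × Fin n₂) F) : Matrix (Fin n₁ × Fin n₂) (Fin n₁ × Fin n₂) F) *ᵥ x

namespace UForm

variable {ι : Type} [Fintype ι] [DecidableEq ι] {f : (ι → F) → (ι → F) → F} (U : UForm q σ f)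

include U

/-- A pseudo-reflection along an anisotropic vector. -/
theorem exists_pref {e : ι → F} (hee : f e e ≠ 0) {μ : F} (hμ : μ * σ μ = 1) :
    ∃ t : GL ι F, (t : Matrix ι ι F).det = μ ∧
      (∀ u v, f ((t : Matrix ι ι F) *ᵥ u) ((t : Matrix ι ι F) *ᵥ v) = f u v) ∧
      ∀ x, (t : Matrix ι ι F) *ᵥ x = x + ((μ - 1) / f e e * f x e) • e := by
  let L : (ι → F) →ₗ[F] F :=
    { toFun := fun x => f x e, map_add' := fun a b => U.refl.semi.add_left a b e,
      map_smul' := fun r a => U.refl.semi.smul_left r a e }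
  obtain ⟨b, hb⟩ := Radical.exists_vec (((μ - 1) / f e e) • L)
  let M : Matrix ι ι F := 1 + Matrix.replicateCol Unit e * Matrix.replicateRow Unit b
  have hd : M.det = μ := by
    rw [Matrix.det_one_add_replicateCol_mul_replicateRow, hb]
    change 1 + (μ - 1) / f e e * f e e = μ
    rw [div_mul_cancel₀ _ hee, add_sub_cancel]
  have hM : ∀ x, M *ᵥ x = x + ((μ - 1) / f e e * f x e) • e := fun x => by
    rw [show (μ - 1) / f e e * f x e = b ⬝ᵥ x from (hb x).symm]
    simp only [M]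
    rw [Matrix.add_mulVec, Matrix.one_mulVec, ← Matrix.mulVec_mulVec]
    congr 1
    funext i
    simp [Matrix.mulVec, dotProduct, Matrix.replicateCol_apply, Matrix.replicateRow_apply, Finset.mul_sum,
      Finset.sum_mul, mul_assoc, mul_comm, mul_left_comm]
  refine ⟨Matrix.GeneralLinearGroup.mkOfDetNeZero M (by rw [hd]; exact left_ne_zero_of_mul_eq_one hμ),
    hd, fun x y => ?_, hM⟩
  change f (M *ᵥ x) (M *ᵥ y) = f x y
  rw [hM, hM]
  simp only [U.refl.semi.add_left, U.refl.semi.add_right, U.refl.semi.smul_left, U.refl.semi.smul_right, map_mul,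
    map_div₀, map_sub, map_one, U.herm]
  field_simp
  linear_combination (f x e * f e y) * hμ

theorem pow_card_eq : Fintype.card F = q ^ 2 := U.sig.card

/-- A norm equation has at most `q + 1` solutions, and one when it is zero. -/
theorem card_norm_le [DecidableEq F] (K : F) :
    (Finset.univ.filter fun r : F => r * σ r = K).card ≤ if K = 0 then 1 else q + 1 := by
  split_ifs with h
  · refine Finset.card_le_one.mpr fun a ha b hb => ?_
    rw [Finset.mem_filter, h] at ha hb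
    have hz : ∀ {r : F}, r * σ r = 0 → r = 0 := fun hr => (mul_eq_zero.mp hr).elim id (map_eq_zero σ).mp
    rw [hz ha.2, hz hb.2]
  · rcases (Finset.univ.filter fun r : F => r * σ r = K).eq_empty_or_nonempty with he | ⟨r₀, hr₀⟩
    · simp [he]
    rw [Finset.mem_filter] at hr₀
    have hr00 : r₀ ≠ 0 := fun e => h (by rw [← hr₀.2, e, zero_mul])
    rw [← UFrame.card_muF U.sig]
    refine Finset.card_le_card_of_injOn (fun r => r / r₀) (fun r hr => ?_) fun a _ b _ e => (div_left_inj' hr00).mp e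
    rw [Finset.mem_coe, Finset.mem_filter] at hr
    rw [Finset.mem_coe, UFrame.mem_muF, map_div₀, div_mul_div_comm, hr.2, hr₀.2, div_self h]

/-- A diagonal form in three variables has few zeros. -/
theorem card_diag_zero [DecidableEq F] {a b c : F} (ha : a ≠ 0) (hb : b ≠ 0) (hc : c ≠ 0) (hb' : σ b = b)
    (hc' : σ c = c) :
    (Finset.univ.filter fun v : F × F × F => v.1 * σ v.1 * a + (v.2.1 * σ v.2.1 * b + v.2.2 * σ v.2.2 * c) = 0).card +
      q * ((q ^ 2 - 1) * (q + 1) + 1) ≤ (q + 1) * (q ^ 2 * q ^ 2) := by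
  obtain ⟨T, hT⟩ : ∃ T : F × F → F, T = fun p => -(p.1 * σ p.1 * b + p.2 * σ p.2 * c) / a := ⟨_, rfl⟩
  have h1 : (Finset.univ.filter fun v : F × F × F =>
      v.1 * σ v.1 * a + (v.2.1 * σ v.2.1 * b + v.2.2 * σ v.2.2 * c) = 0).card ≤
      ∑ p : F × F, (Finset.univ.filter fun r : F => r * σ r = T p).card := by
    rw [← Finset.card_sigma]
    refine Finset.card_le_card_of_injOn (fun v => ⟨v.2, v.1⟩) (fun v hv => ?_) fun v _ w _ e => ?_
    · rw [Finset.mem_coe, Finset.mem_filter] at hv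
      rw [Finset.mem_coe, Finset.mem_sigma, Finset.mem_filter, hT]
      refine ⟨Finset.mem_univ _, Finset.mem_univ _, ?_⟩
      dsimp only
      rw [eq_div_iff ha]
      linear_combination hv.2
    · simp only [Sigma.mk.injEq, heq_eq_eq] at e
      exact Prod.ext e.2 e.1
  obtain ⟨Z, hZ⟩ : ∃ Z : Finset (F × F), Z = Finset.univ.filter fun p => T p = 0 := ⟨_, rfl⟩
  have h2 : (∑ p : F × F, (Finset.univ.filter fun r : F => r * σ r = T p).card) + q * Z.card ≤
      (q + 1) * (q ^ 2 * q ^ 2) := by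
    have e : q * Z.card = ∑ p : F × F, if T p = 0 then q else 0 := by
      rw [← Finset.sum_filter, ← hZ, Finset.sum_const, smul_eq_mul, mul_comm]
    rw [e, ← Finset.sum_add_distrib]
    refine (Finset.sum_le_card_nsmul _ _ (q + 1) fun p _ => ?_).trans_eq ?_
    · have := U.card_norm_le (T p)
      split_ifs at this ⊢ <;> omega
    · rw [Finset.card_univ, Fintype.card_prod, U.sig.card, smul_eq_mul, mul_comm]
  have hσ2 := U.sig.two_le
  have h3 : (q ^ 2 - 1) * (q + 1) + 1 ≤ Z.card := by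
    obtain ⟨k, hk0, hk⟩ := U.sig.norm_surjective (t := -c / b) (div_ne_zero (neg_ne_zero.mpr hc) hb)
      (by rw [map_div₀, map_neg, hb', hc'])
    obtain ⟨S, hS⟩ : ∃ S : Finset (F × F), S = ((Finset.univ.erase 0) ×ˢ UFrame.muF σ).image
        fun p => (p.2 * p.1 * k, p.1) := ⟨_, rfl⟩
    have hinj : S.card = (q ^ 2 - 1) * (q + 1) := by
      rw [hS, Finset.card_image_of_injOn, Finset.card_product, Finset.card_erase_of_mem (Finset.mem_univ 0),
        Finset.card_univ, U.sig.card, UFrame.card_muF U.sig]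
      rintro ⟨s, z⟩ hs ⟨s', z'⟩ - e
      rw [Finset.mem_coe, Finset.mem_product, Finset.mem_erase] at hs
      simp only [Prod.mk.injEq] at e
      obtain ⟨e1, rfl⟩ := e
      simp only [mul_left_inj' hk0, mul_left_inj' hs.1.1] at e1
      simp [e1]
    have h0 : ((0, 0) : F × F) ∉ S := by
      rw [hS, Finset.mem_image]
      rintro ⟨⟨s, z⟩, hs, e⟩
      rw [Finset.mem_product, Finset.mem_erase] at hs
      simp only [Prod.mk.injEq] at e
      exact hs.1.1 e.2
    rw [← hinj, ← Finset.card_insert_of_notMem h0]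
    refine Finset.card_le_card fun p hp => ?_
    rw [hZ, Finset.mem_filter, hT]
    refine ⟨Finset.mem_univ _, ?_⟩
    rcases Finset.mem_insert.mp hp with rfl | hp
    · simp
    rw [hS, Finset.mem_image] at hp
    obtain ⟨⟨s, z⟩, hs, rfl⟩ := hp
    rw [Finset.mem_product, UFrame.mem_muF] at hs
    have : z * s * k * σ (z * s * k) * b + s * σ s * c = 0 := by
      have hk' : k * σ k * b = -c := by rw [hk, div_mul_cancel₀ _ hb]
      rw [map_mul, map_mul]
      linear_combination (s * σ s * (k * σ k) * b) * hs.2 + (s * σ s) * hk'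
    have e : -(z * s * k * σ (z * s * k) * b + s * σ s * c) / a = 0 := by rw [this, neg_zero, zero_div]
    exact e
  have h4 := Nat.mul_le_mul_left q h3
  omega

end UForm

omit [Fintype F] in
/-- A pure sum of two pure tensors. -/
theorem pure_sum {q : ℕ} [Fintype F] (UB : UForm q σ fB) (D : Data σ 1 1 fA fB) {a e c : Fin n₁ → F}
    {b w d : Fin n₂ → F} (ha : a ≠ 0) (hb : b ≠ 0) (h : tm a b + tm e w = tm c d) :
    e ∈ Submodule.span F {a} ∨ w ∈ Submodule.span F {b} := by
  by_contra hcon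
  push Not at hcon
  obtain ⟨he, hw⟩ := hcon
  obtain ⟨u, hbu, hwu⟩ := UB.exists_sep hw
  have e1 := congrArg (ctr fB u) h
  rw [ctr_add D, ctr_tm D, ctr_tm D, ctr_tm D, hbu, zero_smul, zero_add] at e1
  obtain ⟨u', hwu', hbu'⟩ := UB.exists_sep (p := b) (r := w) fun hm => by
    obtain ⟨r, hr⟩ := Submodule.mem_span_singleton.mp hm
    by_cases hr0 : r = 0
    · exact hb (by rw [← hr, hr0, zero_smul])
    exact hw (Submodule.mem_span_singleton.mpr ⟨r⁻¹, by rw [← hr, smul_smul, inv_mul_cancel₀ hr0, one_smul]⟩)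
  have e2 := congrArg (ctr fB u') h
  rw [ctr_add D, ctr_tm D, ctr_tm D, ctr_tm D, hwu', zero_smul, add_zero] at e2
  have hd : fB d u' ≠ 0 := fun e0 => ha ((smul_eq_zero.mp (e2.trans (by rw [e0, zero_smul]))).resolve_left hbu')
  refine he (Submodule.mem_span_singleton.mpr ⟨(fB d u * fB b u') / (fB w u * fB d u'), ?_⟩)
  have hc : c = ((fB d u')⁻¹ * fB b u') • a := by rw [← smul_smul, e2, smul_smul, inv_mul_cancel₀ hd, one_smul]
  calc _ = (fB w u)⁻¹ • (fB d u • c) := by rw [hc, smul_smul, smul_smul]; congr 1; field_simp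
    _ = e := by rw [← e1, smul_smul, inv_mul_cancel₀ hwu, one_smul]

variable (S : UCtx q σ fA fB X)
variable {g : GL (Fin n₁ × Fin n₂) F} {a₀ : Fin n₁ → F} {w₀ : Fin n₂ → F} {Q : Fin n₁ × Fin n₂ → F}
  {al : Fin n₂ → F}

include S

theorem UBad.ne_zero (B : UBad g fB a₀ w₀ Q al) : a₀ ≠ 0 ∧ w₀ ≠ 0 := by
  have hQ : Q ≠ 0 := fun e => by
    have h := B.rows
    rw [e] at h
    have : rowSpan (0 : κ → F) = ⊥ := eq_bot_iff.mpr (Submodule.span_le.mpr (by rintro _ ⟨i, rfl⟩; rfl))
    rw [this, finrank_bot] at h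
    have := S.two
    omega
  exact ⟨fun e => hQ (by rw [← B.eq, e, tm_zero_left, Matrix.mulVec_zero]),
    fun e => hQ (by rw [← B.eq, e, tm_zero_right, Matrix.mulVec_zero])⟩

/-- The partners of an anisotropic vector lie in the row space. -/
theorem UBad.single_three (B : UBad g fB a₀ w₀ Q al) (hg : g ∈ X) {ρ b : Fin n₂ → F} (hρ : ρ ∈ rowSpan Q)
    {e : Fin n₁ → F} {w : Fin n₂ → F} (hpre : g ⬝ₘ (tm e w) = tm (ctr fB ρ Q) b) (hρρ : fB ρ ρ ≠ 0) :
    fB b al = 0 := by
  have D := S.data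
  by_contra hbal
  obtain ⟨s, -, hs⟩ := S.ub.sig.norm_surjective (t := -fB al al / fB ρ ρ)
    (div_ne_zero (neg_ne_zero.mpr B.aniso) hρρ) (by rw [map_div₀, map_neg, S.ub.fixed, S.ub.fixed])
  obtain ⟨μ, hμ, hμ1, -, -⟩ := S.ub.sig.exists_norm_one
  obtain ⟨s', hs', hne⟩ : ∃ s', s' * σ s' = -fB al al / fB ρ ρ ∧ fB b (al + s' • ρ) ≠ 0 := by
    have e : ∀ r : F, fB b (al + r • ρ) = fB b al + σ r * fB b ρ := fun r => by
      rw [S.ub.refl.semi.add_right, S.ub.refl.semi.smul_right]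
    by_cases h0 : fB b (al + s • ρ) = 0
    · refine ⟨μ * s, by rw [map_mul]; linear_combination (s * σ s) * hμ + hs, fun h1 => ?_⟩
      rw [e] at h0 h1
      rw [map_mul] at h1
      have h2 : (σ μ - 1) * (σ s * fB b ρ) = 0 := by linear_combination h1 - h0
      rcases mul_eq_zero.mp h2 with h | h
      · exact hμ1 (by rw [← S.ub.sig.involutive μ, sub_eq_zero.mp h, map_one])
      · exact hbal (by rw [h, add_zero] at h0; exact h0)
    · exact ⟨s, hs, h0⟩
  obtain ⟨l, hl⟩ : ∃ l, l = -σ s' / fB b (al + s' • ρ) := ⟨_, rfl⟩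
  have hG : Good fB (fun _ : Unit => Q + l • tm (ctr fB ρ Q) b) := by
    refine ⟨al + s' • ρ, fun e => hne (by rw [e, S.ub.refl.zero_right]), ?_, fun _ => ?_⟩
    · rw [S.ub.expand, S.ub.refl.eq_zero_swap (S.ub.refl.eq_zero_swap (B.row_al S hρ)), hs']
      field_simp
      simp
    · rw [hl, ctr_add D, ctr_smul D, ctr_tm D, ctr_add_vec D, ctr_smul_vec D, B.ctr_al S, zero_add, smul_smul,
        div_mul_cancel₀ _ hne, ← add_smul, add_neg_cancel, zero_smul]
  have hd : g ⬝ₘ (tm a₀ w₀ + tm (l • e) w) = Q + l • tm (ctr fB ρ Q) b := by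
    rw [Matrix.mulVec_add, B.eq, tm_smul_left, Matrix.mulVec_smul, hpre]
  have h2 := S.low hg (k := 2) (by have := S.four; omega) (summands_add summands_one summands_one) (hd ▸ hG)
  rw [hd] at h2
  have h3 := summands_rows h2
  obtain ⟨R, hR⟩ : ∃ R, R = rowSpan (Q + l • tm (ctr fB ρ Q) b) ⊔ Submodule.span F {b} := ⟨_, rfl⟩
  have hle : rowSpan Q ≤ R := Submodule.span_le.mpr (by
    rintro _ ⟨i, rfl⟩
    have e : row Q i = row (Q + l • tm (ctr fB ρ Q) b) i + (-(l * ctr fB ρ Q i)) • b := funext fun j => by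
      simp [row, tm_apply]; ring
    rw [SetLike.mem_coe, e, hR]
    exact add_mem (Submodule.mem_sup_left (Submodule.subset_span ⟨i, rfl⟩))
      (Submodule.smul_mem _ _ (Submodule.mem_sup_right (Submodule.mem_span_singleton_self b))))
  have h5 := Submodule.finrank_add_le_finrank_add_finrank (rowSpan (Q + l • tm (ctr fB ρ Q) b)) (Submodule.span F {b})
  rw [← hR, finrank_span_singleton (fun e0 => hbal (by rw [e0, S.ub.refl.zero_left]))] at h5
  have := Submodule.finrank_mono hle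
  have ht := B.tight
  have := S.four
  have heq := Submodule.eq_of_le_of_finrank_le hle (by rw [B.rows]; omega)
  exact hbal (B.row_al S (heq ▸ hR ▸ Submodule.mem_sup_right (Submodule.mem_span_singleton_self b)))

/-- An anisotropic vector of the row space is not its own partner. -/
theorem UBad.not_self (B : UBad g fB a₀ w₀ Q al) (hg : g ∈ X) {ρ : Fin n₂ → F} (hρ : ρ ∈ rowSpan Q)
    (hρρ : fB ρ ρ ≠ 0) {e : Fin n₁ → F} {w : Fin n₂ → F} (hpre : g ⬝ₘ (tm e w) = tm (ctr fB ρ Q) ρ) : False := by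
  have D := S.data
  obtain ⟨ha₀, hw₀⟩ := B.ne_zero S
  obtain ⟨μ, hμ, hμ1, -, -⟩ := S.ub.sig.exists_norm_one
  have hμ' : σ μ * σ (σ μ) = 1 := by rw [S.ub.sig.involutive, mul_comm, hμ]
  obtain ⟨t₁, hd₁, hi₁, ht₁⟩ := S.ub.exists_pref hρρ hμ
  obtain ⟨t₂, hd₂, hi₂, ht₂⟩ := S.ub.exists_pref B.aniso hμ'
  obtain ⟨k, hk⟩ : ∃ k, k = (μ - 1) / fB ρ ρ := ⟨_, rfl⟩
  have hh : kr (1 : GL (Fin n₁) F) (t₁ * t₂) ∈ X := S.ov.small _ (by
    rw [Units.val_mul, Matrix.det_mul, hd₁, hd₂, hμ]) fun u v => by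
    rw [gl_mul_mulVec, gl_mul_mulVec, hi₁, hi₂]
  have hQ : (kr (1 : GL (Fin n₁) F) (t₁ * t₂)) ⬝ₘ Q = Q + tm (k • ctr fB ρ Q) ρ := funext fun p => by
    have e := congrFun (kr_one_row (α := Fin n₁) (t₁ * t₂) Q p.1) p.2
    rw [gl_mul_mulVec, ht₂, show fB (row Q p.1) al = 0 from B.al_perp p.1, mul_zero, zero_smul, add_zero, ht₁,
      ← hk] at e
    simp only [row, Pi.add_apply, Pi.smul_apply, smul_eq_mul] at e
    simp only [Pi.add_apply, tm_apply, Pi.smul_apply, smul_eq_mul]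
    rw [e]
    simp only [show ∀ v i, ctr fB v Q i = fB (row Q i) v from fun _ _ => rfl]
  obtain ⟨g', hg'⟩ : ∃ g', g' = g⁻¹ * kr (1 : GL (Fin n₁) F) (t₁ * t₂) * g := ⟨_, rfl⟩
  have hgi : g' ⬝ₘ (tm a₀ w₀) = tm a₀ w₀ + tm (k • e) w := by
    rw [hg', gl_mul_mulVec, gl_mul_mulVec, B.eq, hQ, Matrix.mulVec_add, tm_smul_left, Matrix.mulVec_smul, ← hpre,
      gl_inv_mulVec_cancel, ← B.eq, gl_inv_mulVec_cancel, tm_smul_left]
  obtain ⟨c, d, hcd⟩ := S.pure_of_good (g := g') (hg' ▸ mul_mem (mul_mem (inv_mem hg) hh) hg) (a := a₀) (b := w₀)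
    (S.good_rows (by
      rw [hgi]
      have := summands_rows (summands_add (summands_one (a := a₀) (b := w₀)) (summands_one (a := k • e) (b := w)))
      have := S.four
      omega))
  rw [hgi] at hcd
  have hk0 : k ≠ 0 := hk ▸ div_ne_zero (sub_ne_zero.mpr hμ1) hρρ
  obtain ⟨l, hl⟩ : ∃ l, l = -1 / fB ρ ρ := ⟨_, rfl⟩
  obtain ⟨c', d', hx⟩ : ∃ c' d', tm a₀ w₀ + tm (l • e) w = tm c' d' := by
    rcases pure_sum S.ub D ha₀ hw₀ hcd with h | h
    · obtain ⟨r, hr⟩ := Submodule.mem_span_singleton.mp h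
      refine ⟨a₀, w₀ + (l * k⁻¹ * r) • w, ?_⟩
      rw [show l • e = (l * k⁻¹ * r) • a₀ by rw [← smul_smul, hr, smul_smul, mul_assoc, inv_mul_cancel₀ hk0, mul_one],
        tm_add_right, tm_smul_left, tm_smul_right]
    · obtain ⟨r, hr⟩ := Submodule.mem_span_singleton.mp h
      refine ⟨a₀ + r • (l • e), w₀, ?_⟩
      rw [← hr, tm_add_left, tm_smul_right, tm_smul_left r]
  obtain ⟨y, hy⟩ : ∃ y, y = Q + l • tm (ctr fB ρ Q) ρ := ⟨_, rfl⟩
  have hgy : g ⬝ₘ (tm c' d') = y := by
    rw [← hx, Matrix.mulVec_add, B.eq, tm_smul_left, Matrix.mulVec_smul, hpre, hy]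
  have hρ0 : ρ ≠ 0 := fun e0 => hρρ (by rw [e0, S.ub.refl.zero_left])
  obtain ⟨c'', d'', hpure⟩ := S.pure_of_good hg (a := c') (b := d') (by
    rw [hgy, hy]
    refine B.good_of S hρ hρ0 ?_ ?_
    · rw [ctr_add D, ctr_smul D, ctr_tm D, B.row_al S hρ, zero_smul, smul_zero, B.ctr_al S, add_zero]
    · rw [ctr_add D, ctr_smul D, ctr_tm D, smul_smul, hl, div_mul_cancel₀ _ hρρ, neg_one_smul, add_neg_cancel])
  rw [hgy, hy] at hpure
  have := summands_rows (summands_add (summands_one (a := c'') (b := d''))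
    (summands_one (a := (-l) • ctr fB ρ Q) (b := ρ)))
  rw [tm_smul_left, ← hpure, neg_smul, add_neg_cancel_right, B.rows] at this
  have := B.tight
  have := S.four
  omega

/-- The anisotropic vectors of the row space. -/
theorem UBad.card_aniso_three (B : UBad g fB a₀ w₀ Q al) (h3 : n₁ = 3) [DecidableEq F] [Fintype (rowSpan Q)] :
    q ^ 6 + q * ((q ^ 2 - 1) * (q + 1) + 1) ≤ (q + 1) * (q ^ 2 * q ^ 2) +
      (Finset.univ.filter fun v : rowSpan Q => fB (v : Fin n₂ → F) v ≠ 0).card := by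
  have U := S.ub
  have hn2 : n₂ = 4 := by rw [B.tight, h3]
  -- an orthogonal basis
  obtain ⟨y₁, hy₁, h11⟩ : ∃ y ∈ rowSpan Q, fB y y ≠ 0 := U.exists_aniso (by rw [B.rows, Fintype.card_fin]; omega)
  obtain ⟨W, hW, hWs⟩ := U.exists_perp ![al, y₁]
  rw [Fintype.card_fin] at hW
  have hWR : ∀ v ∈ W, v ∈ rowSpan Q ∧ fB v y₁ = 0 := fun v hv => ⟨B.mem v (hWs v hv 0), hWs v hv 1⟩
  obtain ⟨y₂, hy₂, h22⟩ : ∃ y ∈ W, fB y y ≠ 0 := by
    by_contra hcon
    push Not at hcon
    have hnull := U.null hcon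
    obtain ⟨u, hu, hu0⟩ := W.exists_mem_ne_zero_of_ne_bot fun e => by rw [e, finrank_bot] at hW; omega
    have hle : W ⊔ Submodule.span F {al} ⊔ Submodule.span F {y₁} ≤ U.refl.perp (Submodule.span F {u}) := by
      refine sup_le (sup_le (fun v hv x hx => ?_) ?_) ?_
      · obtain ⟨r, rfl⟩ := Submodule.mem_span_singleton.mp hx
        rw [U.refl.semi.smul_right, hnull v hv u hu, mul_zero]
      · rw [Submodule.span_singleton_le_iff_mem]
        intro x hx
        obtain ⟨r, rfl⟩ := Submodule.mem_span_singleton.mp hx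
        have h0 : fB u al = 0 := hWs u hu 0
        rw [U.refl.semi.smul_right, U.refl.eq_zero_swap h0, mul_zero]
      · rw [Submodule.span_singleton_le_iff_mem]
        intro x hx
        obtain ⟨r, rfl⟩ := Submodule.mem_span_singleton.mp hx
        have h1 : fB u y₁ = 0 := hWs u hu 1
        rw [U.refl.semi.smul_right, U.refl.eq_zero_swap h1, mul_zero]
    have h1 : W ⊓ Submodule.span F {al} = ⊥ := eq_bot_iff.mpr fun x hx => by
      obtain ⟨r, rfl⟩ := Submodule.mem_span_singleton.mp hx.2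
      have := hWs _ hx.1 0
      rw [Matrix.cons_val_zero, U.refl.semi.smul_left, mul_eq_zero] at this
      rw [this.resolve_right B.aniso, zero_smul]
      exact zero_mem _
    have h2 : (W ⊔ Submodule.span F {al}) ⊓ Submodule.span F {y₁} = ⊥ := eq_bot_iff.mpr fun x hx => by
      obtain ⟨hx1, hx2⟩ := Submodule.mem_inf.mp hx
      obtain ⟨r, rfl⟩ := Submodule.mem_span_singleton.mp hx2
      obtain ⟨v, hv, z, hz, he⟩ := Submodule.mem_sup.mp hx1
      obtain ⟨s, rfl⟩ := Submodule.mem_span_singleton.mp hz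
      have h0 : fB (r • y₁) y₁ = 0 := by
        rw [← he, U.refl.semi.add_left, U.refl.semi.smul_left, (hWR v hv).2,
          U.refl.eq_zero_swap (B.row_al S hy₁), mul_zero, add_zero]
      rw [U.refl.semi.smul_left, mul_eq_zero] at h0
      rw [h0.resolve_right h11, zero_smul]
      exact zero_mem _
    have e1 := Submodule.finrank_sup_add_finrank_inf_eq W (Submodule.span F {al})
    rw [h1, finrank_bot, finrank_span_singleton (B.al_ne S)] at e1
    have e2 := Submodule.finrank_sup_add_finrank_inf_eq (W ⊔ Submodule.span F {al}) (Submodule.span F {y₁})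
    rw [h2, finrank_bot, finrank_span_singleton (fun e => h11 (by rw [e, U.refl.zero_left]))] at e2
    have e3 := Submodule.finrank_mono hle
    have e4 := U.refl.finrank_perp (Submodule.span F {u})
    rw [finrank_span_singleton hu0, Fintype.card_fin] at e4
    omega
  obtain ⟨W', hW', hWs'⟩ := U.exists_perp ![al, y₁, y₂]
  rw [Fintype.card_fin] at hW'
  obtain ⟨y₃, hy₃, hy30⟩ := W'.exists_mem_ne_zero_of_ne_bot fun e => by rw [e, finrank_bot] at hW'; omega
  have hy₃R : y₃ ∈ rowSpan Q := B.mem y₃ (hWs' y₃ hy₃ 0)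
  have h31 : fB y₃ y₁ = 0 := hWs' y₃ hy₃ 1
  have h32 : fB y₃ y₂ = 0 := hWs' y₃ hy₃ 2
  have h21 : fB y₂ y₁ = 0 := (hWR y₂ hy₂).2
  have h13 := U.refl.eq_zero_swap h31
  have h23 := U.refl.eq_zero_swap h32
  have h12 := U.refl.eq_zero_swap h21
  let φ : F × F × F →ₗ[F] rowSpan Q :=
    { toFun := fun v => ⟨v.1 • y₁ + (v.2.1 • y₂ + v.2.2 • y₃),
        add_mem (Submodule.smul_mem _ _ hy₁) (add_mem (Submodule.smul_mem _ _ (hWR y₂ hy₂).1) (Submodule.smul_mem _ _ hy₃R))⟩
      map_add' := fun v w => Subtype.ext (by simp only [Prod.fst_add, Prod.snd_add, Submodule.coe_add, add_smul]; abel)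
      map_smul' := fun r v => Subtype.ext (by simp only [Prod.smul_fst, Prod.smul_snd, smul_eq_mul, RingHom.id_apply,
        Submodule.coe_smul, smul_add, smul_smul]) }
  have h33 : fB y₃ y₃ ≠ 0 := by
    intro h33
    obtain ⟨N, hN⟩ : ∃ N, N = Submodule.span F (Set.range ![al, y₁, y₂, y₃]) := ⟨_, rfl⟩
    have hli : LinearIndependent F ![al, y₁, y₂, y₃] := by
      rw [Fintype.linearIndependent_iff]
      intro c hc
      simp only [Fin.sum_univ_four, Matrix.cons_val_zero, Matrix.cons_val_one, Matrix.cons_val] at hc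
      have p0 := congrArg (fun v => fB v al) hc
      have p1 := congrArg (fun v => fB v y₁) hc
      have p2 := congrArg (fun v => fB v y₂) hc
      simp only [U.refl.semi.add_left, U.refl.semi.smul_left, U.refl.zero_left, B.row_al S hy₁,
        B.row_al S (hWR y₂ hy₂).1, B.row_al S hy₃R, h21, h31, h12, h32, U.refl.eq_zero_swap (B.row_al S hy₁),
        U.refl.eq_zero_swap (B.row_al S (hWR y₂ hy₂).1), mul_zero, add_zero, zero_add, mul_eq_zero, B.aniso, h11, h22,
        or_false] at p0 p1 p2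
      rw [p0, p1, p2, zero_smul, zero_smul, zero_smul, zero_add, zero_add, zero_add, smul_eq_zero] at hc
      intro i
      fin_cases i
      exacts [p0, p1, p2, hc.resolve_right hy30]
    have htop : N = ⊤ := Submodule.eq_top_of_finrank_eq (by
      rw [hN, finrank_span_eq_card hli, finrank_fintype_fun_eq_card, Fintype.card_fin, Fintype.card_fin, hn2])
    obtain ⟨x, hx⟩ := (U.refl.nondeg y₃ hy30).1
    have hx' : x ∈ N := htop ▸ Submodule.mem_top
    rw [hN] at hx'
    refine hx ?_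
    clear hx
    induction hx' using Submodule.span_induction with
    | mem v hv =>
      obtain ⟨i, rfl⟩ := hv
      fin_cases i
      exacts [U.refl.eq_zero_swap (B.row_al S hy₃R), h13, h23, h33]
    | zero => exact U.refl.zero_left _
    | add a b _ _ p p' => rw [U.refl.semi.add_left, p, p', add_zero]
    | smul r a _ p => rw [U.refl.semi.smul_left, p, mul_zero]
  have hval : ∀ v : F × F × F, fB (φ v : Fin n₂ → F) (φ v) =
      v.1 * σ v.1 * fB y₁ y₁ + (v.2.1 * σ v.2.1 * fB y₂ y₂ + v.2.2 * σ v.2.2 * fB y₃ y₃) := fun v => by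
    simp only [φ, LinearMap.coe_mk, AddHom.coe_mk, U.refl.semi.add_left, U.refl.semi.add_right,
      U.refl.semi.smul_left, U.refl.semi.smul_right, h12, h13, h21, h23, h31, h32]
    ring
  have hinj : Function.Injective φ := (injective_iff_map_eq_zero φ).mpr fun v hv => by
    have e : v.1 • y₁ + (v.2.1 • y₂ + v.2.2 • y₃) = 0 := congrArg Subtype.val hv
    have p1 := congrArg (fun z => fB z y₁) e
    have p2 := congrArg (fun z => fB z y₂) e
    have p3 := congrArg (fun z => fB z y₃) e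
    simp only [U.refl.semi.add_left, U.refl.semi.smul_left, U.refl.zero_left, h12, h13, h21, h23, h31, h32, mul_zero,
      add_zero, zero_add, mul_eq_zero, h11, h22, h33, or_false] at p1 p2 p3
    exact Prod.ext p1 (Prod.ext p2 p3)
  have hsplit := Finset.card_filter_add_card_filter_not (s := (Finset.univ : Finset (F × F × F)))
    (p := fun v => v.1 * σ v.1 * fB y₁ y₁ + (v.2.1 * σ v.2.1 * fB y₂ y₂ + v.2.2 * σ v.2.2 * fB y₃ y₃) = 0)
  have hz := U.card_diag_zero h11 h22 h33 (U.fixed y₂) (U.fixed y₃)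
  have himg : (Finset.univ.filter fun v : F × F × F => ¬ (v.1 * σ v.1 * fB y₁ y₁ + (v.2.1 * σ v.2.1 * fB y₂ y₂ +
      v.2.2 * σ v.2.2 * fB y₃ y₃) = 0)).card ≤
      (Finset.univ.filter fun v : rowSpan Q => fB (v : Fin n₂ → F) v ≠ 0).card :=
    Finset.card_le_card_of_injOn φ (fun v hv => by
      rw [Finset.mem_coe, Finset.mem_filter] at hv ⊢
      exact ⟨Finset.mem_univ _, by rw [hval]; exact hv.2⟩) fun a _ b _ e => hinj e
  rw [Finset.card_univ, Fintype.card_prod, Fintype.card_prod, U.sig.card] at hsplit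
  have : q ^ 6 = q ^ 2 * (q ^ 2 * q ^ 2) := by ring
  omega

/-- The left factors belonging to anisotropic vectors of the row space. -/
noncomputable def leftAniso (fB : (Fin n₂ → F) → (Fin n₂ → F) → F) (Q : Fin n₁ × Fin n₂ → F) :
    Finset (Fin n₁ → F) := by
  classical
  exact (Finset.univ.filter fun v : Fin n₂ → F => v ∈ rowSpan Q ∧ fB v v ≠ 0).image fun v => ctr fB v Q

omit S in
theorem mem_leftAniso {φ : Fin n₁ → F} :
    φ ∈ leftAniso fB Q ↔ ∃ ρ, (ρ ∈ rowSpan Q ∧ fB ρ ρ ≠ 0) ∧ ctr fB ρ Q = φ := by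
  classical
  simp [leftAniso]

theorem UBad.ctr_inj (B : UBad g fB a₀ w₀ Q al) {u v : Fin n₂ → F} (hu : u ∈ rowSpan Q) (hv : v ∈ rowSpan Q)
    (e : ctr fB u Q = ctr fB v Q) : u = v := by
  have D := S.data
  refine sub_eq_zero.mp (B.eq_zero S (sub_mem hu hv) ?_)
  rw [show u - v = u + (-1 : F) • v by rw [neg_one_smul, ← sub_eq_add_neg], ctr_add_vec D, ctr_smul_vec D, map_neg,
    map_one, neg_one_smul, e, add_neg_cancel]

theorem UBad.card_leftAniso (B : UBad g fB a₀ w₀ Q al) (h3 : n₁ = 3) :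
    q ^ 6 + q * ((q ^ 2 - 1) * (q + 1) + 1) ≤ (q + 1) * (q ^ 2 * q ^ 2) + (leftAniso fB Q).card := by
  classical
  haveI : Fintype (rowSpan Q) := Fintype.ofFinite _
  refine (B.card_aniso_three S h3).trans (Nat.add_le_add_left (Finset.card_le_card_of_injOn
    (fun v : rowSpan Q => ctr fB (v : Fin n₂ → F) Q) (fun v hv => ?_) fun u _ v _ e =>
      Subtype.ext (B.ctr_inj S u.2 v.2 e)) _)
  rw [Finset.mem_coe, Finset.mem_filter] at hv
  exact mem_leftAniso.mpr ⟨v, ⟨v.2, hv.2⟩, rfl⟩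

/-- Two row spaces share few such left factors. -/
theorem UBad.card_meet [DecidableEq F] (hg : g ∈ X) (h3 : n₁ = 3) (B : UBad g fB a₀ w₀ Q al)
    {a₁ : Fin n₁ → F} {w₁ : Fin n₂ → F} {Q' : κ → F} {al' : Fin n₂ → F} (B' : UBad g fB a₁ w₁ Q' al')
    (hne : al' ∉ Submodule.span F {al}) :
    (leftAniso fB Q ∩ leftAniso fB Q').card + q ^ 2 ≤ q ^ 4 := by
  classical
  have D := S.data
  have U := S.ub
  have hn2 : n₂ = 4 := by rw [B.tight, h3]
  obtain ⟨W, hW, hWs⟩ := U.exists_perp ![al, al']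
  rw [Fintype.card_fin] at hW
  obtain ⟨b, hb, hbb⟩ : ∃ b ∈ W, fB b b ≠ 0 := by
    by_contra hcon
    push Not at hcon
    have hnull := U.null hcon
    -- a totally singular plane is its own orthogonal
    have hle : W ⊔ Submodule.span F {al} ≤ U.refl.perp W := by
      refine sup_le (fun v hv x hx => hnull v hv x hx) ?_
      rw [Submodule.span_singleton_le_iff_mem]
      exact fun x hx => U.refl.eq_zero_swap (hWs x hx 0)
    have h1 : W ⊓ Submodule.span F {al} = ⊥ := eq_bot_iff.mpr fun x hx => by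
      obtain ⟨r, rfl⟩ := Submodule.mem_span_singleton.mp hx.2
      have := hWs _ hx.1 0
      rw [Matrix.cons_val_zero, U.refl.semi.smul_left, mul_eq_zero] at this
      rw [this.resolve_right B.aniso, zero_smul]
      exact zero_mem _
    have e1 := Submodule.finrank_sup_add_finrank_inf_eq W (Submodule.span F {al})
    rw [h1, finrank_bot, finrank_span_singleton (B.al_ne S)] at e1
    have e2 := Submodule.finrank_mono hle
    have e3 := U.refl.finrank_perp W
    rw [Fintype.card_fin] at e3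
    omega
  have hbR : b ∈ rowSpan Q := B.mem b (hWs b hb 0)
  -- left factors over which `b` has a pure preimage
  obtain ⟨P, hP⟩ : ∃ P : Submodule F (Fin n₂ → F), ∀ v, v ∈ P ↔ v ∈ rowSpan Q ∧
      ∃ e w, g ⬝ₘ (tm e w) = tm (ctr fB v Q) b := by
    refine ⟨{ carrier := {v | v ∈ rowSpan Q ∧ ∃ e w, g ⬝ₘ (tm e w) = tm (ctr fB v Q) b}
              add_mem' := ?_, zero_mem' := ⟨zero_mem _, 0, 0, ?_⟩, smul_mem' := ?_ }, fun _ => Iff.rfl⟩
    · rintro u v ⟨hu, e, w, h⟩ ⟨hv, e', w', h'⟩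
      refine ⟨add_mem hu hv, ?_⟩
      obtain ⟨c, d, hcd⟩ := S.pure_of_good (g := g⁻¹) (inv_mem hg) (a := ctr fB u Q + ctr fB v Q) (b := b)
        (S.good_rows (by
          rw [tm_add_left, ← h, ← h', Matrix.mulVec_add, gl_inv_mulVec_cancel, gl_inv_mulVec_cancel]
          have := summands_rows (summands_add (summands_one (a := e) (b := w)) (summands_one (a := e') (b := w')))
          omega))
      exact ⟨c, d, by rw [← hcd, gl_mulVec_inv_cancel, ctr_add_vec D]⟩
    · rw [tm_zero_left, Matrix.mulVec_zero, show ctr fB (0 : Fin n₂ → F) Q = 0 from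
        funext fun i => U.refl.zero_right _, tm_zero_left]
    · rintro r v ⟨hv, e, w, h⟩
      exact ⟨(rowSpan Q).smul_mem r hv, σ r • e, w, by
        rw [tm_smul_left, Matrix.mulVec_smul, h, ctr_smul_vec D, tm_smul_left]⟩
  have hbP : b ∉ P := fun h => by
    obtain ⟨-, e, w, he⟩ := (hP b).mp h
    exact B.not_self S hg hbR hbb he
  have hP2 : finrank F P ≤ 2 := by
    have hlt : P < rowSpan Q := lt_of_le_of_ne (fun v hv => ((hP v).mp hv).1) fun e => hbP (e ▸ hbR)
    have := Submodule.finrank_lt_finrank_of_lt hlt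
    rw [B.rows] at this
    omega
  have hsub : ∀ φ ∈ leftAniso fB Q ∩ leftAniso fB Q', ∃ ρ ∈ P, fB ρ ρ ≠ 0 ∧ ctr fB ρ Q = φ := by
    intro φ hφ
    rw [Finset.mem_inter, mem_leftAniso, mem_leftAniso] at hφ
    obtain ⟨⟨ρ, ⟨hρ, hρρ⟩, rfl⟩, ρ', ⟨hρ', hρρ'⟩, hφ'⟩ := hφ
    obtain ⟨T, hT, hT2⟩ := S.preSpace hg (ctr fB ρ Q)
    have hTW : T ≤ W := fun v hv => by
      obtain ⟨e, w, he⟩ := (hT v).mp hv
      have h1 := B.single_three S hg hρ he hρρ
      have h2 := B'.single_three S hg hρ' (hφ' ▸ he) hρρ'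
      obtain ⟨W', hW'⟩ : ∃ W', W' = U.refl.perp (Submodule.span F (Set.range ![al, al'])) := ⟨_, rfl⟩
      have hWW : W = W' := by
        refine Submodule.eq_of_le_of_finrank_le (fun z hz => ?_) ?_
        · rw [hW']
          intro x hx
          have hs := U.refl.semi
          induction hx using Submodule.span_induction with
          | mem x hx => obtain ⟨i, rfl⟩ := hx; exact hWs z hz i
          | zero => exact U.refl.zero_right _
          | add a c _ _ p p' => rw [hs.add_right, p, p', add_zero]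
          | smul r a _ p => rw [hs.smul_right, p, mul_zero]
        · have hli : LinearIndependent F ![al, al'] := by
            rw [LinearIndependent.pair_iff' (B.al_ne S)]
            exact fun r hr => hne (Submodule.mem_span_singleton.mpr ⟨r, hr⟩)
          have h4 := U.refl.finrank_perp (Submodule.span F (Set.range ![al, al']))
          rw [← hW', finrank_span_eq_card hli, Fintype.card_fin, Fintype.card_fin] at h4
          omega
      rw [hWW, hW']
      intro x hx
      induction hx using Submodule.span_induction with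
      | mem x hx => obtain ⟨i, rfl⟩ := hx; fin_cases i <;> assumption
      | zero => exact U.refl.zero_right _
      | add a c _ _ p p' => rw [U.refl.semi.add_right, p, p', add_zero]
      | smul r a _ p => rw [U.refl.semi.smul_right, p, mul_zero]
    have hne0 : ctr fB ρ Q ≠ 0 := fun e => hρρ (by rw [B.eq_zero S hρ e, U.refl.zero_left])
    have hW2 : finrank F W ≤ 2 := by
      by_contra hcon
      have hle : W ≤ rowSpan Q := fun v hv => B.mem v (hWs v hv 0)
      have heq := Submodule.eq_of_le_of_finrank_le hle (by rw [B.rows]; omega)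
      refine hne ?_
      obtain ⟨r, hr⟩ := Submodule.mem_span_singleton.mp (B.perp_al al' fun i =>
        hWs _ (heq ▸ Submodule.subset_span ⟨i, rfl⟩) 1)
      exact Submodule.mem_span_singleton.mpr ⟨r, hr⟩
    have := Submodule.eq_of_le_of_finrank_le hTW (hW2.trans (hT2 hne0))
    obtain ⟨e, w, he⟩ := (hT b).mp (this ▸ hb)
    exact ⟨ρ, (hP ρ).mpr ⟨hρ, e, w, he⟩, hρρ, rfl⟩
  -- a plane has a singular line
  obtain ⟨P₂, hPP, hP₂R, hP₂⟩ : ∃ P₂, P ≤ P₂ ∧ P₂ ≤ rowSpan Q ∧ finrank F P₂ = 2 := by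
    obtain ⟨C, hC⟩ := Submodule.exists_isCompl P
    obtain ⟨C', hC'⟩ : ∃ C', C' = C ⊓ rowSpan Q := ⟨_, rfl⟩
    have hPR : P ≤ rowSpan Q := fun v hv => ((hP v).mp hv).1
    have hsup : P ⊔ C' = rowSpan Q := by
      rw [hC', ← sup_inf_assoc_of_le C hPR, hC.sup_eq_top, top_inf_eq]
    have hdis : P ⊓ C' = ⊥ := by
      rw [hC', ← inf_assoc, hC.inf_eq_bot, bot_inf_eq]
    have h := Submodule.finrank_sup_add_finrank_inf_eq P C'
    rw [hsup, hdis, finrank_bot, B.rows] at h
    obtain ⟨E, hE, hE2⟩ : ∃ E ≤ C', finrank F E = 2 - finrank F P := by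
      obtain ⟨bC⟩ : Nonempty (Basis (Fin (finrank F C')) F C') := ⟨Module.finBasis F C'⟩
      have hli : LinearIndependent F fun i : Fin (2 - finrank F P) => ((bC (i.castLE (by omega))) : Fin n₂ → F) :=
        (bC.linearIndependent.comp _ (Fin.castLE_injective _)).map' C'.subtype C'.ker_subtype
      refine ⟨Submodule.span F (Set.range fun i : Fin (2 - finrank F P) => ((bC (i.castLE (by omega))) : Fin n₂ → F)),
        Submodule.span_le.mpr (by rintro _ ⟨i, rfl⟩; exact Subtype.prop _), ?_⟩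
      rw [finrank_span_eq_card hli, Fintype.card_fin]
    refine ⟨P ⊔ E, le_sup_left, sup_le hPR (hE.trans (hC' ▸ inf_le_right)), ?_⟩
    have h' := Submodule.finrank_sup_add_finrank_inf_eq P E
    rw [show P ⊓ E = ⊥ from eq_bot_iff.mpr (hdis ▸ inf_le_inf_left P hE), finrank_bot, hE2] at h'
    omega
  obtain ⟨o, ho, ho0, hoo⟩ := U.exists_iso (W := P₂) (by omega)
  haveI : Fintype P₂ := Fintype.ofFinite _
  obtain ⟨L, hL⟩ : ∃ L : Finset P₂, L = Finset.univ.image fun r : F => (⟨r • o, P₂.smul_mem r ho⟩ : P₂) := ⟨_, rfl⟩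
  have hLc : L.card = q ^ 2 := by
    rw [hL, Finset.card_image_of_injective _ fun r r' e => by
      simp only [Subtype.mk.injEq] at e
      exact smul_left_injective F ho0 e, Finset.card_univ, U.sig.card]
  obtain ⟨A, hA⟩ : ∃ A : Finset P₂, A = Finset.univ.filter fun v : P₂ => fB (v : Fin n₂ → F) v ≠ 0 := ⟨_, rfl⟩
  have h1 : (leftAniso fB Q ∩ leftAniso fB Q').card ≤ A.card := by
    refine (Finset.card_le_card (t := A.image fun v : P₂ => ctr fB (v : Fin n₂ → F) Q) fun φ hφ => ?_).trans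
      Finset.card_image_le
    obtain ⟨ρ, hρ, hρρ, rfl⟩ := hsub φ hφ
    exact Finset.mem_image.mpr ⟨⟨ρ, hPP hρ⟩, hA ▸ Finset.mem_filter.mpr ⟨Finset.mem_univ _, hρρ⟩, rfl⟩
  have h2 : A.card + L.card ≤ Fintype.card P₂ := by
    rw [← Finset.card_union_of_disjoint]
    · exact Finset.card_le_univ _
    rw [Finset.disjoint_left]
    intro v hv hv'
    rw [hL, Finset.mem_image] at hv'
    obtain ⟨r, -, rfl⟩ := hv'
    rw [hA, Finset.mem_filter] at hv
    refine hv.2 ?_
    rw [U.refl.semi.smul_left, U.refl.semi.smul_right, hoo, mul_zero, mul_zero]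
  rw [Module.card_eq_pow_finrank (K := F) (V := P₂), hP₂, U.sig.card, hLc, ← pow_mul, show 2 * 2 = 4 from rfl] at h2
  omega

/-- No bad image when the dimensions are three and four. -/
theorem UBad.false_three (B : UBad g fB a₀ w₀ Q al) (hg : g ∈ X) (h3 : n₁ = 3) : False := by
  classical
  have D := S.data
  have hq := S.ub.sig.two_le
  -- among three bad images two have the same axis
  have three : ∀ {a₁ a₂ : Fin n₁ → F} {w₁ w₂ : Fin n₂ → F} {Q₁ Q₂ : κ → F} {al₁ al₂ : Fin n₂ → F},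
      UBad g fB a₁ w₁ Q₁ al₁ → UBad g fB a₂ w₂ Q₂ al₂ → al₁ ∉ Submodule.span F {al} →
      al₂ ∈ Submodule.span F {al} ∨ al₂ ∈ Submodule.span F {al₁} := by
    intro a₁ a₂ w₁ w₂ Q₁ Q₂ al₁ al₂ B₁ B₂ hne
    by_contra hcon
    push Not at hcon
    have c0 := B.card_leftAniso S h3
    have c1 := B₁.card_leftAniso S h3
    have c2 := B₂.card_leftAniso S h3
    have m01 := B.card_meet S hg h3 B₁ hne
    have m02 := B.card_meet S hg h3 B₂ hcon.1
    have m12 := B₁.card_meet S hg h3 B₂ hcon.2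
    obtain ⟨G0, hG0⟩ : ∃ G, G = leftAniso fB Q := ⟨_, rfl⟩
    obtain ⟨G1, hG1⟩ : ∃ G, G = leftAniso fB Q₁ := ⟨_, rfl⟩
    obtain ⟨G2, hG2⟩ : ∃ G, G = leftAniso fB Q₂ := ⟨_, rfl⟩
    rw [← hG0] at c0 m01 m02
    rw [← hG1] at c1 m01 m12
    rw [← hG2] at c2 m02 m12
    have u1 := Finset.card_union_add_card_inter G0 G1
    have u2 := Finset.card_union_add_card_inter (G0 ∪ G1) G2
    have u3 : ((G0 ∪ G1) ∩ G2).card ≤ (G0 ∩ G2).card + (G1 ∩ G2).card := by
      rw [Finset.union_inter_distrib_right]; exact Finset.card_union_le _ _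
    have u4 : ((G0 ∪ G1) ∪ G2).card ≤ q ^ 6 := by
      refine (Finset.card_le_univ _).trans_eq ?_
      rw [Fintype.card_fun, Fintype.card_fin, h3, S.ub.sig.card]; ring
    obtain ⟨q, rfl⟩ : ∃ m, q = m + 2 := ⟨q - 2, by omega⟩
    obtain ⟨Z, hZ⟩ : ∃ Z, (q + 2) ^ 2 - 1 = Z := ⟨_, rfl⟩
    have hZ' : Z + 1 = (q + 2) ^ 2 := by have : 1 ≤ (q + 2) ^ 2 := Nat.one_le_pow _ _ (by omega); omega
    rw [hZ] at c0 c1 c2
    nlinarith [Nat.zero_le q, sq_nonneg q, Nat.zero_le (q * q * q)]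
  obtain ⟨al', hal', hall⟩ : ∃ al', fB al' al' ≠ 0 ∧ ∀ a w (Q' : κ → F) (b : Fin n₂ → F), UBad g fB a w Q' b →
      b ∈ Submodule.span F {al} ∨ b ∈ Submodule.span F {al'} := by
    by_cases h : ∃ a w Q' b, UBad g fB a w Q' b ∧ b ∉ Submodule.span F {al}
    · obtain ⟨a, w, Q', b, B', hb⟩ := h
      exact ⟨b, B'.aniso, fun a₂ w₂ Q₂ b₂ B₂ => three B' B₂ hb⟩
    · push Not at h
      exact ⟨al, B.aniso, fun a w Q' b B' => Or.inl (h a w Q' b B')⟩
  -- the left factors killed by an axis, and those whose tensors all have pure images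
  have kill : ∀ v : Fin n₂ → F, fB v v ≠ 0 → ∃ A : Submodule F (Fin n₁ → F), A ≠ ⊤ ∧
      ∀ a, a ∈ A ↔ ∀ w, ctr fB v (g ⬝ₘ (tm a w)) = 0 := by
    intro v hv
    refine ⟨{ carrier := {a | ∀ w, ctr fB v (g ⬝ₘ (tm a w)) = 0}
              add_mem' := fun {a c} ha hc w => by rw [tm_add_left, Matrix.mulVec_add, ctr_add D, ha, hc, add_zero]
              zero_mem' := fun w => by
                rw [tm_zero_left, Matrix.mulVec_zero]; exact funext fun i => S.ub.refl.zero_left _
              smul_mem' := fun r a ha w => by rw [tm_smul_left, Matrix.mulVec_smul, ctr_smul D, ha, smul_zero] },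
      fun e => ?_, fun _ => Iff.rfl⟩
    let L : (κ → F) →ₗ[F] (Fin n₁ → F) :=
      { toFun := fun x => ctr fB v (g ⬝ₘ x)
        map_add' := fun x y => by rw [Matrix.mulVec_add, ctr_add D]
        map_smul' := fun r x => by rw [Matrix.mulVec_smul, ctr_smul D, RingHom.id_apply] }
    have hL : ∀ x, L x = 0 := fun x => by
      rw [pi_eq_sum_univ' x, map_sum]
      refine Finset.sum_eq_zero fun p _ => ?_
      rw [map_smul]
      convert smul_zero (x p)
      have : (Pi.single p 1 : κ → F) = tm (Pi.single p.1 1) (Pi.single p.2 1) := funext fun r => by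
        rcases r with ⟨i, j⟩; rcases p with ⟨i', j'⟩
        simp only [tm_apply, Pi.single_apply, Prod.mk.injEq]
        split_ifs <;> simp_all
      rw [this]
      exact Submodule.eq_top_iff'.mp e (Pi.single p.1 (1 : F)) _
    obtain ⟨c, hc⟩ : ∃ c : Fin n₁ → F, c ≠ 0 := ⟨fun _ => 1, fun h => one_ne_zero (congrFun h ⟨0, by omega⟩)⟩
    have := hL (g⁻¹ ⬝ₘ (tm c v))
    change ctr fB v (g ⬝ₘ (g⁻¹ ⬝ₘ (tm c v))) = 0 at this
    rw [gl_mulVec_inv_cancel, ctr_tm D, smul_eq_zero] at this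
    exact this.elim hv hc
  obtain ⟨A₁, hA₁, hA₁m⟩ := kill al B.aniso
  obtain ⟨A₂, hA₂, hA₂m⟩ := kill al' hal'
  obtain ⟨A₀, hA₀⟩ : ∃ A : Submodule F (Fin n₁ → F), ∀ a, a ∈ A ↔ ∀ w, ∃ c d, g ⬝ₘ (tm a w) = tm c d := by
    refine ⟨{ carrier := {a | ∀ w, ∃ c d, g ⬝ₘ (tm a w) = tm c d}
              add_mem' := ?_, zero_mem' := fun w => ⟨0, 0, by simp⟩, smul_mem' := ?_ }, fun _ => Iff.rfl⟩
    · intro a c ha hc w
      obtain ⟨p, r, hp⟩ := ha w
      obtain ⟨p', r', hp'⟩ := hc w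
      refine S.pure_of_good hg (S.good_rows ?_)
      rw [tm_add_left, Matrix.mulVec_add, hp, hp']
      have := summands_rows (summands_add (summands_one (a := p) (b := r)) (summands_one (a := p') (b := r')))
      have := S.four
      omega
    · intro r a ha w
      obtain ⟨p, s, hp⟩ := ha w
      exact ⟨r • p, s, by rw [tm_smul_left, Matrix.mulVec_smul, hp, tm_smul_left]⟩
  have hA₀top : A₀ ≠ ⊤ := fun e => by
    obtain ⟨c, d, hcd⟩ := (hA₀ a₀).mp (e ▸ Submodule.mem_top) w₀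
    have h := B.rows
    rw [← B.eq, hcd] at h
    have := summands_rows (summands_one (a := c) (b := d))
    omega
  have h4 : 4 ≤ Fintype.card F := by rw [S.ub.sig.card]; nlinarith
  obtain ⟨a, ha₀, ha₁, ha₂⟩ := not_cover h4 hA₀top hA₁ hA₂
  obtain ⟨W, hW⟩ := S.exists_pureSpace hg a
  let V : (Fin n₂ → F) → Submodule F (Fin n₂ → F) := fun v => LinearMap.ker
    ({ toFun := fun w => ctr fB v (g ⬝ₘ (tm a w))
       map_add' := fun w w' => by rw [tm_add_right, Matrix.mulVec_add, ctr_add D]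
       map_smul' := fun r w => by rw [tm_smul_right, Matrix.mulVec_smul, ctr_smul D, RingHom.id_apply] } :
      (Fin n₂ → F) →ₗ[F] (Fin n₁ → F))
  obtain ⟨w, hwW, hw₁, hw₂⟩ := not_cover h4 (A := W) (B := V al) (C := V al')
    (fun e => ha₀ ((hA₀ a).mpr fun w => (hW w).mp (e ▸ Submodule.mem_top)))
    (fun e => ha₁ ((hA₁m a).mpr fun w => (show w ∈ V al from e ▸ Submodule.mem_top)))
    (fun e => ha₂ ((hA₂m a).mpr fun w => (show w ∈ V al' from e ▸ Submodule.mem_top)))
  obtain ⟨Q', b, B'⟩ := S.bad hg fun h => hwW ((hW w).mpr h)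
  have hz : ctr fB b (g ⬝ₘ (tm a w)) = 0 := by rw [B'.eq]; exact B'.ctr_al S
  have key : ∀ {v : Fin n₂ → F}, b ∈ Submodule.span F {v} → w ∈ V v := fun {v} hb => by
    obtain ⟨r, rfl⟩ := Submodule.mem_span_singleton.mp hb
    rw [ctr_smul_vec D, smul_eq_zero] at hz
    exact hz.resolve_left ((map_ne_zero σ).mpr fun e => B'.al_ne S (by rw [e, zero_smul]))
  rcases hall a w Q' b B' with h | h
  exacts [hw₁ (key h), hw₂ (key h)]

/-- Pure tensors have pure images. -/
theorem UCtx.pure {g : GL κ F} (hg : g ∈ X) (a : Fin n₁ → F) (w : Fin n₂ → F) :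
    ∃ a' b', g ⬝ₘ (tm a w) = tm a' b' := by
  by_contra h
  obtain ⟨Q, al, B⟩ := S.bad hg h
  have := B.tight
  have := S.four
  rcases Nat.lt_or_ge n₁ 4 with h4 | h4
  · exact B.false_three S hg (by omega)
  rcases Nat.lt_or_ge n₁ 5 with h5 | h5
  · exact B.false_four S hg (by omega)
  · exact B.false_big S hg h5

end Cfsg.Agent.Classical.TensorMax.Form
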