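/-
The stabiliser of a tensor product of a Hermitian line pair and a Hermitian plane (dimensions two and three).
-/
import Cfsg.Agent.Lib.Classical.TensorMax.Form.UThree

set_option autoImplicit false
set_option linter.unusedSectionVars false

namespace Cfsg.Agent.Classical.TensorMax.Form

open Matrix Module Cfsg.Geo
open Cfsg.Agent.Classical

namespace UForm

variable {ι : Type} [Fintype ι] [DecidableEq ι] {F : Type*} [Field F] [Fintype F] {q : ℕ} {σ : F ≃+* F}
  {f : (ι → F) → (ι → F) → F} (U : UForm q σ f)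

include U

/-- In dimension at most three totally isotropic spaces are lines. -/
theorem line (h : Fintype.card ι ≤ 3) {u v : ι → F} (hu : u ≠ 0) (huu : f u u = 0) (hvv : f v v = 0)
    (huv : f u v = 0) : v ∈ Submodule.span F {u} := by
  obtain ⟨W, hW⟩ : ∃ W, W = Submodule.span F {u} ⊔ Submodule.span F {v} := ⟨_, rfl⟩
  have hnull : ∀ w ∈ W, f w w = 0 := by
    intro w hw
    rw [hW] at hw
    obtain ⟨x, hx, y, hy, rfl⟩ := Submodule.mem_sup.mp hw
    obtain ⟨a, rfl⟩ := Submodule.mem_span_singleton.mp hx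
    obtain ⟨b, rfl⟩ := Submodule.mem_span_singleton.mp hy
    simp only [U.refl.semi.add_left, U.refl.semi.add_right, U.refl.semi.smul_left, U.refl.semi.smul_right, huu, hvv,
      huv, U.refl.eq_zero_swap huv, mul_zero, add_zero]
  have h2 := U.two_mul_le hnull
  have : Submodule.span F {u} = W := Submodule.eq_of_le_of_finrank_le (hW ▸ le_sup_left)
    (by rw [finrank_span_singleton hu]; omega)
  rw [this, hW]
  exact Submodule.mem_sup_right (Submodule.mem_span_singleton_self v)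

/-- A vector orthogonal to three independent ones. -/
theorem zero_of_perp (h : Fintype.card ι = 3) {u v w d : ι → F}
    (hli : ∀ a b c : F, a • u + b • v + c • w = 0 → a = 0 ∧ b = 0 ∧ c = 0)
    (hu : f d u = 0) (hv : f d v = 0) (hw : f d w = 0) : d = 0 := by
  have hli' : LinearIndependent F ![u, v, w] := Fintype.linearIndependent_iff.mpr fun c hc => by
    obtain ⟨h0, h1, h2⟩ := hli (c 0) (c 1) (c 2) (by simpa [Fin.sum_univ_three] using hc)
    intro i
    fin_cases i <;> assumption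
  have htop := hli'.span_eq_top_of_card_eq_finrank (by
    rw [finrank_fintype_fun_eq_card, h, Fintype.card_fin])
  by_contra hd
  obtain ⟨x, hx⟩ := (U.refl.nondeg d hd).2
  apply hx
  have hxm : x ∈ Submodule.span F (Set.range ![u, v, w]) := by rw [htop]; trivial
  obtain ⟨c, rfl⟩ := (Submodule.mem_span_range_iff_exists_fun F).mp hxm
  simp [Fin.sum_univ_three, U.refl.semi.add_right, U.refl.semi.smul_right, hu, hv, hw]

/-- The map adding a multiple of one vector, weighted by the product with another. -/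
theorem exists_rank1 (v w : ι → F) (c : F) (h : 1 + c * f v w ≠ 0) :
    ∃ t : GL ι F, (t : Matrix ι ι F).det = 1 + c * f v w ∧
      ∀ x, (t : Matrix ι ι F) *ᵥ x = x + (c * f x w) • v := by
  let L : (ι → F) →ₗ[F] F :=
    { toFun := fun x => f x w, map_add' := fun a b => U.refl.semi.add_left a b w,
      map_smul' := fun r a => U.refl.semi.smul_left r a w }
  obtain ⟨b, hb⟩ := Radical.exists_vec (c • L)
  let M : Matrix ι ι F := 1 + Matrix.replicateCol Unit v * Matrix.replicateRow Unit b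
  have hd : M.det = 1 + c * f v w := by
    rw [Matrix.det_one_add_replicateCol_mul_replicateRow, hb]; rfl
  refine ⟨Matrix.GeneralLinearGroup.mkOfDetNeZero M (by rw [hd]; exact h), hd, fun x => ?_⟩
  change M *ᵥ x = _
  rw [show c * f x w = b ⬝ᵥ x from (hb x).symm]
  simp only [M]
  rw [Matrix.add_mulVec, Matrix.one_mulVec, ← Matrix.mulVec_mulVec]
  congr 1
  funext i
  simp [Matrix.mulVec, dotProduct, Matrix.replicateCol_apply, Matrix.replicateRow_apply, Finset.mul_sum,
    Finset.sum_mul, mul_assoc, mul_comm, mul_left_comm]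

/-- A scalar for the torus. -/
theorem exists_torus_scalar (hq : 3 ≤ q) : ∃ l : F, l ≠ 0 ∧ l * σ l ≠ 1 ∧ σ l * σ l ≠ l := by
  obtain ⟨g, -, hord⟩ := U.sig.exists_gen
  have h3 : 3 * q ≤ q ^ 2 := by rw [pow_two]; exact Nat.mul_le_mul_right q hq
  refine ⟨g, Units.ne_zero g, fun e => ?_, fun e => ?_⟩
  · rw [U.sig.apply_eq, ← pow_succ', ← Units.val_pow_eq_pow_val, Units.val_eq_one, ← orderOf_dvd_iff_pow_eq_one,
      hord] at e
    have := Nat.le_of_dvd (by omega) e
    omega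
  · obtain ⟨k, hk⟩ : ∃ k, q + q = k + 1 := ⟨q + q - 1, by omega⟩
    rw [U.sig.apply_eq, ← pow_add, hk, pow_succ, mul_eq_right₀ (Units.ne_zero g), ← Units.val_pow_eq_pow_val,
      Units.val_eq_one, ← orderOf_dvd_iff_pow_eq_one, hord] at e
    have := Nat.le_of_dvd (by omega) e
    omega

/-- The torus attached to two singular lines of a plane. -/
theorem torusCond (h : Fintype.card ι = 3) (hq : 3 ≤ q) : TorusCond f where
  line _ _ hu huu hvv huv := U.line (by omega) hu huu hvv huv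
  tor o o₂ ho hoo hoo₂ hmem := by
    have hne : f o₂ o ≠ 0 := fun e => hmem (U.line (by omega) ho hoo hoo₂ (U.refl.eq_zero_swap e))
    obtain ⟨z, hzdef⟩ : ∃ z, z = (f o₂ o)⁻¹ • o₂ := ⟨_, rfl⟩
    have hzz : f z z = 0 := by rw [hzdef, U.refl.semi.smul_left, U.refl.semi.smul_right, hoo₂, mul_zero, mul_zero]
    have hzo : f z o = 1 := by rw [hzdef, U.refl.semi.smul_left, inv_mul_cancel₀ hne]
    have hoz : f o z = 1 := by rw [← U.herm, hzo, map_one]
    have ho₂z : o₂ = f o₂ o • z := by rw [hzdef, smul_inv_smul₀ hne]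
    obtain ⟨W, hW, hWs⟩ := U.exists_perp ![o, z]
    obtain ⟨e, he, he0⟩ := W.exists_mem_ne_zero_of_ne_bot fun e0 => by rw [e0, finrank_bot] at hW; omega
    have heo : f e o = 0 := hWs e he 0
    have hez : f e z = 0 := hWs e he 1
    have hoe : f o e = 0 := U.refl.eq_zero_swap heo
    have hze : f z e = 0 := U.refl.eq_zero_swap hez
    have hee : f e e ≠ 0 := fun e1 => by
      obtain ⟨r, hr⟩ := Submodule.mem_span_singleton.mp (U.line (by omega) ho hoo e1 hoe)
      rw [← hr, U.refl.semi.smul_left, hoz, mul_one] at hez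
      exact he0 (by rw [← hr, hez, zero_smul])
    have hli : ∀ a b c : F, a • o + b • z + c • e = 0 → a = 0 ∧ b = 0 ∧ c = 0 := fun a b c habc => by
      have h1 : f (a • o + b • z + c • e) z = 0 := by rw [habc, U.refl.zero_left]
      have h2 : f (a • o + b • z + c • e) o = 0 := by rw [habc, U.refl.zero_left]
      have h3 : f (a • o + b • z + c • e) e = 0 := by rw [habc, U.refl.zero_left]
      simp only [U.refl.semi.add_left, U.refl.semi.smul_left, hoo, hzz, hoz, hzo, hoe, heo, hze, hez, mul_zero,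
        mul_one, add_zero, zero_add] at h1 h2 h3
      exact ⟨h1, h2, (mul_eq_zero.mp h3).resolve_right hee⟩
    obtain ⟨l, hl, hl1, hl2⟩ := U.exists_torus_scalar hq
    have hσl : σ l ≠ 0 := (map_ne_zero σ).mpr hl
    obtain ⟨μ, hμdef⟩ : ∃ μ, μ = σ l / l := ⟨_, rfl⟩
    have hμ : μ * σ μ = 1 := by rw [hμdef, map_div₀, U.sig.involutive]; field_simp
    obtain ⟨g₁, hd₁, h₁⟩ := U.exists_rank1 o z (l - 1) (by rw [hoz, mul_one, add_sub_cancel]; exact hl)
    obtain ⟨g₂, hd₂, h₂⟩ := U.exists_rank1 z o ((σ l)⁻¹ - 1) (by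
      rw [hzo, mul_one, add_sub_cancel]; exact inv_ne_zero hσl)
    rw [hoz, mul_one, add_sub_cancel] at hd₁
    rw [hzo, mul_one, add_sub_cancel] at hd₂
    obtain ⟨g₃, hd₃, hiso₃, h₃⟩ := exists_pref U hee hμ
    obtain ⟨t, ht⟩ : ∃ t, t = g₁ * g₂ * g₃ := ⟨_, rfl⟩
    have h12 : ∀ x, (g₁ * g₂ : GL ι F).1 *ᵥ x =
        x + (((l - 1) * f x z) • o + (((σ l)⁻¹ - 1) * f x o) • z) := fun x => by
      rw [gl_mul_mulVec, h₂, h₁, U.refl.semi.add_left, U.refl.semi.smul_left, hzz]
      module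
    have htx : ∀ x, (t : Matrix ι ι F) *ᵥ x = x +
        (((l - 1) * f x z) • o + (((σ l)⁻¹ - 1) * f x o) • z + ((μ - 1) / f e e * f x e) • e) := fun x => by
      rw [ht, gl_mul_mulVec (g₁ * g₂) g₃, h12, h₃, U.refl.semi.add_left, U.refl.semi.add_left, U.refl.semi.smul_left,
        U.refl.semi.smul_left, hez, heo]
      module
    have hiso : ∀ u v, f ((t : Matrix ι ι F) *ᵥ u) ((t : Matrix ι ι F) *ᵥ v) = f u v := fun u v => by
      rw [ht, gl_mul_mulVec (g₁ * g₂) g₃, gl_mul_mulVec (g₁ * g₂) g₃, h12, h12, ← hiso₃ u v]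
      generalize (g₃ : Matrix ι ι F) *ᵥ u = x
      generalize (g₃ : Matrix ι ι F) *ᵥ v = y
      simp only [U.refl.semi.add_left, U.refl.semi.add_right, U.refl.semi.smul_left, U.refl.semi.smul_right, hoo, hzz,
        hoz, hzo, map_mul, map_sub, map_one, map_inv₀, U.sig.involutive, U.herm]
      field_simp
      ring
    have htz : (t : Matrix ι ι F) *ᵥ z = (σ l)⁻¹ • z := by
      rw [htx, hzz, hzo, hze]; module
    refine ⟨t, l, μ, (σ l)⁻¹, ?_, hiso, ?_, fun w hw => ⟨(l - μ) * f w z, ?_⟩, ?_, fun v hv => ?_⟩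
    · rw [ht, Units.val_mul, Units.val_mul, Matrix.det_mul, Matrix.det_mul, hd₁, hd₂, hd₃, hμdef]; field_simp
    · rw [htx, hoo, hoz, hoe]; module
    · obtain ⟨d, hd⟩ : ∃ d, d = w - f w z • o - (f w e / f e e) • e := ⟨_, rfl⟩
      have hd0 : d = 0 := by
        refine U.zero_of_perp h hli ?_ ?_ ?_ <;>
          simp only [hd, sub_eq_add_neg, U.refl.semi.add_left, U.refl.neg_left, U.refl.semi.smul_left, hw, hoo, hoz,
            hoe, heo, hez, mul_zero, mul_one, add_zero, neg_zero, add_neg_cancel, zero_add]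
        field_simp
        ring
      have hw' : w = f w z • o + (f w e / f e e) • e := by
        rw [hd, sub_sub, sub_eq_zero] at hd0; exact hd0
      have e1 : (μ - 1) / f e e * f w e = (μ - 1) * (f w e / f e e) := by ring
      rw [htx, hw, e1]
      generalize hc : f w e / f e e = c at hw' ⊢
      generalize ha : f w z = a at hw' ⊢
      rw [hw']
      module
    · conv_lhs => rw [ho₂z, Matrix.mulVec_smul, htz]
      conv_rhs => rw [ho₂z]
      exact smul_comm _ _ _
    · -- an eigenvector is orthogonal to `z` and `e`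
      have hvz : f v z = 0 := by
        have := hiso v z
        rw [hv, htz, U.refl.semi.smul_left, U.refl.semi.smul_right, map_inv₀, U.sig.involutive] at this
        have h1 : ((σ l)⁻¹ * l⁻¹ - 1) * f v z = 0 := by linear_combination this
        refine (mul_eq_zero.mp h1).resolve_left fun e1 => hl1 ?_
        rw [← mul_inv, sub_eq_zero, inv_eq_one] at e1
        rw [mul_comm]; exact e1
      have hte : (t : Matrix ι ι F) *ᵥ e = μ • e := by
        rw [htx, heo, hez, div_mul_cancel₀ _ hee]; module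
      have hve : f v e = 0 := by
        have := hiso v e
        rw [hv, hte, U.refl.semi.smul_left, U.refl.semi.smul_right] at this
        have h1 : ((σ l)⁻¹ * σ μ - 1) * f v e = 0 := by linear_combination this
        refine (mul_eq_zero.mp h1).resolve_left fun e1 => hl2 ?_
        rw [hμdef, map_div₀, U.sig.involutive, sub_eq_zero] at e1
        field_simp at e1
        linear_combination -e1
      have hd0 : v + (-f v o) • z = 0 := by
        refine U.zero_of_perp h hli ?_ ?_ ?_ <;>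
          simp only [U.refl.semi.add_left, U.refl.semi.smul_left, hzo, hzz, hze, hvz, hve, mul_one, mul_zero,
            add_neg_cancel, add_zero]
      rw [eq_neg_of_add_eq_zero_left hd0, neg_smul, neg_neg, hzdef, smul_smul]
      exact Submodule.smul_mem _ _ (Submodule.mem_span_singleton_self _)

/-- What is needed of a plane. -/
theorem nice_three (h : Fintype.card ι = 3) (hq : 3 ≤ q) : Nice σ (1 : F) f where
  skew := by
    obtain ⟨s, hs0, hs⟩ := U.sig.exists_skew
    exact ⟨s, hs0, by rw [one_mul, hs]⟩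
  halve v := by
    obtain ⟨X, hX⟩ := U.exists_trace (U.fixed v)
    exact ⟨X, by rw [one_mul, hX]⟩
  mid := Or.inr (U.torusCond h hq)
  move _ _ hu huu hv hvv := U.move hu huu hv hvv
  spanned := U.spanned (by omega)
  join := U.join

end UForm

/-- A fixed element outside the prime pair. -/
theorem exists_fixed {F : Type*} [Field F] [Fintype F] {q : ℕ} {σ : F ≃+* F} (hσ : IsUSigma q σ) (hq : q ≠ 2) : ∃ θ : F, σ θ = θ ∧ θ ≠ 0 ∧ θ ≠ 1 := by
  obtain ⟨g, -, hord⟩ := hσ.exists_gen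
  have hg : (g : F) ≠ 0 := Units.ne_zero g
  refine ⟨g * σ g, by rw [map_mul, hσ.involutive, mul_comm], mul_ne_zero hg ((map_ne_zero σ).mpr hg), fun e => ?_⟩
  rw [hσ.apply_eq, ← pow_succ', ← Units.val_pow_eq_pow_val, Units.val_eq_one, ← orderOf_dvd_iff_pow_eq_one, hord] at e
  have h1 := Nat.le_of_dvd (by omega) e
  have := hσ.two_le
  have h3 : 3 * q ≤ q ^ 2 := by rw [pow_two]; exact Nat.mul_le_mul_right q (by omega)
  omega

/-- A `p`-subgroup meeting the root set lies in the small group. -/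
theorem roots_pgroup_le {G : Type*} [Group G] [Finite G] {p : ℕ} [Fact p.Prime] {N X : Subgroup G} {R : Set G}
    (H : Roots p N X R) {P : Subgroup G} (hPX : P ≤ X) (hP : IsPGroup p P) {z : G} (hz : z ∈ R) (hzP : z ∈ P) :
    P ≤ N := by
  by_contra hne
  haveI := hP.isNilpotent
  have hlt : (N.subgroupOf P) < ⊤ := lt_top_iff_ne_top.mpr fun e => hne (Subgroup.subgroupOf_eq_top.1 e)
  obtain ⟨g, hg, hgU⟩ := SetLike.exists_of_lt (normalizerCondition_of_isNilpotent (G := P) _ hlt)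
  refine hgU (H.moves g (hPX g.2) z hz ?_)
  exact (Subgroup.mem_normalizer_iff.1 hg ⟨z, hzP⟩).1 (H.mem hz)

section TwoThree

variable {F : Type*} [Field F] [Fintype F] {q : ℕ} {σ : F ≃+* F}
  {fA : (Fin 2 → F) → (Fin 2 → F) → F} {fB : (Fin 3 → F) → (Fin 3 → F) → F}
  {X : Subgroup (GL (Fin 2 × Fin 3) F)}

local notation "κ" => Fin 2 × Fin 3
local notation:max g:max " ⬝ₘ " x:max =>
  ((g : GL (Fin 2 × Fin 3) F) : Matrix (Fin 2 × Fin 3) (Fin 2 × Fin 3) F) *ᵥ x

variable (UA : UForm q σ fA) (UB : UForm q σ fB) (O : Over σ fA fB X) (hq : 3 ≤ q)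

include UA UB O hq

theorem data_two_three : Data σ 1 1 fA fB := ⟨UA.refl, UB.refl⟩

/-- A pure image of a pure tensor comes from the stabiliser. -/
theorem pure_factor {g : GL κ F} (hg : g ∈ X) {a a' : Fin 2 → F} {w b : Fin 3 → F}
    (h : g ⬝ₘ (tm a w) = tm a' b) :
    ∃ A B, kr A B ∈ X ∧ (kr A B) ⬝ₘ (tm a w) = tm a' b := by
  have N := UB.nice_three (by simp) hq
  have good : ∀ v : Fin 3 → F, ∀ c : Fin 2 → F, Good fB (fun _ : Unit => tm c v) := fun v c => by
    obtain ⟨W, hW, hWs⟩ := UB.exists_perp (k := 1) fun _ => v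
    rw [Fintype.card_fin] at hW
    obtain ⟨o, ho, ho0, hoo⟩ := UB.exists_iso (W := W) (by omega)
    exact ⟨o, ho0, hoo, fun _ => by
      rw [ctr_tm (data_two_three UA UB O hq), UB.refl.eq_zero_swap (hWs o ho 0), zero_smul]⟩
  obtain ⟨A, B, hAB, e⟩ := factor (data_two_three UA UB O hq) O N le_rfl (by norm_num) hg
    (v := fun _ : Unit => tm a w) (v' := fun _ => tm a' b) (fun _ => h) (good w a) (good b a')
  exact ⟨A, B, hAB, e ()⟩

/-- For every singular vector of the second factor some pure tensor has a pure image orthogonal to it. -/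
theorem exists_pure_perp {g : GL κ F} (hg : g ∈ X) {u : Fin 2 → F} (hu : u ≠ 0) {o : Fin 3 → F} (ho : o ≠ 0)
    (hoo : fB o o = 0) :
    ∃ w φ b, w ≠ 0 ∧ φ ≠ 0 ∧ b ≠ 0 ∧ g ⬝ₘ (tm u w) = tm φ b ∧ fB b o = 0 := by
  have D := data_two_three UA UB O hq
  have N := UB.nice_three (by simp) hq
  let L : (Fin 3 → F) →ₗ[F] (Fin 2 → F) :=
    { toFun := fun w => ctr fB o (g ⬝ₘ (tm u w))
      map_add' := fun w w' => by rw [tm_add_right, Matrix.mulVec_add, ctr_add D]
      map_smul' := fun r w => by rw [tm_smul_right, Matrix.mulVec_smul, ctr_smul D, RingHom.id_apply] }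
  obtain ⟨w, hw, hw0⟩ := Submodule.exists_mem_ne_zero_of_ne_bot (LinearMap.ker_ne_bot_of_finrank_lt (f := L)
    (by simp))
  obtain ⟨W, hW, hWs⟩ := UB.exists_perp (k := 1) fun _ => w
  rw [Fintype.card_fin] at hW
  obtain ⟨o₁, ho₁, ho₁0, hoo₁⟩ := UB.exists_iso (W := W) (by omega)
  have hwc : ctr fB o (g ⬝ₘ (tm u w)) = 0 := hw
  obtain ⟨A, B, -, e⟩ := factor D O N le_rfl (by norm_num) hg (v := fun _ : Unit => tm u w)
    (v' := fun _ => g ⬝ₘ (tm u w)) (fun _ => rfl)
    ⟨o₁, ho₁0, hoo₁, fun _ => by rw [ctr_tm D, UB.refl.eq_zero_swap (hWs o₁ ho₁ 0), zero_smul]⟩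
    ⟨o, ho, hoo, fun _ => hwc⟩
  have e' := e ()
  rw [kr_tm] at e'
  have hne : g ⬝ₘ (tm u w) ≠ 0 := fun e0 => tm_ne_zero hu hw0 (gl_mulVec_injective g (by
    change g ⬝ₘ _ = g ⬝ₘ _
    rw [e0, Matrix.mulVec_zero]))
  have hφ : (A : Matrix (Fin 2) (Fin 2) F) *ᵥ u ≠ 0 := fun e0 => hne (by rw [← e', e0, tm_zero_left])
  refine ⟨w, _, _, hw0, hφ, fun e0 => hne (by rw [← e', e0, tm_zero_right]), e'.symm, ?_⟩
  rw [← e', ctr_tm D] at hwc
  exact (smul_eq_zero.mp hwc).resolve_right hφ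

/-- Pure images keep the types of the factors. -/
theorem pure_types {g : GL κ F} (hg : g ∈ X) {u φ : Fin 2 → F} {w b : Fin 3 → F} (hu : u ≠ 0) (huu : fA u u = 0)
    (hw : w ≠ 0) (hww : fB w w ≠ 0) (h : g ⬝ₘ (tm u w) = tm φ b) : fA φ φ = 0 ∧ fB b b ≠ 0 := by
  have D := data_two_three UA UB O hq
  obtain ⟨A, B, hAB, e⟩ := pure_factor UA UB O hq hg h
  rw [kr_tm] at e
  obtain ⟨a, -, haa⟩ := UA.exists_aniso (W := ⊤) (by
    rw [finrank_top, finrank_fintype_fun_eq_card, Fintype.card_fin]; omega)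
  have key : ∀ a : Fin 2 → F, fA ((A : Matrix (Fin 2) (Fin 2) F) *ᵥ a) ((A : Matrix (Fin 2) (Fin 2) F) *ᵥ a) *
      fB ((B : Matrix (Fin 3) (Fin 3) F) *ᵥ w) ((B : Matrix (Fin 3) (Fin 3) F) *ᵥ w) = fA a a * fB w w :=
    fun a => by rw [← tf_tm D, ← kr_tm, O.iso _ hAB, tf_tm D]
  have hB : fB ((B : Matrix (Fin 3) (Fin 3) F) *ᵥ w) ((B : Matrix (Fin 3) (Fin 3) F) *ᵥ w) ≠ 0 := fun e0 => by
    have := key a
    rw [e0, mul_zero] at this
    exact mul_ne_zero haa hww this.symm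
  have hA : fA ((A : Matrix (Fin 2) (Fin 2) F) *ᵥ u) ((A : Matrix (Fin 2) (Fin 2) F) *ᵥ u) = 0 := by
    have := key u
    rw [huu, zero_mul] at this
    exact (mul_eq_zero.mp this).resolve_right hB
  have hAu : (A : Matrix (Fin 2) (Fin 2) F) *ᵥ u ≠ 0 := fun e0 => hu (gl_mulVec_injective A (by
    change (A : Matrix (Fin 2) (Fin 2) F) *ᵥ u = (A : Matrix (Fin 2) (Fin 2) F) *ᵥ 0
    rw [e0, Matrix.mulVec_zero]))
  obtain ⟨c, hc, hc₁, hc₂⟩ := tm_inj e hAu (fun e0 => hB (by rw [e0, UB.refl.zero_left]))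
  rw [hc₁, UA.refl.semi.smul_left, UA.refl.semi.smul_right] at hA
  refine ⟨((mul_eq_zero.mp hA).resolve_left hc |> mul_eq_zero.mp).resolve_left ((map_ne_zero σ).mpr hc), ?_⟩
  rw [hc₂, UB.refl.semi.smul_left, UB.refl.semi.smul_right]
  exact mul_ne_zero hc (mul_ne_zero ((map_ne_zero σ).mpr hc) hB)

/-- Some singular pure tensor over a given singular vector has a pure image. -/
theorem exists_singular_pure {g : GL κ F} (hg : g ∈ X) {u : Fin 2 → F} (hu : u ≠ 0) (huu : fA u u = 0) :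
    ∃ w φ b, w ≠ 0 ∧ fB w w = 0 ∧ g ⬝ₘ (tm u w) = tm φ b := by
  by_contra hcon
  push Not at hcon
  have D := data_two_three UA UB O hq
  have get : ∀ {o : Fin 3 → F}, o ≠ 0 → fB o o = 0 → ∃ w φ b, φ ≠ 0 ∧ b ≠ 0 ∧ g ⬝ₘ (tm u w) = tm φ b ∧
      fB b o = 0 ∧ fA φ φ = 0 ∧ fB b b ≠ 0 := fun {o} ho hoo => by
    obtain ⟨w, φ, b, hw, hφ, hb, h, hbo⟩ := exists_pure_perp UA UB O hq hg hu ho hoo
    exact ⟨w, φ, b, hφ, hb, h, hbo, pure_types UA UB O hq hg hu huu hw (fun e => hcon w φ b hw e h) h⟩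
  -- two pure images with proportional left factors and independent right factors
  have same : ∀ {w w' φ φ' : _} {b b' : Fin 3 → F}, φ ≠ 0 → b ≠ 0 → g ⬝ₘ (tm u w) = tm φ b →
      g ⬝ₘ (tm u w') = tm φ' b' → φ' ∈ Submodule.span F {φ} → φ' ≠ 0 → b' ∈ Submodule.span F {b} := by
    intro w w' φ φ' b b' hφ hb h h' hmem hφ'
    obtain ⟨k, rfl⟩ := Submodule.mem_span_singleton.mp hmem
    by_contra hb'
    have hk : k ≠ 0 := fun e => hφ' (by rw [e, zero_smul])
    have hli : LinearIndependent F ![w, w'] := linearIndependent_fin2.mpr ⟨fun e => hb' (by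
      simp only [Matrix.cons_val_one, Matrix.cons_val_zero] at e
      rw [e, tm_zero_right, Matrix.mulVec_zero] at h'
      rw [((tm_eq_zero h'.symm).resolve_left hφ')]
      exact zero_mem _), fun r hr => by
        simp only [Matrix.cons_val_one, Matrix.cons_val_zero] at hr
        have e1 : tm φ b = tm φ (r • k • b') := by
          rw [← h, ← hr, tm_smul_right, Matrix.mulVec_smul, h', tm_smul_right, tm_smul_right, tm_smul_left]
        have e2 : b = r • k • b' := sub_eq_zero.mp ((tm_eq_zero (a := φ) (by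
          rw [tm_sub_right, e1, sub_self])).resolve_left hφ)
        have hr0 : r * k ≠ 0 := fun e => hb (by rw [e2, smul_smul, e, zero_smul])
        exact hb' (Submodule.mem_span_singleton.mpr ⟨(r * k)⁻¹, by
          rw [e2, smul_smul r k, smul_smul, inv_mul_cancel₀ hr0, one_smul]⟩)⟩
    obtain ⟨x, hx, hx0, hxx⟩ := UB.exists_iso (W := Submodule.span F (Set.range ![w, w']))
      (by rw [finrank_span_eq_card hli, Fintype.card_fin])
    obtain ⟨c, rfl⟩ := (Submodule.mem_span_range_iff_exists_fun F).mp hx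
    refine hcon _ φ (c 0 • b + c 1 • k • b') hx0 hxx ?_
    simp only [Fin.sum_univ_two, Matrix.cons_val_zero, Matrix.cons_val_one, tm_add_right, tm_smul_right,
      Matrix.mulVec_add, Matrix.mulVec_smul, h, h', tm_smul_left]
  -- otherwise the right factors are orthogonal
  have orth : ∀ {w w' φ φ' : _} {b b' : Fin 3 → F}, φ ≠ 0 → b ≠ 0 → φ' ≠ 0 → g ⬝ₘ (tm u w) = tm φ b →
      g ⬝ₘ (tm u w') = tm φ' b' → fA φ φ = 0 → fA φ' φ' = 0 → b' ∉ Submodule.span F {b} → fB b b' = 0 := by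
    intro w w' φ φ' b b' hφ hb hφ' h h' hφφ hφφ' hb'
    have e : tf σ fA fB (tm φ b) (tm φ' b') = 0 := by rw [← h, ← h', O.iso g hg, tf_tm D, huu, zero_mul]
    rw [tf_tm D] at e
    exact (mul_eq_zero.mp e).resolve_left fun e0 =>
      hb' (same hφ hb h h' (UA.line (by simp) hφ hφφ hφφ' e0) hφ')
  have avoid : ∀ {b : Fin 3 → F}, b ≠ 0 → ∃ o, o ≠ 0 ∧ fB o o = 0 ∧ fB b o ≠ 0 := fun {b} hb => by
    by_contra hno
    push Not at hno
    have hle : Submodule.span F {v : Fin 3 → F | fB v v = 0} ≤ UB.refl.perp (Submodule.span F {b}) :=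
      Submodule.span_le.mpr fun v hv x hx => by
        obtain ⟨r, rfl⟩ := Submodule.mem_span_singleton.mp hx
        rw [UB.refl.semi.smul_right, UB.refl.eq_zero_swap (by
          rcases eq_or_ne v 0 with h0 | h0
          · rw [h0, UB.refl.zero_right]
          · exact hno v h0 hv), mul_zero]
    rw [UB.spanned (by simp), top_le_iff] at hle
    have := UB.refl.finrank_perp (Submodule.span F {b})
    rw [hle, finrank_top, finrank_span_singleton hb, finrank_fintype_fun_eq_card] at this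
    omega
  obtain ⟨o₀, -, ho₀, hoo₀⟩ := UB.exists_iso (W := ⊤) (by
    rw [finrank_top, finrank_fintype_fun_eq_card, Fintype.card_fin]; omega)
  obtain ⟨w, φ, b, hφ, hb, h, -, hφφ, hbb⟩ := get ho₀ hoo₀
  obtain ⟨o₂, ho₂, hoo₂, hbo₂⟩ := avoid hb
  obtain ⟨w', φ', b', hφ', hb', h', hb'o₂, hφφ', hb'b'⟩ := get ho₂ hoo₂
  have hb'b : b' ∉ Submodule.span F {b} := fun e => by
    obtain ⟨r, rfl⟩ := Submodule.mem_span_singleton.mp e
    rw [UB.refl.semi.smul_left, mul_eq_zero] at hb'o₂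
    exact hb' (by rw [hb'o₂.resolve_right hbo₂, zero_smul])
  have hbb0 : fB b b' = 0 := orth hφ hb hφ' h h' hφφ hφφ' hb'b
  have hb'b0 := UB.refl.eq_zero_swap hbb0
  obtain ⟨W, hW, hWs⟩ := UB.exists_perp ![b, b']
  rw [Fintype.card_fin] at hW
  obtain ⟨e, he, he0⟩ := W.exists_mem_ne_zero_of_ne_bot fun e0 => by rw [e0, finrank_bot] at hW; omega
  have heb : fB e b = 0 := hWs e he 0
  have heb' : fB e b' = 0 := hWs e he 1
  have hli : ∀ x y z : F, x • b + y • b' + z • e = 0 → x = 0 ∧ y = 0 ∧ z = 0 := fun x y z hxyz => by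
    have h1 : fB (x • b + y • b' + z • e) b = 0 := by rw [hxyz, UB.refl.zero_left]
    have h2 : fB (x • b + y • b' + z • e) b' = 0 := by rw [hxyz, UB.refl.zero_left]
    simp only [UB.refl.semi.add_left, UB.refl.semi.smul_left, hbb0, hb'b0, heb, heb', mul_zero, add_zero,
      zero_add] at h1 h2
    have hx : x = 0 := (mul_eq_zero.mp h1).resolve_right hbb
    have hy : y = 0 := (mul_eq_zero.mp h2).resolve_right hb'b'
    refine ⟨hx, hy, ?_⟩
    rw [hx, hy, zero_smul, zero_smul, zero_add, zero_add, smul_eq_zero] at hxyz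
    exact hxyz.resolve_right he0
  have hee : fB e e ≠ 0 := fun e1 => he0 (UB.zero_of_perp (by simp) hli heb heb' e1)
  -- a singular vector of full support
  obtain ⟨θ, hθ, hθ0, hθ1⟩ := exists_fixed UB.sig (by omega)
  obtain ⟨α, hα0, hα⟩ := UB.sig.norm_surjective (t := -θ * fB e e / fB b b)
    (div_ne_zero (mul_ne_zero (neg_ne_zero.mpr hθ0) hee) hbb)
    (by rw [map_div₀, map_mul, map_neg, hθ, UB.fixed, UB.fixed])
  obtain ⟨β, hβ0, hβ⟩ := UB.sig.norm_surjective (t := (θ - 1) * fB e e / fB b' b')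
    (div_ne_zero (mul_ne_zero (sub_ne_zero.mpr hθ1) hee) hb'b')
    (by rw [map_div₀, map_mul, map_sub, map_one, hθ, UB.fixed, UB.fixed])
  rw [eq_div_iff hbb] at hα
  rw [eq_div_iff hb'b'] at hβ
  have hbe : fB b e = 0 := UB.refl.eq_zero_swap heb
  have hb'e : fB b' e = 0 := UB.refl.eq_zero_swap heb'
  obtain ⟨o₃, ho₃⟩ : ∃ o₃, o₃ = α • b + β • b' + e := ⟨_, rfl⟩
  have hbo₃ : fB b o₃ ≠ 0 := by
    rw [ho₃, UB.refl.semi.add_right, UB.refl.semi.add_right, UB.refl.semi.smul_right, UB.refl.semi.smul_right, hbb0,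
      hbe, mul_zero, add_zero, add_zero]
    exact mul_ne_zero ((map_ne_zero σ).mpr hα0) hbb
  have hb'o₃ : fB b' o₃ ≠ 0 := by
    rw [ho₃, UB.refl.semi.add_right, UB.refl.semi.add_right, UB.refl.semi.smul_right, UB.refl.semi.smul_right, hb'b0,
      hb'e, mul_zero, zero_add, add_zero]
    exact mul_ne_zero ((map_ne_zero σ).mpr hβ0) hb'b'
  have hoo₃ : fB o₃ o₃ = 0 := by
    simp only [ho₃, UB.refl.semi.add_left, UB.refl.semi.add_right, UB.refl.semi.smul_left, UB.refl.semi.smul_right,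
      hbb0, hb'b0, heb, heb', hbe, hb'e, mul_zero, add_zero, zero_add]
    linear_combination hα + hβ
  obtain ⟨w'', φ'', b'', hφ'', hb'', h'', hb''o₃, hφφ'', -⟩ := get
    (fun e1 : o₃ = 0 => hbo₃ (by rw [e1, UB.refl.zero_right])) hoo₃
  have hn : ∀ c : Fin 3 → F, fB c o₃ ≠ 0 → b'' ∉ Submodule.span F {c} := fun c hc e1 => by
    obtain ⟨r, rfl⟩ := Submodule.mem_span_singleton.mp e1
    rw [UB.refl.semi.smul_left, mul_eq_zero] at hb''o₃
    exact hb'' (by rw [hb''o₃.resolve_right hc, zero_smul])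
  have h1 := UB.refl.eq_zero_swap (orth hφ hb hφ'' h h'' hφφ hφφ'' (hn b hbo₃))
  have h2 := UB.refl.eq_zero_swap (orth hφ' hb' hφ'' h' h'' hφφ' hφφ'' (hn b' hb'o₃))
  rw [ho₃, UB.refl.semi.add_right, UB.refl.semi.add_right, UB.refl.semi.smul_right, UB.refl.semi.smul_right, h1, h2,
    mul_zero, mul_zero, zero_add, zero_add] at hb''o₃
  exact hb'' (UB.zero_of_perp (by simp) hli h1 h2 hb''o₃)

/-- Without a transvection the group lies in the stabiliser. -/
theorem le_kr_three : X ≤ Kr (Fin 2) (Fin 3) F := by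
  classical
  intro g hg
  have D := data_two_three UA UB O hq
  have N := UB.nice_three (by simp) hq
  obtain ⟨p, hp⟩ := CharP.exists F
  haveI : Fact p.Prime := ⟨CharP.char_is_prime F p⟩
  haveI : Finite (GL κ F) := Finite.of_injective (fun g : GL κ F => (g : Matrix κ κ F)) Units.val_injective
  have R := roots D O N p le_rfl (by norm_num : 2 < 3)
  obtain ⟨u, -, hu, huu⟩ := UA.exists_iso (W := ⊤) (by
    rw [finrank_top, finrank_fintype_fun_eq_card, Fintype.card_fin])
  obtain ⟨w, φ, b, hw, hww, hgw⟩ := exists_singular_pure UA UB O hq hg hu huu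
  obtain ⟨A, B, hAB, e⟩ := pure_factor UA UB O hq hg hgw
  obtain ⟨h, hh⟩ : ∃ h, h = (kr A B)⁻¹ * g := ⟨_, rfl⟩
  have hhX : h ∈ X := hh ▸ mul_mem (inv_mem hAB) hg
  obtain ⟨r, hr⟩ : ∃ r, r = tm u w := ⟨_, rfl⟩
  have hhr : h ⬝ₘ r = r := by rw [hh, hr, gl_mul_mulVec, hgw, ← e, gl_inv_mulVec_cancel]
  obtain ⟨c, hc, hskew⟩ := N.skew
  obtain ⟨t, ht, htiso, hR⟩ := exists_rt (α := Fin 2) D hww hskew
  obtain ⟨z, hz⟩ : ∃ z, z = kr (1 : GL (Fin 2) F) t := ⟨_, rfl⟩
  rw [← hz] at hR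
  have hzX : z ∈ X := hz ▸ O.small t ht htiso
  -- the elements trivial on the flag of the pure point
  let U0 : Subgroup (GL κ F) :=
    { carrier := {k | k ∈ X ∧ k ⬝ₘ r = r ∧ ∀ x, tf σ fA fB x r = 0 → ∃ d : F, k ⬝ₘ x = x + d • r}
      mul_mem' := fun {a b} ha hb => ⟨mul_mem ha.1 hb.1, by rw [gl_mul_mulVec, hb.2.1, ha.2.1], fun x hx => by
        obtain ⟨d, hd⟩ := hb.2.2 x hx
        obtain ⟨d', hd'⟩ := ha.2.2 x hx
        exact ⟨d' + d, by rw [gl_mul_mulVec, hd, Matrix.mulVec_add, Matrix.mulVec_smul, ha.2.1, hd', add_smul,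
          add_assoc]⟩⟩
      one_mem' := ⟨one_mem X, by simp, fun x _ => ⟨0, by simp⟩⟩
      inv_mem' := fun {a} ha => ⟨inv_mem ha.1, by conv_lhs => rw [← ha.2.1, gl_inv_mulVec_cancel], fun x hx => by
        obtain ⟨d, hd⟩ := ha.2.2 x hx
        refine ⟨-d, gl_mulVec_injective a ?_⟩
        change a ⬝ₘ _ = a ⬝ₘ _
        rw [gl_mulVec_inv_cancel, Matrix.mulVec_add, Matrix.mulVec_smul, ha.2.1, hd]
        module⟩ }
  have hzr : z ⬝ₘ r = r := by rw [hR, hr, ctr_tm D, hww, zero_smul, smul_zero, tm_zero_left, add_zero]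
  have hzx : ∀ x, tf σ fA fB x r = 0 → ∃ d : F, z ⬝ₘ x = x + d • r := fun x hx => by
    rw [hr, tf_tm_right D] at hx
    obtain ⟨v, hvv, hvu, huv⟩ := UA.exists_partner hu huu
    have hli : LinearIndependent F ![u, v] := linearIndependent_fin2.mpr ⟨fun e1 => by
      simp only [Matrix.cons_val_one, Matrix.cons_val_zero] at e1
      rw [e1, UA.refl.zero_left] at hvu
      exact zero_ne_one hvu, fun k hk => by
      simp only [Matrix.cons_val_one, Matrix.cons_val_zero] at hk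
      rw [← hk, UA.refl.semi.smul_left, hvv, mul_zero] at huv
      exact zero_ne_one huv⟩
    have htop := hli.span_eq_top_of_card_eq_finrank (by simp)
    obtain ⟨k, hk⟩ := (Submodule.mem_span_range_iff_exists_fun F).mp
      (show ctr fB w x ∈ Submodule.span F (Set.range ![u, v]) by rw [htop]; trivial)
    simp only [Fin.sum_univ_two, Matrix.cons_val_zero, Matrix.cons_val_one] at hk
    rw [← hk, UA.refl.semi.add_left, UA.refl.semi.smul_left, UA.refl.semi.smul_left, huu, hvu, mul_zero, mul_one,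
      zero_add] at hx
    obtain ⟨d, hd⟩ : ∃ d : F, d • u = ctr fB w x := ⟨k 0, by rw [← hk, hx, zero_smul, add_zero]⟩
    exact ⟨c * d, by rw [hR, ← hd, hr, smul_smul, tm_smul_left]⟩
  have hz0 : z ∈ U0 := ⟨hzX, hzr, hzx⟩
  have hinv : h⁻¹ ⬝ₘ r = r := by conv_lhs => rw [← hhr, gl_inv_mulVec_cancel]
  have hh0 : h * z * h⁻¹ ∈ U0 := ⟨mul_mem (mul_mem hhX hzX) (inv_mem hhX),
    by rw [gl_mul_mulVec, gl_mul_mulVec, hinv, hzr, hhr], fun x hx => by
      obtain ⟨d, hd⟩ := hzx (h⁻¹ ⬝ₘ x) (by rw [← hinv, O.iso _ (inv_mem hhX), hx])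
      exact ⟨d, by rw [gl_mul_mulVec, gl_mul_mulVec, hd, Matrix.mulVec_add, Matrix.mulVec_smul, hhr,
        gl_mulVec_inv_cancel]⟩⟩
  have hP : IsPGroup p U0 := by
    intro k
    refine ⟨2, Subtype.ext (Units.ext ?_)⟩
    obtain ⟨hkX, hkr, hkx⟩ := k.2
    obtain ⟨M, hM⟩ : ∃ M, M = ((k : GL κ F) : Matrix κ κ F) - 1 := ⟨_, rfl⟩
    have hMx : ∀ x, M *ᵥ x = (k : GL κ F) ⬝ₘ x - x := fun x => by rw [hM, Matrix.sub_mulVec, Matrix.one_mulVec]
    have h3 : M ^ 3 = 0 := by
      refine Matrix.toLin'.injective (LinearMap.ext fun x => ?_)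
      have h1 : tf σ fA fB (M *ᵥ x) r = 0 := by
        rw [hMx, sub_eq_add_neg, (tf_semi D).add_left, (reflex D).neg_left]
        conv_lhs => arg 1; rw [← hkr, O.iso _ hkX]
        exact add_neg_cancel _
      obtain ⟨d, hd⟩ := hkx _ h1
      have h2 : M *ᵥ (M *ᵥ x) = d • r := by rw [hMx (M *ᵥ x), hd, add_sub_cancel_left]
      rw [Matrix.toLin'_apply, map_zero, LinearMap.zero_apply, pow_succ', pow_two, ← Matrix.mulVec_mulVec,
        ← Matrix.mulVec_mulVec, h2, Matrix.mulVec_smul, hMx, hkr, sub_self, smul_zero]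
    have hk : ((k : GL κ F) : Matrix κ κ F) = M + 1 := by rw [hM, sub_add_cancel]
    have h4 : M ^ (p ^ 2) = 0 := by
      have h5 : 2 ^ 2 ≤ p ^ 2 := Nat.pow_le_pow_left (Fact.out : p.Prime).two_le 2
      exact pow_eq_zero_of_le (by omega) h3
    rw [Subgroup.coe_pow, Units.val_pow_eq_pow_val, hk, add_pow_char_pow_of_commute p 2 (Commute.one_right M), h4,
      one_pow, zero_add]
    rfl
  have hle := roots_pgroup_le R (P := U0) (fun k hk => hk.1) hP (z := z) ⟨w, c, hw, hww, hc, hskew, hR⟩ hz0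
  have hhN := R.moves h hhX z ⟨w, c, hw, hww, hc, hskew, hR⟩ (hle hh0)
  have := mul_mem (show kr A B ∈ Kr (Fin 2) (Fin 3) F from ⟨A, B, rfl⟩) hhN.2
  rwa [hh, mul_inv_cancel_left] at this

end TwoThree

end Cfsg.Agent.Classical.TensorMax.Form
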