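/-
A transvection with singular pure centre generates everything.
-/
import Cfsg.Agent.Lib.Classical.TensorMax.Form.UCentre

set_option autoImplicit false
set_option linter.unusedSectionVars false

namespace Cfsg.Agent.Classical.TensorMax.Form

open Matrix Module Cfsg.Geo
open Cfsg.Agent.Classical

variable {α β : Type} [Fintype α] [DecidableEq α] [Fintype β] [DecidableEq β] {F : Type*} [Field F] [Fintype F]
variable {q : ℕ} {σ : F ≃+* F} {fA : (α → F) → (α → F) → F} {fB : (β → F) → (β → F) → F}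
variable {X : Subgroup (GL (α × β) F)}

local notation:max g:max " ⬝ₘ " x:max => ((g : GL (α × β) F) : Matrix (α × β) (α × β) F) *ᵥ x
local notation "Φ" => tf σ fA fB

/-- All transvections with the given centre lie in the group. -/
def HasT (σ : F ≃+* F) (fA : (α → F) → (α → F) → F) (fB : (β → F) → (β → F) → F)
    (X : Subgroup (GL (α × β) F)) (p : α × β → F) : Prop :=
  ∀ (c : F) (g : GL (α × β) F), c + σ c = 0 →
    (∀ x, (g : Matrix (α × β) (α × β) F) *ᵥ x = x + (c * tf σ fA fB x p) • p) → g ∈ X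

variable (UA : UForm q σ fA) (UB : UForm q σ fB) (H : UOver σ fA fB X)

include UA UB H

theorem uform_tf : UForm q σ (tf σ fA fB) :=
  ⟨UA.sig, by simpa using reflex (data UA UB H)⟩

theorem exists_trans {p : α × β → F} (hp : Φ p p = 0) {c : F} (hc : c + σ c = 0) :
    ∃ g : GL (α × β) F, ∀ x, g ⬝ₘ x = x + (c * Φ x p) • p := by
  have UV := uform_tf UA UB H
  by_cases hne : Nonempty (α × β)
  swap
  · exact ⟨1, fun x => funext fun i => absurd ⟨i⟩ hne⟩
  obtain ⟨g, -, -, hgx⟩ := Radical.exists_UF UV.refl hp (UV.refl.zero_left p) (c := c)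
    (by rw [UV.refl.zero_left, one_mul, hc, add_zero])
  exact ⟨g, fun x => by rw [hgx, smul_zero, add_zero, UV.refl.zero_right, mul_zero, sub_zero]⟩

theorem hasT_zero : HasT σ fA fB X 0 := fun _ g _ hg => by
  rw [show g = 1 from gl_ext_mulVec fun x => by simp [hg]]
  exact one_mem X

theorem hasT_map {g : GL (α × β) F} (hg : g ∈ X) {p : α × β → F} (hp : HasT σ fA fB X p) :
    HasT σ fA fB X (g ⬝ₘ p) := fun c T hc hT => by
  have h := hp c (g⁻¹ * T * g) hc fun x => by
    rw [gl_mul_mulVec, gl_mul_mulVec, hT, H.iso g hg, Matrix.mulVec_add, Matrix.mulVec_smul, gl_inv_mulVec_cancel,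
      gl_inv_mulVec_cancel]
  have := mul_mem (mul_mem hg h) (inv_mem hg)
  rwa [show g * (g⁻¹ * T * g) * g⁻¹ = T by group] at this

theorem hasT_smul {p : α × β → F} (hp : HasT σ fA fB X p) (r : F) : HasT σ fA fB X (r • p) := fun c T hc hT => by
  refine hp (c * (σ r * r)) T ?_ fun x => ?_
  · rw [map_mul, map_mul, UA.sig.involutive]
    linear_combination (σ r * r) * hc
  · rw [hT, (tf_semi (data UA UB H)).smul_right, smul_smul]
    congr 2
    ring

theorem hasT_join {p r : α × β → F} (hp : HasT σ fA fB X p) (hr : HasT σ fA fB X r) (hpp : Φ p p = 0)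
    (hrr : Φ r r = 0) (hne : Φ p r ≠ 0) {s : F} (hs : Φ (p + s • r) (p + s • r) = 0) :
    HasT σ fA fB X (p + s • r) := by
  have UV := uform_tf UA UB H
  rw [UV.expand, hpp, hrr, ← UV.herm p r] at hs
  have hne' : σ (Φ p r) ≠ 0 := (map_ne_zero σ).mpr hne
  have hc : s / Φ p r + σ (s / Φ p r) = 0 := by
    rw [map_div₀]
    field_simp
    rw [map_mul, UA.sig.involutive] at hs
    linear_combination hs
  obtain ⟨g, hg⟩ := exists_trans UA UB H hrr hc
  have e : g ⬝ₘ p = p + s • r := by rw [hg, div_mul_cancel₀ _ hne]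
  exact e ▸ hasT_map UA UB H (hr _ g hc hg) hp

/-- The seed gives all singular pure tensors of singular vectors. -/
theorem hasT_iso_iso (hS : Seed fA fB X) {u : α → F} {o : β → F} (huu : fA u u = 0) (hoo : fB o o = 0) :
    HasT σ fA fB X (tm u o) := by
  have D := data UA UB H
  rcases eq_or_ne u 0 with hu | hu
  · rw [hu, tm_zero_left]; exact hasT_zero UA UB H
  rcases eq_or_ne o 0 with ho | ho
  · rw [ho, tm_zero_right]; exact hasT_zero UA UB H
  obtain ⟨o₁, u₁, k, ho₁, hoo₁, hu₁, huu₁, hk, hC⟩ := hS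
  obtain ⟨M, hM⟩ := cen_linear UA UB H ho₁ hC
  have hk' : k + σ k = 0 := by
    obtain ⟨v, hv⟩ := UA.exists_pair_one hu₁
    have := cen_skew UA UB H ho₁ hoo₁ hC v v
    rw [UA.refl.semi.smul_left, UA.refl.semi.smul_right, hv, mul_one, ← UA.herm v u₁, hv, map_one, mul_one,
      mul_one] at this
    exact this
  have h1 : HasT σ fA fB X (tm u₁ o₁) := fun c T hc hT => by
    have hθ : σ (c / k) = c / k := by
      rw [map_div₀, show σ c = -c by linear_combination hc, show σ k = -k by linear_combination hk', neg_div_neg_eq]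
    obtain ⟨g, hg, hgx⟩ := cen_scale UA UB H ho₁ hoo₁ hC hθ
    rwa [show T = g from gl_ext_mulVec fun x => by
      rw [hT, hgx, tf_tm_right D]
      simp only [tm_smul_left, smul_smul]
      congr 2
      field_simp]
  obtain ⟨a, ha, haiso, l, hl, hau⟩ := UA.move hu₁ huu₁ hu huu
  obtain ⟨t, ht, htiso, l', hl', hto⟩ := UB.move ho₁ hoo₁ ho hoo
  have h2 := hasT_smul UA UB H (hasT_map UA UB H (H.full a t haiso htiso ha ht) h1) (l * l')⁻¹
  rwa [kr_tm, hau, hto, tm_smul_left, tm_smul_right, smul_smul, smul_smul,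
    mul_assoc, inv_mul_cancel₀ (mul_ne_zero hl hl'), one_smul] at h2

variable (hS : Seed fA fB X) (h5 : 3 ≤ Fintype.card β)

include hS h5

/-- Singular pure tensors with singular left factor. -/
theorem hasT_left {u : α → F} (huu : fA u u = 0) (b : β → F) : HasT σ fA fB X (tm u b) := by
  have D := data UA UB H
  have UV := uform_tf UA UB H
  rcases eq_or_ne u 0 with hu | hu
  · rw [hu, tm_zero_left]; exact hasT_zero UA UB H
  by_cases hbb : fB b b = 0
  · exact hasT_iso_iso UA UB H hS huu hbb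
  obtain ⟨v, hvv, hvu, huv⟩ := UA.exists_partner hu huu
  -- an isotropic vector with product one against `b`
  obtain ⟨o', hoo', hbo'⟩ : ∃ o', fB o' o' = 0 ∧ fB b o' = 1 := by
    obtain ⟨w, hw, hne⟩ : ∃ w, fB w w = 0 ∧ fB b w ≠ 0 := by
      by_contra hcon
      push Not at hcon
      have hb : b ∈ Submodule.span F {v : β → F | fB v v = 0} := by rw [UB.spanned (by omega)]; trivial
      have hle : Submodule.span F {v : β → F | fB v v = 0} ≤ UB.refl.perp (Submodule.span F {b}) :=
        Submodule.span_le.mpr fun w hw x hx => by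
          obtain ⟨r, rfl⟩ := Submodule.mem_span_singleton.mp hx
          rw [UB.refl.semi.smul_right, UB.refl.eq_zero_swap (hcon w hw), mul_zero]
      exact hbb (hle hb b (Submodule.mem_span_singleton_self b))
    refine ⟨σ (fB b w)⁻¹ • w, ?_, ?_⟩
    · rw [UB.refl.semi.smul_left, UB.refl.semi.smul_right, hw, mul_zero, mul_zero]
    · rw [UB.refl.semi.smul_right, UB.sig.involutive, inv_mul_cancel₀ hne]
  have ho'0 : o' ≠ 0 := fun e => one_ne_zero (hbo'.symm.trans (by rw [e, UB.refl.zero_right]))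
  -- three isotropic summands
  obtain ⟨o₃, h33, h3, -, hbar⟩ : ∃ o₃, fB o₃ o₃ = 0 ∧ fB o₃ o' = 1 ∧ fB o' o₃ = 1 ∧
      b - o₃ ∉ Submodule.span F {o'} := by
    obtain ⟨z, hzz, hzo, hoz⟩ := UB.exists_partner ho'0 hoo'
    by_cases hmem : b - z ∈ Submodule.span F {o'}
    swap
    · exact ⟨z, hzz, hzo, hoz, hmem⟩
    obtain ⟨W, hW, hWs⟩ := UB.exists_perp ![o', z]
    obtain ⟨y, hy, hyne⟩ := W.exists_mem_ne_zero_of_ne_bot fun e => by rw [e, finrank_bot] at hW; omega
    have hy0 : fB y o' = 0 := hWs y hy 0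
    have hyz : fB y z = 0 := hWs y hy 1
    obtain ⟨X', hX'⟩ := UB.exists_trace (b := -fB y y) (by rw [map_neg, UB.fixed])
    have hyo : y ∉ Submodule.span F {o'} := fun e => by
      obtain ⟨r, rfl⟩ := Submodule.mem_span_singleton.mp e
      rw [UB.refl.semi.smul_left, hoz, mul_one] at hyz
      exact hyne (by rw [hyz, zero_smul])
    refine ⟨z + (1 : F) • y + X' • o', ?_, ?_, ?_, fun h => hyo ?_⟩
    · rw [UB.expand, UB.expand, hzz, hyz, hoo', UB.refl.semi.add_right, UB.refl.semi.smul_right,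
        UB.refl.eq_zero_swap hy0, hoz]
      simp only [map_one, map_zero, mul_zero, mul_one, one_mul, zero_add, add_zero]
      linear_combination hX'
    · simp only [UB.refl.semi.add_left, UB.refl.semi.smul_left, hy0, hoo', hzo, mul_zero, add_zero]
    · simp only [UB.refl.semi.add_right, UB.refl.semi.smul_right, UB.refl.eq_zero_swap hy0, hoo', hoz, mul_zero,
        add_zero]
    · have h' := sub_mem (sub_mem hmem h) (Submodule.smul_mem _ X' (Submodule.mem_span_singleton_self o'))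
      rw [one_smul] at h'
      have e : b - z - (b - (z + y + X' • o')) - X' • o' = y := by abel
      rwa [e] at h'
  obtain ⟨b', hb'⟩ : ∃ b', b' = b - o₃ := ⟨_, rfl⟩
  have hb'o : fB b' o' = 0 := by
    rw [hb', sub_eq_add_neg, UB.refl.semi.add_left, UB.refl.neg_left, hbo', h3, add_neg_cancel]
  rw [← hb'] at hbar
  obtain ⟨o₁, h11, h1, h12⟩ : ∃ o₁, fB o₁ o₁ = 0 ∧ fB o₁ o' = 1 ∧
      fB b' o₁ + fB o₁ b' = fB b' b' := by
    obtain ⟨τ, hτ⟩ := UB.exists_trace (UB.fixed b')
    obtain ⟨z, hzo, hzb⟩ := UB.exists_products hbar ho'0 1 τ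
    obtain ⟨X', hX'⟩ := UB.exists_trace (b := -fB z z) (by rw [map_neg, UB.fixed])
    refine ⟨z + X' • o', ?_, ?_, ?_⟩
    · rw [UB.expand, hoo', mul_zero, add_zero, ← UB.herm z o', hzo, map_one, mul_one]
      linear_combination hX'
    · rw [UB.refl.semi.add_left, UB.refl.semi.smul_left, hoo', mul_zero, add_zero, hzo]
    · rw [UB.refl.semi.add_left, UB.refl.semi.add_right, UB.refl.semi.smul_left, UB.refl.semi.smul_right, hb'o,
        UB.refl.eq_zero_swap hb'o, mul_zero, mul_zero, add_zero, add_zero, ← UB.herm z b', hzb, add_comm, hτ]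
  obtain ⟨o₂, ho₂⟩ : ∃ o₂, o₂ = b' - o₁ := ⟨_, rfl⟩
  have h22 : fB o₂ o₂ = 0 := by
    rw [ho₂, sub_eq_add_neg, UB.refl.semi.add_left, UB.refl.semi.add_right, UB.refl.semi.add_right, UB.refl.neg_left,
      UB.refl.neg_left, ← neg_one_smul F o₁, UB.refl.semi.smul_right, UB.refl.semi.smul_right, map_neg, map_one, h11]
    linear_combination -h12
  have h2 : fB o₂ o' = -1 := by
    rw [ho₂, sub_eq_add_neg, UB.refl.semi.add_left, UB.refl.neg_left, hb'o, h1, zero_add]
  obtain ⟨s, hs0, hs⟩ := UA.sig.exists_skew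
  have hP : ∀ o, fB o o = 0 → HasT σ fA fB X (tm u o) := fun o ho => hasT_iso_iso UA UB H hS huu ho
  have hPv : HasT σ fA fB X (tm v o') := hasT_iso_iso UA UB H hS hvv hoo'
  have hiso : ∀ w : β → F, σ (fB w o') = fB w o' →
      Φ (tm u w + s • tm v o') (tm u w + s • tm v o') = 0 := fun w h => by
    rw [UV.expand, tf_tm D, tf_tm D, tf_tm D, huu, hvv, hoo', hvu, one_mul, zero_mul, zero_mul, mul_zero, zero_add,
      add_zero, ← UB.herm w o', h, map_mul, h, show σ s = -s by linear_combination hs]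
    ring
  have hstep : ∀ (w o : β → F), fB o o = 0 → fB o o' ≠ 0 →
      HasT σ fA fB X (tm u w + s • tm v o') → Φ (tm u w + s • tm v o') (tm u w + s • tm v o') = 0 →
      Φ (tm u (w + o) + s • tm v o') (tm u (w + o) + s • tm v o') = 0 →
      HasT σ fA fB X (tm u (w + o) + s • tm v o') := fun w o hoo ho' hw hww hw' => by
    have e : tm u (w + o) + s • tm v o' = (tm u w + s • tm v o') + (1 : F) • tm u o := by
      rw [tm_add_right, one_smul]; abel
    rw [e] at hw' ⊢
    refine hasT_join UA UB H hw (hP o hoo) hww (by rw [tf_tm D, huu, zero_mul]) ?_ hw'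
    rw [(tf_semi D).add_left, (tf_semi D).smul_left, tf_tm D, tf_tm D, huu, hvu, zero_mul, zero_add, one_mul]
    exact mul_ne_zero hs0 fun e => ho' (UB.refl.eq_zero_swap e)
  have i1 := hiso o₁ (by rw [h1, map_one])
  have p1 : HasT σ fA fB X (tm u o₁ + s • tm v o') := hasT_join UA UB H (hP o₁ h11) hPv (by rw [tf_tm D, huu, zero_mul])
    (by rw [tf_tm D, hvv, zero_mul]) (by rw [tf_tm D, huv, h1, one_mul]; exact one_ne_zero) i1
  have hb'' : b' = o₁ + o₂ := by rw [ho₂, add_sub_cancel]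
  have i2 := hiso (o₁ + o₂) (by rw [← hb'', hb'o, map_zero])
  have p2 := hstep o₁ o₂ h22 (by rw [h2]; exact neg_ne_zero.mpr one_ne_zero) p1 i1 i2
  have hb3 : b = o₁ + o₂ + o₃ := by rw [← hb'', hb', sub_add_cancel]
  have i3 := hiso (o₁ + o₂ + o₃) (by rw [← hb3, hbo', map_one])
  have p3 := hstep (o₁ + o₂) o₃ h33 (by rw [h3]; exact one_ne_zero) p2 i2 i3
  rw [← hb3] at p3 i3
  have hfin : tm u b = (tm u b + s • tm v o') + (-s) • tm v o' := by rw [neg_smul]; abel
  rw [hfin]
  refine hasT_join UA UB H p3 hPv i3 (by rw [tf_tm D, hvv, zero_mul]) ?_ (by rw [← hfin, tf_tm D, huu, zero_mul])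
  rw [(tf_semi D).add_left, (tf_semi D).smul_left, tf_tm D, tf_tm D, hvv, huv, hbo', zero_mul, mul_zero, add_zero,
    one_mul]
  exact one_ne_zero

/-- Singular vectors in a hyperbolic plane tensored with the second factor. -/
theorem hasT_plane {u v : α → F} (huu : fA u u = 0) (hvv : fA v v = 0) (huv : fA u v = 1) {p r : β → F}
    (hd : Φ (tm u p + tm v r) (tm u p + tm v r) = 0) : HasT σ fA fB X (tm u p + tm v r) := by
  have D := data UA UB H
  have UV := uform_tf UA UB H
  have hvu : fA v u = 1 := by rw [← UA.herm, huv, map_one]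
  rcases eq_or_ne r 0 with hr | hr
  · rw [hr, tm_zero_right, add_zero]; exact hasT_left UA UB H hS h5 huu p
  have hexp : ∀ p', Φ (tm u p' + tm v r) (tm u p' + tm v r) = fB p' r + fB r p' := fun p' => by
    rw [(tf_semi D).add_left, (tf_semi D).add_right, (tf_semi D).add_right, tf_tm D, tf_tm D, tf_tm D, tf_tm D, huu,
      hvv, huv, hvu]
    ring
  have hdirect : ∀ p', Φ (tm u p' + tm v r) (tm u p' + tm v r) = 0 → fB p' r ≠ 0 →
      HasT σ fA fB X (tm u p' + tm v r) := fun p' h hne => by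
    have h' := h
    rw [show tm u p' + tm v r = tm u p' + (1 : F) • tm v r by rw [one_smul]] at h' ⊢
    exact hasT_join UA UB H (hasT_left UA UB H hS h5 huu p') (hasT_left UA UB H hS h5 hvv r)
      (by rw [tf_tm D, huu, zero_mul]) (by rw [tf_tm D, hvv, zero_mul]) (by rwa [tf_tm D, huv, one_mul]) h'
  by_cases hpr : fB p r = 0
  swap
  · exact hdirect p hd hpr
  obtain ⟨p', hp'⟩ := (UB.refl.nondeg r hr).2
  obtain ⟨c, hc0, hc⟩ := UA.sig.exists_skew
  obtain ⟨g, hg⟩ := exists_trans UA UB H (p := tm u p') (by rw [tf_tm D, huu, zero_mul]) hc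
  have hgX : g ∈ X := hasT_left UA UB H hS h5 huu p' c g hc hg
  obtain ⟨p₁, hp₁⟩ : ∃ p₁, p₁ = p + (c * fB r p') • p' := ⟨_, rfl⟩
  have e : g ⬝ₘ (tm u p + tm v r) = tm u p₁ + tm v r := by
    rw [hg, (tf_semi D).add_left, tf_tm D, tf_tm D, huu, hvu, zero_mul, zero_add, one_mul, hp₁, tm_add_right,
      tm_smul_right]
    abel
  have h1 : Φ (tm u p₁ + tm v r) (tm u p₁ + tm v r) = 0 := by rw [← e, H.iso g hgX, hd]
  have h2 := hdirect p₁ h1 (by
    rw [hp₁, UB.refl.semi.add_left, UB.refl.semi.smul_left, hpr, zero_add, ← UB.herm r p']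
    exact mul_ne_zero (mul_ne_zero hc0 hp') ((map_ne_zero σ).mpr hp'))
  have := hasT_map UA UB H (inv_mem hgX) h2
  rwa [← e, gl_inv_mulVec_cancel] at this

theorem hasT_two {a a' : α → F} (haa : fA a a = 1) (ha' : fA a' a' = 1) (h0 : fA a a' = 0) {p r : β → F}
    (hd : Φ (tm a p + tm a' r) (tm a p + tm a' r) = 0) : HasT σ fA fB X (tm a p + tm a' r) := by
  have h0' : fA a' a = 0 := UA.refl.eq_zero_swap h0
  obtain ⟨s, hs0, hs⟩ := UA.sig.norm_surjective (t := (-1 : F)) (neg_ne_zero.mpr one_ne_zero) (by rw [map_neg, map_one])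
  obtain ⟨μ, hμ, hμ1, -, -⟩ := UA.sig.exists_norm_one
  have hiso : ∀ m : F, m * σ m = 1 → fA (a + (m * s) • a') (a + (m * s) • a') = 0 := fun m hm => by
    rw [UA.expand, haa, ha', h0']
    simp only [mul_zero, map_zero, add_zero, mul_one, map_mul]
    linear_combination (s * σ s) * hm + hs
  obtain ⟨u, hu⟩ : ∃ u, u = a + s • a' := ⟨_, rfl⟩
  have huu : fA u u = 0 := by
    have := hiso 1 (by rw [one_mul, map_one])
    rwa [one_mul, ← hu] at this
  have hμ1' : 1 - μ ≠ 0 := sub_ne_zero.mpr (Ne.symm hμ1)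
  have hvu : fA (a + (μ * s) • a') u = 1 - μ := by
    rw [hu, UA.refl.semi.add_left, UA.refl.semi.add_right, UA.refl.semi.add_right, UA.refl.semi.smul_left,
      UA.refl.semi.smul_left, UA.refl.semi.smul_right, UA.refl.semi.smul_right, haa, ha', h0, h0']
    linear_combination μ * hs
  obtain ⟨k, hk⟩ : ∃ k, k = (1 - μ)⁻¹ := ⟨_, rfl⟩
  have hk0 : k ≠ 0 := hk ▸ inv_ne_zero hμ1'
  obtain ⟨v, hv⟩ : ∃ v, v = k • (a + (μ * s) • a') := ⟨_, rfl⟩
  have hvv : fA v v = 0 := by rw [hv, UA.refl.semi.smul_left, UA.refl.semi.smul_right, hiso μ hμ, mul_zero, mul_zero]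
  have huv : fA u v = 1 := by
    rw [← UA.herm, hv, UA.refl.semi.smul_left, hvu, hk, inv_mul_cancel₀ hμ1', map_one]
  have ha2 : a' = s⁻¹ • (k • u - v) := by
    rw [hu, hv, show k • (a + s • a') - k • (a + (μ * s) • a') = (k * (1 - μ) * s) • a' by module, smul_smul, hk,
      inv_mul_cancel₀ hμ1', one_mul, inv_mul_cancel₀ hs0, one_smul]
  have ha1 : a = (1 - k) • u + v := by
    have : a = u - s • a' := by rw [hu, add_sub_cancel_right]
    rw [this, ha2, smul_smul, mul_inv_cancel₀ hs0]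
    module
  have e : tm a p + tm a' r = tm u ((1 - k) • p + (s⁻¹ * k) • r) + tm v (p - s⁻¹ • r) := by
    rw [ha1, ha2]
    simp only [tm_add_left, tm_sub_left, tm_smul_left, tm_add_right, tm_sub_right, tm_smul_right, smul_sub, smul_smul]
    module
  rw [e] at hd ⊢
  exact hasT_plane UA UB H hS h5 huu hvv huv hd

/-- All singular vectors are centres. -/
theorem hasT_all {k : ℕ} (hk : 2 ≤ k) (e : Fin k → (α → F)) (he : ∀ i j, fA (e i) (e j) = if i = j then 1 else 0)
    (hspan : ∀ x : α × β → F, ∃ b : Fin k → (β → F), x = ∑ i, tm (e i) (b i)) {x : α × β → F} (hx : Φ x x = 0) :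
    HasT σ fA fB X x := by
  classical
  have D := data UA UB H
  have UV := uform_tf UA UB H
  have hne : ∀ {i j}, i ≠ j → fA (e i) (e j) = 0 := fun h => by rw [he, if_neg h]
  suffices key : ∀ (n : ℕ) (S : Finset (Fin k)) (b : Fin k → β → F), S.card ≤ n →
      Φ (∑ i ∈ S, tm (e i) (b i)) (∑ i ∈ S, tm (e i) (b i)) = 0 → HasT σ fA fB X (∑ i ∈ S, tm (e i) (b i)) by
    obtain ⟨b, rfl⟩ := hspan x
    exact key _ Finset.univ b le_rfl hx
  intro n
  induction n with
  | zero =>
    intro S b hS' _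
    rw [Finset.card_eq_zero.mp (Nat.le_zero.mp hS'), Finset.sum_empty]
    exact hasT_zero UA UB H
  | succ n ih =>
    intro S b hS' hiso
    by_cases hn : S.card ≤ n
    · exact ih S b hn hiso
    have hpos : 0 < S.card := by omega
    obtain ⟨i, hi⟩ := Finset.card_pos.mp hpos
    have hone : ∀ (a : Fin k) (p : β → F), Φ (tm (e a) p) (tm (e a) p) = 0 → HasT σ fA fB X (tm (e a) p) := by
      intro a p hp
      obtain ⟨j, hj⟩ : ∃ j, j ≠ a := by
        haveI : Nontrivial (Fin k) := Fin.nontrivial_iff_two_le.mpr hk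
        exact exists_ne a
      have := hasT_two UA UB H hS h5 (p := p) (r := 0) ((he a a).trans (if_pos rfl)) ((he j j).trans (if_pos rfl))
        (hne (Ne.symm hj)) (by rwa [tm_zero_right, add_zero])
      rwa [tm_zero_right, add_zero] at this
    by_cases hsingle : S = {i}
    · subst hsingle
      rw [Finset.sum_singleton] at hiso ⊢
      exact hone i _ hiso
    obtain ⟨j, hj, hji⟩ : ∃ j ∈ S, j ≠ i := by
      by_contra hcon
      push Not at hcon
      exact hsingle (Finset.eq_singleton_iff_unique_mem.mpr ⟨hi, hcon⟩)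
    -- the part outside the two indices
    obtain ⟨rest, hrest⟩ : ∃ rest, rest = ∑ a ∈ (S.erase i).erase j, tm (e a) (b a) := ⟨_, rfl⟩
    have hsplit : ∑ a ∈ S, tm (e a) (b a) = tm (e i) (b i) + tm (e j) (b j) + rest := by
      rw [← Finset.add_sum_erase _ _ hi, ← Finset.add_sum_erase _ _ (Finset.mem_erase.mpr ⟨hji, hj⟩), hrest, add_assoc]
    have horth : ∀ a, a = i ∨ a = j → ∀ w : β → F, Φ rest (tm (e a) w) = 0 := fun a ha w => by
      rw [hrest, UV.refl.sum_left]
      refine Finset.sum_eq_zero fun l hl => ?_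
      simp only [Finset.mem_erase] at hl
      rw [tf_tm D, hne (by rintro rfl; rcases ha with rfl | rfl; exact hl.2.1 rfl; exact hl.1 rfl), zero_mul]
    by_cases hbi : b i = 0
    · have e0 : ∑ a ∈ S, tm (e a) (b a) = ∑ a ∈ S.erase i, tm (e a) (b a) := by
        rw [← Finset.add_sum_erase _ _ hi, hbi, tm_zero_right, zero_add]
      rw [e0] at hiso ⊢
      exact ih _ b (by rw [Finset.card_erase_of_mem hi]; omega) hiso
    -- merge the two components
    obtain ⟨m, hm⟩ : ∃ m, m = fB (b i) (b i) + fB (b j) (b j) := ⟨_, rfl⟩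
    have hmσ : σ m = m := by rw [hm, map_add, UB.fixed, UB.fixed]
    obtain ⟨δ, hδ0, hδ⟩ := UB.sig.exists_skew
    obtain ⟨z, hz⟩ : ∃ z, fB (b i) z = m + δ := by
      obtain ⟨w, hw⟩ := (UB.refl.nondeg _ hbi).2
      exact ⟨σ ((m + δ) / fB (b i) w) • w, by rw [UB.refl.semi.smul_right, UB.sig.involutive, div_mul_cancel₀ _ hw]⟩
    obtain ⟨W, hW, hWs⟩ := UB.exists_perp (k := 1) fun _ => b i
    obtain ⟨y, hy, hyy⟩ := UB.exists_aniso (W := W) (by omega)
    obtain ⟨s, hs⟩ := UB.fix_norm hyy z hmσ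
    obtain ⟨b', hb'⟩ : ∃ b', b' = z + s • y := ⟨_, rfl⟩
    rw [← hb'] at hs
    have hbb' : fB (b i) b' = m + δ := by
      rw [hb', UB.refl.semi.add_right, UB.refl.semi.smul_right, UB.refl.eq_zero_swap (hWs y hy 0), mul_zero, add_zero, hz]
    obtain ⟨d, hd⟩ : ∃ d, d = tm (e i) (b' - b i) + tm (e j) (-b j) := ⟨_, rfl⟩
    have hfi : ∀ p r, Φ (tm (e i) p + tm (e j) r) d = fB p b' - fB p (b i) - fB r (b j) := fun p r => by
      rw [hd, (tf_semi D).add_left, (tf_semi D).add_right, (tf_semi D).add_right, tf_tm D, tf_tm D, tf_tm D, tf_tm D,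
        he, he, he, he, if_pos rfl, if_pos rfl, if_neg (Ne.symm hji), if_neg hji, sub_eq_add_neg b',
        UB.refl.semi.add_right, ← neg_one_smul F (b i), ← neg_one_smul F (b j), UB.refl.semi.smul_right,
        UB.refl.semi.smul_right, map_neg, map_one]
      simp only [UB.refl.semi.smul_right, map_neg, map_one]
      ring
    have hdd : Φ d d = 0 := by
      have := hfi (b' - b i) (-b j)
      rw [← hd] at this
      rw [this, sub_eq_add_neg b', UB.refl.semi.add_left, UB.refl.semi.add_left, UB.refl.neg_left, UB.refl.neg_left,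
        UB.refl.neg_left, hs, hbb', ← UB.herm (b i) b', hbb', map_add, hmσ]
      linear_combination -hδ - hm
    have hxd : Φ (tm (e i) (b i) + tm (e j) (b j) + rest) d = δ := by
      rw [(tf_semi D).add_left, hfi, hd, (tf_semi D).add_right, horth i (Or.inl rfl), horth j (Or.inr rfl), hbb']
      linear_combination hm
    have hc : δ⁻¹ + σ δ⁻¹ = 0 := by rw [map_inv₀, show σ δ = -δ by linear_combination hδ, inv_neg, add_neg_cancel]
    obtain ⟨g, hg⟩ := exists_trans UA UB H hdd hc
    have hdT : HasT σ fA fB X d := by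
      rw [hd] at hdd ⊢
      exact hasT_two UA UB H hS h5 ((he i i).trans (if_pos rfl)) ((he j j).trans (if_pos rfl)) (hne (Ne.symm hji)) hdd
    have hgX : g ∈ X := hdT δ⁻¹ g hc hg
    have e1 : g ⬝ₘ (∑ a ∈ S, tm (e a) (b a)) = ∑ a ∈ S.erase j, tm (e a) (Function.update b i b' a) := by
      rw [hg, hsplit, hxd, inv_mul_cancel₀ hδ0, one_smul,
        ← Finset.add_sum_erase _ _ (Finset.mem_erase.mpr ⟨Ne.symm hji, hi⟩), Function.update_self, Finset.erase_right_comm,
        Finset.sum_congr rfl fun a ha => show tm (e a) (Function.update b i b' a) = tm (e a) (b a) by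
          rw [Function.update_of_ne (Finset.mem_erase.mp (Finset.mem_erase.mp ha).2).1],
        ← hrest, hd, tm_sub_right, show (-b j) = (-1 : F) • b j by rw [neg_one_smul], tm_smul_right, neg_one_smul]
      abel
    have := hasT_map UA UB H (inv_mem hgX) (ih (S.erase j) (Function.update b i b')
      (by rw [Finset.card_erase_of_mem hj]; omega) (by rw [← e1, H.iso g hgX, hiso]))
    rwa [← e1, gl_inv_mulVec_cancel] at this

end Cfsg.Agent.Classical.TensorMax.Form
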