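/-
Two alternating forms: a non-scalar slot gives all Siegel elements of the orthogonal space.
-/
import Cfsg.Agent.Lib.Classical.TensorMax.Form.OSlot
import Cfsg.Agent.Lib.Classical.OrthNotMax

set_option autoImplicit false
set_option linter.unusedSectionVars false

namespace Cfsg.Agent.Classical.TensorMax.Form

open Matrix Module Cfsg.Geo
open Cfsg.Agent.Classical

variable {α β : Type} [Fintype α] [DecidableEq α] [Fintype β] [DecidableEq β] {F : Type*} [Field F] [Fintype F]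
variable {fA : (α → F) → (α → F) → F} {fB : (β → F) → (β → F) → F}
variable {Q : QuadraticForm F (α × β → F)} {X : Subgroup (GL (α × β) F)}

local notation:max g:max " ⬝ₘ " x:max => ((g : GL (α × β) F) : Matrix (α × β) (α × β) F) *ᵥ x
local notation "⟪" x ", " y "⟫" => QuadraticMap.polar (DFunLike.coe Q) x y

/-- The Siegel element with centre `p` and parameter `y` lies in the group. -/
def Param (Q : QuadraticForm F (α × β → F)) (X : Subgroup (GL (α × β) F)) (p y : α × β → F) : Prop :=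
  ∃ g ∈ X, ∀ x, (g : Matrix (α × β) (α × β) F) *ᵥ x = x + QuadraticMap.polar (⇑Q) p x • y -
    (QuadraticMap.polar (⇑Q) y x + Q y * QuadraticMap.polar (⇑Q) p x) • p

variable (C : OCtx fA fB Q X) (h2 : 2 ≤ Fintype.card α)

include C h2

theorem OCtx.pnd : OCount.PND Q := fun v hv => by
  by_contra hne
  obtain ⟨w, hw⟩ := (tf_nondeg C.data v hne).2
  exact hw (by rw [← C.pol, hv])

theorem OCtx.exists_E {p y : α × β → F} (hp : Q p = 0) (hy : ⟪p, y⟫ = 0) :
    ∃ g : GL (α × β) F, ∀ x, g ⬝ₘ x = x + ⟪p, x⟫ • y - (⟪y, x⟫ + Q y * ⟪p, x⟫) • p := by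
  obtain ⟨g, -, hg⟩ := ONotMax.exists_siegel (C.pnd h2) (by
    rw [Fintype.card_prod]
    have := C.six
    have := Nat.mul_le_mul h2 C.six
    omega) hp hy
  exact ⟨g, hg⟩

theorem OCtx.self_zero {p : α × β → F} (hp : Q p = 0) : ⟪p, p⟫ = 0 := by
  rw [QuadraticMap.polar_self, hp, smul_zero]

theorem param_zero {p : α × β → F} : Param Q X p 0 :=
  ⟨1, one_mem X, fun x => by simp [QuadraticMap.polar_zero_left]⟩

theorem param_zero' {y : α × β → F} : Param Q X 0 y :=
  ⟨1, one_mem X, fun x => by simp [QuadraticMap.polar_zero_left]⟩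

theorem param_add {p y y' : α × β → F} (hp : Q p = 0) (hy : ⟪p, y⟫ = 0) (hy' : ⟪p, y'⟫ = 0)
    (h : Param Q X p y) (h' : Param Q X p y') : Param Q X p (y + y') := by
  obtain ⟨g, hg, hgx⟩ := h
  obtain ⟨g', hg', hgx'⟩ := h'
  refine ⟨g * g', mul_mem hg hg', fun x => ?_⟩
  have e1 : ⟪y, p⟫ = 0 := by rw [QuadraticMap.polar_comm]; exact hy
  rw [gl_mul_mulVec, hgx, hgx']
  simp only [QuadraticMap.polar_sub_right, QuadraticMap.polar_add_right, QuadraticMap.polar_smul_right,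
    QuadraticMap.polar_add_left, smul_eq_mul, C.self_zero h2 hp, hy', e1, QuadraticMap.map_add ⇑Q y y']
  module

theorem param_smul {p y : α × β → F} {l : F} (h : Param Q X p (l • y)) : Param Q X (l • p) y := by
  obtain ⟨g, hg, hgx⟩ := h
  refine ⟨g, hg, fun x => ?_⟩
  rw [hgx, QuadraticMap.polar_smul_left, QuadraticMap.polar_smul_left, QuadraticMap.map_smul]
  simp only [smul_eq_mul]
  module

theorem param_conj {g : GL (α × β) F} (hg : g ∈ X) {p y : α × β → F} (h : Param Q X p y) :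
    Param Q X (g ⬝ₘ p) (g ⬝ₘ y) := by
  obtain ⟨k, hk, hkx⟩ := h
  have hiso : ∀ u v, ⟪g ⬝ₘ u, g ⬝ₘ v⟫ = ⟪u, v⟫ := fun u v => by rw [C.pol, C.pol, C.iso_tf hg]
  refine ⟨g * k * g⁻¹, mul_mem (mul_mem hg hk) (inv_mem hg), fun x => ?_⟩
  obtain ⟨z, rfl⟩ : ∃ z, x = g ⬝ₘ z := ⟨_, (gl_mulVec_inv_cancel g x).symm⟩
  rw [gl_mul_mulVec, gl_mul_mulVec, gl_inv_mulVec_cancel, hkx, hiso, hiso, C.iso g hg]
  simp only [Matrix.mulVec_sub, Matrix.mulVec_add, Matrix.mulVec_smul]

/-- Two parameters with one non-zero product give a third. -/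
theorem param_chain {p r r' s : α × β → F} (hp : Q p = 0) (hr : Q r = 0) (hr' : Q r' = 0) (hs : Q s = 0)
    (hpr : ⟪p, r⟫ = 0) (hrs' : ⟪r', s⟫ = 0) (hpr' : ⟪p, r'⟫ = 0) (hps : ⟪p, s⟫ = 0) (hrs : ⟪r, s⟫ = 0)
    (hrr : ⟪r, r'⟫ = 1) (h : Param Q X p r) (h' : Param Q X r' s) : Param Q X p s := by
  obtain ⟨g, hg, hgx⟩ := h
  obtain ⟨k, hk, hkx⟩ := h'
  obtain ⟨E, hE⟩ := C.exists_E h2 hp hps
  refine ⟨E, ?_, hE⟩
  have key : E * (g * k) = k * g := gl_ext_mulVec fun x => by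
    simp only [gl_mul_mulVec, hgx, hkx, hE, hr, hs, zero_mul, add_zero, QuadraticMap.polar_sub_right,
      QuadraticMap.polar_add_right, QuadraticMap.polar_smul_right, smul_eq_mul, C.self_zero h2 hp, C.self_zero h2 hr,
      C.self_zero h2 hr', C.self_zero h2 hs, hpr, hrs', hpr', hps, hrs, hrr,
      show ⟪r, p⟫ = 0 by rw [QuadraticMap.polar_comm]; exact hpr,
      show ⟪s, r'⟫ = 0 by rw [QuadraticMap.polar_comm]; exact hrs',
      show ⟪r', p⟫ = 0 by rw [QuadraticMap.polar_comm]; exact hpr',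
      show ⟪s, p⟫ = 0 by rw [QuadraticMap.polar_comm]; exact hps,
      show ⟪s, r⟫ = 0 by rw [QuadraticMap.polar_comm]; exact hrs,
      show ⟪r', r⟫ = 1 by rw [QuadraticMap.polar_comm]; exact hrr]
    module
  rw [show E = k * g * (g * k)⁻¹ by rw [← key]; group]
  exact mul_mem (mul_mem hk hg) (inv_mem (mul_mem hg hk))

variable (hS : ∀ u v : α → F, InS fA fB X (dyad fA u v))

include hS

/-- Parameters inside a pair of orthogonal fibres. -/
theorem param_A {o z : β → F} (hoz : fB o z = 0) (v u : α → F) : Param Q X (tm v o) (tm u z) := by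
  have D := C.data
  rcases eq_or_ne o 0 with ho | ho
  · rw [ho, tm_zero_right]; exact param_zero' C h2
  have hpy : ∀ u z, fB o z = 0 → ⟪tm v o, tm u z⟫ = 0 := fun u z h => by rw [C.pol, tf_tm D, h, mul_zero]
  have main : ∀ u z, fB o z = 0 → z ∉ Submodule.span F {o} → Param Q X (tm v o) (tm u z) := by
    intro u z hoz hz
    obtain ⟨g, hg, hgx⟩ := hS u v o z ho hoz hz
    obtain ⟨E, hE⟩ := C.exists_E h2 (C.pure v o) (hpy u z hoz)
    refine ⟨E, ?_, hE⟩
    rwa [show E = g from gl_ext_mulVec fun x => ext_pure (M := (E : Matrix (α × β) (α × β) F))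
      (M' := (g : Matrix (α × β) (α × β) F)) (fun a w => by
        have hadj : formAdj (RingEquiv.refl F) fA (dyad fA u v) = (-1 : F) • dyad fA v u :=
          C.a.refl.adj_unique fun x y => by
            rw [dyad_mulVec C.a, Matrix.smul_mulVec, dyad_mulVec C.a, C.a.refl.semi.smul_left, C.a.smul_right,
              C.a.smul_right, C.a.swap u y]
            ring
        rw [hE, hgx, C.pure, C.pol, C.pol, tf_tm D, tf_tm D, hadj, Matrix.smul_mulVec, dyad_mulVec C.a,
          dyad_mulVec C.a, C.a.swap a v, C.a.swap a u, C.b.swap w o, C.b.swap w z, tm_smul_left, tm_smul_left,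
          tm_smul_left]
        module) x]
  by_cases hz : z ∈ Submodule.span F {o}
  · obtain ⟨d, hod, -, hd⟩ := exists_z C.toSCtx (o := o) (z := o)
    rw [Set.pair_eq_singleton] at hd
    have hd' : z + d ∉ Submodule.span F {o} := fun e => hd (by
      have := sub_mem e hz
      rwa [add_sub_cancel_left] at this)
    have hod' : fB o (z + d) = 0 := by rw [C.b.refl.semi.add_right, hoz, hod, add_zero]
    have := param_add C h2 (C.pure v o) (hpy u _ hod') (hpy (-u) _ hod) (main u _ hod' hd') (main (-u) d hod hd)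
    rwa [tm_add_right, show tm (-u) d = -tm u d by rw [← neg_one_smul F u, tm_smul_left, neg_one_smul],
      add_neg_cancel_right] at this
  · exact main u z hoz hz

/-- All pure parameters at pure centres. -/
theorem param_pure {v a : α → F} {o w : β → F} (h : fA v a * fB o w = 0) : Param Q X (tm v o) (tm a w) := by
  have D := C.data
  by_cases how : fB o w = 0
  · exact param_A C h2 hS how v a
  have hva : fA v a = 0 := (mul_eq_zero.mp h).resolve_right how
  obtain ⟨z, hoz, hwz, hz⟩ := exists_z C.toSCtx (o := o) (z := w)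
  obtain ⟨d, hd, hzd, -⟩ := exists_avoid C.b hz hz
  obtain ⟨z', hz'⟩ : ∃ z', z' = (fB z d)⁻¹ • d := ⟨_, rfl⟩
  obtain ⟨i⟩ : Nonempty α := Fintype.card_pos_iff.mp (by omega)
  obtain ⟨u', hu'⟩ := (C.a.refl.nondeg (Pi.single i 1) (by simp)).2
  obtain ⟨u, hu⟩ : ∃ u, u = (fA (Pi.single i 1) u')⁻¹ • (Pi.single i 1 : α → F) := ⟨_, rfl⟩
  have hzz : fB z z' = 1 := by rw [hz', C.b.smul_right, inv_mul_cancel₀ hzd]
  have hoz' : fB o z' = 0 := by
    rw [hz', C.b.smul_right, C.b.refl.eq_zero_swap (hd o (Submodule.subset_span (by simp))), mul_zero]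
  have hz'w : fB z' w = 0 := by
    rw [hz', C.b.refl.semi.smul_left, hd w (Submodule.subset_span (by simp)), mul_zero]
  refine param_chain C h2 (C.pure v o) (C.pure u z) (C.pure u' z') (C.pure a w) ?_ ?_ ?_ ?_ ?_ ?_
    (param_A C h2 hS hoz v u) (param_A C h2 hS hz'w u' a)
  all_goals rw [C.pol, tf_tm D]
  · rw [hoz, mul_zero]
  · rw [hz'w, mul_zero]
  · rw [hoz', mul_zero]
  · rw [hva, zero_mul]
  · rw [C.b.refl.eq_zero_swap hwz, mul_zero]
  · rw [hzz, mul_one, hu, C.a.refl.semi.smul_left, inv_mul_cancel₀ hu']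

/-- All parameters at pure centres. -/
theorem param_centre {v : α → F} {o : β → F} {y : α × β → F} (hy : ⟪tm v o, y⟫ = 0) : Param Q X (tm v o) y := by
  classical
  have D := C.data
  rcases eq_or_ne o 0 with ho | ho
  · rw [ho, tm_zero_right]; exact param_zero' C h2
  obtain ⟨o', ho'⟩ := partner D ho
  obtain ⟨c, hc⟩ : ∃ c, c = ctr fB o y := ⟨_, rfl⟩
  obtain ⟨y₁, hy₁⟩ : ∃ y₁, y₁ = y - tm c o' := ⟨_, rfl⟩
  have hy1 : ctr fB o y₁ = 0 := by rw [hy₁, ctr_sub D, ctr_tm D, ho', one_smul, hc, sub_self]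
  have hc0 : fA v c = 0 := by
    rw [QuadraticMap.polar_comm, C.pol, tf_tm_right D, ← hc] at hy
    exact C.a.refl.eq_zero_swap hy
  have hsum : Param Q X (tm v o) y₁ ∧ ⟪tm v o, y₁⟫ = 0 := by
    rw [sum_rows y₁]
    refine Finset.sum_induction _ (fun y => Param Q X (tm v o) y ∧ ⟪tm v o, y⟫ = 0)
      (fun a b ha hb => ⟨param_add C h2 (C.pure v o) ha.2 hb.2 ha.1 hb.1,
        by rw [QuadraticMap.polar_add_right, ha.2, hb.2, add_zero]⟩)
      ⟨param_zero C h2, QuadraticMap.polar_zero_right _ _⟩ fun i _ => ?_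
    have h0 : fB o (row y₁ i) = 0 := C.b.refl.eq_zero_swap (congrFun hy1 i)
    exact ⟨param_pure C h2 hS (by rw [h0, mul_zero]), by rw [C.pol, tf_tm D, h0, mul_zero]⟩
  have := param_add C h2 (C.pure v o) hsum.2 (by rw [C.pol, tf_tm D, hc0, zero_mul]) hsum.1
    (param_pure C h2 hS (a := c) (w := o') (by rw [hc0, zero_mul]))
  rwa [hy₁, sub_add_cancel] at this

/-- All parameters. -/
theorem param_all {v y : α × β → F} (hv : Q v = 0) (hy : ⟪v, y⟫ = 0) : Param Q X v y := by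
  classical
  have D := C.data
  rcases eq_or_ne v 0 with hv0 | hv0
  · rw [hv0]; exact param_zero' C h2
  have exists_pure : ∀ x, x ≠ 0 → ∃ (a : α → F) (w : β → F), ⟪tm a w, x⟫ ≠ 0 := fun x hx => by
    by_contra hcon
    push Not at hcon
    refine hx (C.pnd h2 x fun z => ?_)
    rw [sum_rows z, QuadraticMap.polar_comm]
    refine Finset.sum_induction _ (fun z => ⟪z, x⟫ = 0) (fun a b ha hb => by
      rw [QuadraticMap.polar_add_left, ha, hb, add_zero]) (QuadraticMap.polar_zero_left _ _) fun i _ => hcon _ _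
  obtain ⟨a, w, hP⟩ := exists_pure v hv0
  obtain ⟨p, hp⟩ : ∃ p, p = tm a w := ⟨_, rfl⟩
  rw [← hp] at hP
  have hQp : Q p = 0 := hp ▸ C.pure a w
  obtain ⟨a', w', hP'⟩ := exists_pure p fun e => hP (by rw [e, QuadraticMap.polar_zero_left])
  obtain ⟨p', hp'⟩ : ∃ p', p' = tm a' w' := ⟨_, rfl⟩
  rw [← hp'] at hP'
  have hQp' : Q p' = 0 := hp' ▸ C.pure a' w'
  obtain ⟨l, hl⟩ : ∃ l, l = ⟪p, v⟫ / ⟪p', p⟫ := ⟨_, rfl⟩
  have hl0 : l ≠ 0 := hl ▸ div_ne_zero hP hP'
  obtain ⟨z, hz⟩ : ∃ z, z = (⟪p, v⟫)⁻¹ • (l • p' - v) := ⟨_, rfl⟩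
  have hzp : ⟪p, z⟫ = 0 := by
    rw [hz, QuadraticMap.polar_smul_right, QuadraticMap.polar_sub_right, QuadraticMap.polar_smul_right,
      QuadraticMap.polar_comm (⇑Q) p p', smul_eq_mul, smul_eq_mul, hl, div_mul_cancel₀ _ hP', sub_self, mul_zero]
  obtain ⟨g, hg, hgx⟩ : Param Q X p z := by rw [hp] at hzp ⊢; exact param_centre C h2 hS hzp
  have hgv : g ⬝ₘ v = l • p' := by
    obtain ⟨m, hm⟩ : ∃ m, m = ⟪z, v⟫ + Q z * ⟪p, v⟫ := ⟨_, rfl⟩
    have e : g ⬝ₘ v = l • p' + (-m) • p := by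
      rw [hgx, ← hm, hz, smul_smul, mul_inv_cancel₀ hP, one_smul]
      module
    have h0 := C.iso g hg v
    rw [hv, e, QuadraticMap.map_add ⇑Q, QuadraticMap.map_smul, QuadraticMap.map_smul, hQp, hQp',
      QuadraticMap.polar_smul_left, QuadraticMap.polar_smul_right] at h0
    simp only [smul_eq_mul, mul_zero, zero_add, mul_eq_zero, neg_eq_zero, hl0, hP', false_or, or_false] at h0
    rw [e, h0, neg_zero, zero_smul, add_zero]
  have hgy : ⟪p', l • g ⬝ₘ y⟫ = 0 := by
    have : ⟪g ⬝ₘ v, g ⬝ₘ y⟫ = 0 := by rw [C.pol, C.iso_tf hg, ← C.pol]; exact hy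
    rwa [hgv, QuadraticMap.polar_smul_left, ← QuadraticMap.polar_smul_right] at this
  rw [hp'] at hgy
  have h1 := param_smul C h2 (param_centre C h2 hS hgy)
  rw [← hp', ← hgv] at h1
  have h2' := param_conj C h2 (inv_mem hg) h1
  rwa [gl_inv_mulVec_cancel, gl_inv_mulVec_cancel] at h2'

end Cfsg.Agent.Classical.TensorMax.Form
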