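/-
Maximality of the stabiliser of a product of two symplectic spaces in the orthogonal group of plus type.
-/
import Cfsg.Agent.Lib.Classical.TensorMax.Form.OGen
import Cfsg.Agent.Lib.Classical.TensorMax.Form.Orbits
import Cfsg.Agent.Lib.Classical.RadicalQuad
import Cfsg.Agent.Lib.Classical.OrthTwelveTensor

set_option autoImplicit false
set_option linter.unusedSectionVars false

namespace Cfsg.Agent.Classical.TensorMax.Form

open Matrix Module Cfsg.Geo
open Cfsg.Agent.Classical
open scoped Kronecker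

section Small

variable {α β : Type} [Fintype α] [DecidableEq α] [Fintype β] [DecidableEq β] {F : Type*} [Field F]
variable {fA : (α → F) → (α → F) → F} {fB : (β → F) → (β → F) → F}

local notation:max g:max " ⬝ₘ " x:max => ((g : GL (α × β) F) : Matrix (α × β) (α × β) F) *ᵥ x
local notation "τ" => tf (RingEquiv.refl F) fA fB

/-- The tensor stabiliser generated by transvections consists of products of Siegel elements. -/
theorem kr_mem_of_siegel (A : SForm fA) (B : SForm fB) {W : Subgroup (GL (α × β) F)}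
    (hE : ∀ (a b : α → F) (o w : β → F), fA a b * fB o w = 0 → ∃ g ∈ W, ∀ x,
      g ⬝ₘ x = x + τ (tm a o) x • tm b w - τ (tm b w) x • tm a o)
    {s : GL α F} (hs : s ∈ TGen fA) {t : GL β F} (ht : t ∈ TGen fB) : kr s t ∈ W := by
  classical
  have D : Data (RingEquiv.refl F) (-1) (-1) fA fB := ⟨A.refl, B.refl⟩
  have right : kr (1 : GL α F) t ∈ W := by
    induction ht using Subgroup.closure_induction with
    | mem t ht =>
      obtain ⟨o, k, ht⟩ := ht
      obtain ⟨a, b, hab⟩ := exists_planes A (-k)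
      let P : ((α → F) → (α → F)) → Prop := fun ψ =>
        ∃ g ∈ W, ∀ c w, g ⬝ₘ (tm c w) = tm c w + fB w o • tm (ψ c) o
      have hP : P (fun c => ∑ p, -(fA (a p) c • b p - fA (b p) c • a p)) := by
        rw [show (fun c => ∑ p, -(fA (a p) c • b p - fA (b p) c • a p)) =
          ∑ p, fun c => -(fA (a p) c • b p - fA (b p) c • a p) from funext fun c => by rw [Finset.sum_apply]]
        refine Finset.sum_induction _ P ?_ ⟨1, one_mem W, fun c w => by simp⟩ fun p _ => ?_
        · rintro ψ ψ' ⟨g, hg, hgx⟩ ⟨g', hg', hgx'⟩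
          refine ⟨g * g', mul_mem hg hg', fun c w => ?_⟩
          rw [gl_mul_mulVec, hgx', Matrix.mulVec_add, Matrix.mulVec_smul, hgx, hgx, B.alt, zero_smul, add_zero,
            Pi.add_apply, tm_add_left]
          module
        · obtain ⟨g, hg, hgx⟩ := hE (a p) (b p) o o (by rw [B.alt, mul_zero])
          refine ⟨g, hg, fun c w => ?_⟩
          simp only [hgx, tf_tm D, B.swap w o, neg_sub]
          rw [sub_eq_add_neg (fA (b p) c • a p), ← neg_one_smul F (fA (a p) c • b p), tm_add_left, tm_smul_left,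
            tm_smul_left, tm_smul_left]
          module
      obtain ⟨g, hg, hgx⟩ := hP
      rwa [show kr (1 : GL α F) t = g from gl_ext_mulVec fun x => ext_pure
        (M := ((kr (1 : GL α F) t : GL (α × β) F) : Matrix (α × β) (α × β) F))
        (M' := (g : Matrix (α × β) (α × β) F)) (fun c w => by
          rw [kr_tm, Units.val_one, Matrix.one_mulVec, ht, hgx]
          simp only [Finset.sum_neg_distrib, hab, neg_smul, neg_neg]
          rw [
            tm_add_right, tm_smul_right, tm_smul_left]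
          module) x]
    | one => rw [show kr (1 : GL α F) (1 : GL β F) = 1 from Units.ext (by simp [kr_val])]; exact one_mem W
    | mul x y _ _ hx hy =>
      rw [show kr (1 : GL α F) (x * y) = kr 1 x * kr 1 y from gl_ext_mulVec fun v => ext_pure
        (M := ((kr (1 : GL α F) (x * y) : GL (α × β) F) : Matrix (α × β) (α × β) F))
        (M' := ((kr (1 : GL α F) x * kr 1 y : GL (α × β) F) : Matrix (α × β) (α × β) F)) (fun c w => by
          rw [gl_mul_mulVec, kr_tm, kr_tm, kr_tm, Units.val_one, Matrix.one_mulVec, Matrix.one_mulVec,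
            gl_mul_mulVec]) v]
      exact mul_mem hx hy
    | inv x _ hx =>
      rw [show kr (1 : GL α F) x⁻¹ = (kr 1 x)⁻¹ from gl_ext_mulVec fun v => by
        refine gl_mulVec_injective (kr (1 : GL α F) x) ?_
        change (kr (1 : GL α F) x) ⬝ₘ _ = (kr (1 : GL α F) x) ⬝ₘ _
        rw [gl_mulVec_inv_cancel, Matrix.mulVec_mulVec]
        conv_rhs => rw [← Matrix.one_mulVec v]
        congr 1
        rw [← Units.val_mul]
        simp [kr_val, ← Matrix.mul_kronecker_mul]]
      exact inv_mem hx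
  have left : kr s (1 : GL β F) ∈ W := by
    induction hs using Subgroup.closure_induction with
    | mem s hs =>
      obtain ⟨v, k, hs⟩ := hs
      obtain ⟨a, b, hab⟩ := exists_planes B (-k)
      let P : ((β → F) → (β → F)) → Prop := fun ψ =>
        ∃ g ∈ W, ∀ c w, g ⬝ₘ (tm c w) = tm c w + fA c v • tm v (ψ w)
      have hP : P (fun w => ∑ p, -(fB (a p) w • b p - fB (b p) w • a p)) := by
        rw [show (fun w => ∑ p, -(fB (a p) w • b p - fB (b p) w • a p)) =
          ∑ p, fun w => -(fB (a p) w • b p - fB (b p) w • a p) from funext fun c => by rw [Finset.sum_apply]]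
        refine Finset.sum_induction _ P ?_ ⟨1, one_mem W, fun c w => by simp⟩ fun p _ => ?_
        · rintro ψ ψ' ⟨g, hg, hgx⟩ ⟨g', hg', hgx'⟩
          refine ⟨g * g', mul_mem hg hg', fun c w => ?_⟩
          rw [gl_mul_mulVec, hgx', Matrix.mulVec_add, Matrix.mulVec_smul, hgx, hgx, A.alt, zero_smul, add_zero,
            Pi.add_apply, tm_add_right]
          module
        · obtain ⟨g, hg, hgx⟩ := hE v v (a p) (b p) (by rw [A.alt, zero_mul])
          refine ⟨g, hg, fun c w => ?_⟩
          simp only [hgx, tf_tm D, A.swap c v, neg_sub]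
          rw [sub_eq_add_neg (fB (b p) w • a p), ← neg_one_smul F (fB (a p) w • b p), tm_add_right, tm_smul_right,
            tm_smul_right, tm_smul_right]
          module
      obtain ⟨g, hg, hgx⟩ := hP
      rwa [show kr s (1 : GL β F) = g from gl_ext_mulVec fun x => ext_pure
        (M := ((kr s (1 : GL β F) : GL (α × β) F) : Matrix (α × β) (α × β) F))
        (M' := (g : Matrix (α × β) (α × β) F)) (fun c w => by
          rw [kr_tm, Units.val_one, Matrix.one_mulVec, hs, hgx]
          simp only [Finset.sum_neg_distrib, hab, neg_smul, neg_neg]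
          rw [
            tm_add_left, tm_smul_left, tm_smul_right]
          module) x]
    | one => rw [show kr (1 : GL α F) (1 : GL β F) = 1 from Units.ext (by simp [kr_val])]; exact one_mem W
    | mul x y _ _ hx hy =>
      rw [show kr (x * y) (1 : GL β F) = kr x 1 * kr y 1 from gl_ext_mulVec fun v => ext_pure
        (M := ((kr (x * y) (1 : GL β F) : GL (α × β) F) : Matrix (α × β) (α × β) F))
        (M' := ((kr x 1 * kr y (1 : GL β F) : GL (α × β) F) : Matrix (α × β) (α × β) F)) (fun c w => by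
          rw [gl_mul_mulVec, kr_tm, kr_tm, kr_tm, Units.val_one, Matrix.one_mulVec, Matrix.one_mulVec,
            gl_mul_mulVec]) v]
      exact mul_mem hx hy
    | inv x _ hx =>
      rw [show kr x⁻¹ (1 : GL β F) = (kr x 1)⁻¹ from gl_ext_mulVec fun v => by
        refine gl_mulVec_injective (kr x (1 : GL β F)) ?_
        change (kr x (1 : GL β F)) ⬝ₘ _ = (kr x (1 : GL β F)) ⬝ₘ _
        rw [gl_mulVec_inv_cancel, Matrix.mulVec_mulVec]
        conv_rhs => rw [← Matrix.one_mulVec v]
        congr 1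
        rw [← Units.val_mul]
        simp [kr_val, ← Matrix.mul_kronecker_mul]]
      exact inv_mem hx
  rw [show kr s t = kr s 1 * kr 1 t from gl_ext_mulVec fun v => ext_pure
    (M := ((kr s t : GL (α × β) F) : Matrix (α × β) (α × β) F))
    (M' := ((kr s 1 * kr 1 t : GL (α × β) F) : Matrix (α × β) (α × β) F)) (fun c w => by
      rw [gl_mul_mulVec, kr_tm, kr_tm, kr_tm, Units.val_one, Units.val_one, Matrix.one_mulVec, Matrix.one_mulVec]) v]
  exact mul_mem left right

end Small

variable {F : Type*} [Field F] [Fintype F] {n n₁ n₂ : ℕ}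
variable {fA : (Fin n₁ → F) → (Fin n₁ → F) → F} {fB : (Fin n₂ → F) → (Fin n₂ → F) → F}

local notation "κ" => Fin n₁ × Fin n₂
local notation:max g:max " ⬝ₘ " x:max =>
  ((g : GL (Fin n₁ × Fin n₂) F) : Matrix (Fin n₁ × Fin n₂) (Fin n₁ × Fin n₂) F) *ᵥ x

theorem even_of_symplectic {k : ℕ} {f : (Fin k → F) → (Fin k → F) → F} (hf : IsSymplecticForm f) : Even k := by
  rw [← Nat.not_odd_iff_even]
  intro hodd
  exact not_nondegenerate_alternating_of_odd (by rwa [Fintype.card_fin]) hf.bilinear hf.skew hf.alternating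
    hf.nondegenerate

/-- A vector orthogonal to two given ones and outside a line, in an alternating space of dimension at least four. -/
theorem SForm.exists_mid {k : ℕ} {f : (Fin k → F) → (Fin k → F) → F} (A : SForm f) (h : 4 ≤ k) (o o₂ : Fin k → F) :
    ∃ w, w ≠ 0 ∧ f w w = 0 ∧ f w o = 0 ∧ f w o₂ = 0 ∧ w ∉ Submodule.span F {o} := by
  classical
  by_contra hcon
  push Not at hcon
  have hle : A.refl.perp (Submodule.span F {o, o₂}) ≤ Submodule.span F {o} := fun d hd => by
    rcases eq_or_ne d 0 with h0 | h0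
    · rw [h0]; exact zero_mem _
    exact hcon d h0 (A.alt d) (hd o (Submodule.subset_span (by simp))) (hd o₂ (Submodule.subset_span (by simp)))
  have h1 := Submodule.finrank_mono hle
  have h2 := A.refl.finrank_perp (Submodule.span F {o, o₂})
  have h3 : finrank F (Submodule.span F ({o, o₂} : Set (Fin k → F))) ≤ 2 := by
    have := finrank_span_finset_le_card (R := F) ({o, o₂} : Finset (Fin k → F))
    rw [Finset.coe_pair] at this
    exact this.trans Finset.card_le_two
  have h4 := finrank_span_le_card (R := F) ({o} : Set (Fin k → F))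
  simp at h4
  rw [Fintype.card_fin] at h2
  omega

/-- An alternating space of dimension at least four is nice. -/
theorem SForm.nice {k : ℕ} {f : (Fin k → F) → (Fin k → F) → F} (A : SForm f) (h : 4 ≤ k) :
    Nice (RingEquiv.refl F) (-1 : F) f where
  skew := ⟨1, one_ne_zero, by rw [map_one]; ring⟩
  halve v := ⟨0, by rw [A.alt, map_zero, mul_zero, add_zero]⟩
  mid := Or.inl fun o o₂ _ _ => A.exists_mid h o o₂
  move u v hu _ hv _ := by
    obtain ⟨t, ht, htu⟩ := tmove_one A hu hv
    exact ⟨t, (tgen_iso A ht).1, (tgen_iso A ht).2, 1, one_ne_zero, by rw [htu, one_smul]⟩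
  spanned := by
    rw [eq_top_iff]
    exact fun v _ => Submodule.subset_span (A.alt v)
  join u v _ _ := ⟨1, one_ne_zero, A.alt _⟩

/-- The stabiliser is maximal in Ω. -/
theorem isMaximalIn_omega' (hn : 12 ≤ n) (Q : (Fin n → F) → F) (hQ : IsNondegenerateQuadraticForm Q)
    (h12 : n₁ < n₂) (hex : ¬ (Fintype.card F = 2 ∧ n₁ = 2)) (e : Fin n ≃ κ) (P : GL (Fin n) F)
    (hA : IsSymplecticForm fA) (hB : IsSymplecticForm fB)
    (hT : IsTensorFormStructure id (QuadraticMap.polar Q) fA fB e P)
    (hpure : ∀ (x₁ : Fin n₁ → F) (x₂ : Fin n₂ → F),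
      Q (Matrix.mulVec (P : Matrix (Fin n) (Fin n) F) ((fun a : κ => x₁ a.1 * x₂ a.2) ∘ e)) = 0) :
    IsMaximalIn (omegaGL Q) (tensorProductSubgroup n₁ n₂ e P ⊓ omegaGL Q) := by
  classical
  obtain ⟨Qf, rfl, hPND⟩ := ONotMax.exists_qform hQ
  have A : SForm fA := ⟨reflexForm_of_symplectic hA, hA.alternating⟩
  have B : SForm fB := ⟨reflexForm_of_symplectic hB, hB.alternating⟩
  have D : Data (RingEquiv.refl F) (-1) (-1) fA fB := ⟨A.refl, B.refl⟩
  have hcard : n = n₁ * n₂ := by simpa using Fintype.card_congr e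
  obtain ⟨m₁, hm₁⟩ := even_of_symplectic hA
  obtain ⟨m₂, hm₂⟩ := even_of_symplectic hB
  have h1 : 2 ≤ n₁ := by
    rcases Nat.eq_zero_or_pos n₁ with h | h
    · rw [h, zero_mul] at hcard; omega
    · omega
  have h6 : 6 ≤ n₂ := by
    by_contra hlt
    push Not at hlt
    have := Nat.mul_le_mul (show n₁ ≤ 2 by omega) (show n₂ ≤ 4 by omega)
    omega
  obtain ⟨c, hc, hT⟩ := hT
  let T : (κ → F) →ₗ[F] (Fin n → F) :=
    (P : Matrix (Fin n) (Fin n) F).mulVecLin ∘ₗ LinearMap.funLeft F F (e : Fin n → κ)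
  have hTapp : ∀ x, T x = (P : Matrix (Fin n) (Fin n) F) *ᵥ (x ∘ e) := fun x => rfl
  have hTh : ∀ x y, QuadraticMap.polar (⇑Qf) (T x) (T y) = c * tf (RingEquiv.refl F) fA fB x y := fun x y => hT x y
  have hTsurj : ∀ v, ∃ x, T x = v := fun v =>
    ⟨(((P⁻¹ : GL (Fin n) F) : Matrix (Fin n) (Fin n) F) *ᵥ v) ∘ e.symm, by
      rw [hTapp]
      simp only [Function.comp_assoc, Equiv.symm_comp_self, Function.comp_id, gl_mulVec_inv_cancel]⟩
  have hTinj : ∀ {x y}, T x = T y → x = y := fun {x y} h => by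
    rw [hTapp, hTapp] at h
    exact e.surjective.injective_comp_right (gl_mulVec_injective P h)
  let Qk : QuadraticForm F (κ → F) := c⁻¹ • Qf.comp T
  have hQk : ∀ x, Qk x = c⁻¹ * Qf (T x) := fun x => rfl
  have hQT : ∀ x, Qf (T x) = c * Qk x := fun x => by rw [hQk, mul_inv_cancel_left₀ hc]
  have hpol : ∀ x y, QuadraticMap.polar (⇑Qk) x y = tf (RingEquiv.refl F) fA fB x y := fun x y => by
    have := hTh x y
    simp only [QuadraticMap.polar] at this ⊢
    simp only [hQk, map_add T x y]
    rw [← mul_sub, ← mul_sub, this, inv_mul_cancel_left₀ hc]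
  let φ : GL κ F ≃* GL (Fin n) F := (glReindex (F := F) e.symm).trans (MulAut.conj P)
  have hφ : ∀ g x, ((φ g : GL (Fin n) F) : Matrix (Fin n) (Fin n) F) *ᵥ T x = T (g ⬝ₘ x) := fun g x => by
    have hre : ((glReindex (F := F) e.symm g : GL (Fin n) F) : Matrix (Fin n) (Fin n) F) =
        (g : Matrix κ κ F).submatrix e e := rfl
    simp only [hTapp, φ, MulEquiv.trans_apply, MulAut.conj_apply, gl_mul_mulVec, gl_inv_mulVec_cancel]
    rw [hre, Matrix.submatrix_mulVec_equiv, Function.comp_assoc, Equiv.self_comp_symm, Function.comp_id]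
  have hkr : ∀ g, φ g ∈ tensorProductSubgroup n₁ n₂ e P ↔ g ∈ Kr (Fin n₁) (Fin n₂) F := fun g => by
    constructor
    · rintro ⟨y, ⟨x, ⟨a, b, hab⟩, rfl⟩, hy⟩
      have : φ x = φ g := hy
      rw [← φ.injective this]
      exact ⟨a, b, Units.ext hab⟩
    · rintro ⟨a, b, rfl⟩
      exact ⟨_, ⟨_, ⟨a, b, rfl⟩, rfl⟩, rfl⟩
  have hsiegel : ∀ p y, Qk p = 0 → QuadraticMap.polar (⇑Qk) p y = 0 → ∃ g, φ g ∈ omegaGL ⇑Qf ∧ ∀ x, g ⬝ₘ x =
      x + QuadraticMap.polar (⇑Qk) p x • y -
        (QuadraticMap.polar (⇑Qk) y x + Qk y * QuadraticMap.polar (⇑Qk) p x) • p := by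
    intro p y hp hpy
    obtain ⟨g', hg', hgx⟩ := ONotMax.exists_siegel hPND (by rw [Fintype.card_fin]; omega) (e := T p) (v := c⁻¹ • T y)
      (by rw [hQT, hp, mul_zero])
      (by rw [QuadraticMap.polar_smul_right, hTh, ← hpol, hpy, mul_zero, smul_zero])
    obtain ⟨g, rfl⟩ := φ.surjective g'
    refine ⟨g, hg', fun x => hTinj ?_⟩
    rw [← hφ, hgx]
    simp only [map_sub, map_add, LinearMap.map_smul, QuadraticMap.polar_smul_left, QuadraticMap.map_smul, hTh, hQT,
      hpol, smul_eq_mul]
    match_scalars <;> field_simp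
  refine ⟨lt_of_le_of_ne inf_le_right fun hEq => ?_, fun M hM hMS => ?_⟩
  · exact OEven.omega_not_tensor hPND (by rw [Fintype.card_fin]; omega) h1 (by omega) e P
      (hEq.symm.le.trans inf_le_left)
  obtain ⟨X, hXdef⟩ : ∃ X, X = M.comap φ.toMonoidHom := ⟨_, rfl⟩
  have hX : ∀ g, g ∈ X ↔ φ g ∈ M := fun g => by rw [hXdef]; rfl
  have hiso : ∀ g ∈ X, ∀ x, Qk (g ⬝ₘ x) = Qk x := fun g hg x => by
    rw [hQk, hQk, ← hφ, ONotMax.omega_isometry (hMS ((hX g).1 hg))]
  have hsmall : ∀ s ∈ TGen fA, ∀ t ∈ TGen fB, kr s t ∈ X := fun s hs t ht => (hX _).2 (hM ⟨(hkr _).2 ⟨s, t, rfl⟩,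
        kr_mem_of_siegel A B (W := (omegaGL ⇑Qf).comap φ.toMonoidHom) (fun a b o w h0 => by
          have hq : ∀ u v, Qk (tm u v) = 0 := fun u v => by
            rw [hQk, hTapp]; exact mul_eq_zero_of_right _ (hpure u v)
          obtain ⟨g, hg, hgx⟩ := hsiegel (tm a o) (tm b w) (hq a o) (by rw [hpol, tf_tm D, h0])
          refine ⟨g, hg, fun x => ?_⟩
          rw [hgx, hq, zero_mul, add_zero, hpol, hpol]) hs ht⟩)
  have C : OCtx fA fB Qk X :=
    { a := A
      b := B
      isot := fun g hg => isot_of_iso hpol (hiso g hg)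
      right := fun t ht => hsmall 1 (one_mem _) t ht
      pol := hpol
      pure := fun u w => by
        rw [hQk, hTapp]
        exact mul_eq_zero_of_right _ (hpure u w)
      iso := hiso
      six := by rwa [Fintype.card_fin] }
  have hq : (∃ θ : F, θ ≠ 0 ∧ θ ≠ 1) ∨ 3 ≤ Fintype.card (Fin n₁) := by
    rw [Fintype.card_fin]
    by_contra hcon
    push Not at hcon
    refine hex ⟨le_antisymm ?_ Fintype.one_lt_card, by omega⟩
    have hsub : (Finset.univ : Finset F) ⊆ {0, 1} := fun a _ => by
      by_cases ha : a = 0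
      · simp [ha]
      · simp [hcon.1 a ha]
    have := (Finset.card_le_card hsub).trans Finset.card_le_two
    rwa [Finset.card_univ] at this
  have h2' : 2 ≤ Fintype.card (Fin n₁) := by rwa [Fintype.card_fin]
  by_cases hS : ∀ φ', InS fA fB X φ' → ∃ r : F, φ' = r • 1
  · refine Or.inl (le_antisymm (fun g hg => ?_) hM)
    have O : Over (RingEquiv.refl F) fA fB X := toOverO C.toSCtx hS
    have N := B.nice (show 4 ≤ n₂ by omega)
    obtain ⟨g', rfl⟩ := φ.surjective g
    refine ⟨(hkr g').2 ?_, hMS hg⟩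
    refine le_kr D O N h1 h12 (fun u v => ?_) (fun k hk a o _ => ?_) ((hX g').2 hg)
    · obtain ⟨w, hw0, hww, hwu, hwv, -⟩ := B.exists_mid (show 4 ≤ n₂ by omega) u v
      exact ⟨w, hw0, hww, B.refl.eq_zero_swap hwu, B.refl.eq_zero_swap hwv⟩
    · have hgood : ∀ x : κ → F, Good fB (fun _ : Unit => x) := fun x => by
        obtain ⟨d, hd, hd0⟩ := Submodule.exists_mem_ne_zero_of_ne_bot
          (p := B.refl.perp (Submodule.span F (Set.range (row x)))) fun e => by
            have := B.refl.finrank_perp (Submodule.span F (Set.range (row x)))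
            have := (finrank_range_le_card (R := F) (row x)).trans_eq (Fintype.card_fin n₁)
            rw [e, finrank_bot, Fintype.card_fin] at *
            simp only [Set.finrank] at *
            omega
        exact ⟨d, hd0, B.alt d, fun _ => funext fun i => B.refl.eq_zero_swap (hd _ (Submodule.subset_span ⟨i, rfl⟩))⟩
      obtain ⟨a', b', -, hab⟩ := factor D O N h1 h12 hk (v := fun _ : Unit => tm a o) (v' := fun _ => k ⬝ₘ (tm a o))
        (fun _ => rfl) (hgood _) (hgood _)
      exact ⟨_, _, (hab ()).symm.trans (kr_tm _ _ _ _)⟩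
  · push Not at hS
    obtain ⟨φ', hφ', hns⟩ := hS
    have hall : ∀ u v : Fin n₁ → F, InS fA fB X (dyad fA u v) :=
      all_dyads A (closed C.toSCtx fun s hs => hsmall s hs 1 (one_mem _)) (inS_one C.toSCtx) hq hφ' hns
    refine Or.inr (le_antisymm hMS (Radical.omega_le_of_siegel hPND (by rw [Fintype.card_fin]; omega)
      fun v hv hv0 h hh => ?_))
    obtain ⟨y, hy, hhx⟩ := hh
    obtain ⟨v', rfl⟩ := hTsurj v
    obtain ⟨y', rfl⟩ := hTsurj y
    rw [hQT] at hv
    rw [hTh] at hy
    obtain ⟨g, hg, hgx⟩ := param_all C h2' hall (v := v') (y := c • y') ((mul_eq_zero.mp hv).resolve_left hc)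
      (by rw [QuadraticMap.polar_smul_right, hpol, (mul_eq_zero.mp hy).resolve_left hc, smul_zero])
    rw [show h = φ g from gl_ext_mulVec fun x => by
      obtain ⟨z, rfl⟩ := hTsurj x
      rw [hhx, hφ, hgx]
      simp only [map_sub, map_add, LinearMap.map_smul, QuadraticMap.map_smul, QuadraticMap.polar_smul_left, hTh, hQT,
        hpol, smul_eq_mul, (tf_semi D).smul_left]
      module]
    exact (hX g).1 hg

/-- The stabiliser is maximal in Ω, from dimension 13 on. -/
theorem isMaximalIn_omega (hn : 13 ≤ n) (Q : (Fin n → F) → F) (hQ : IsNondegenerateQuadraticForm Q)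
    (h12 : n₁ < n₂) (hex : ¬ (Fintype.card F = 2 ∧ n₁ = 2)) (e : Fin n ≃ κ) (P : GL (Fin n) F)
    (hA : IsSymplecticForm fA) (hB : IsSymplecticForm fB)
    (hT : IsTensorFormStructure id (QuadraticMap.polar Q) fA fB e P)
    (hpure : ∀ (x₁ : Fin n₁ → F) (x₂ : Fin n₂ → F),
      Q (Matrix.mulVec (P : Matrix (Fin n) (Fin n) F) ((fun a : κ => x₁ a.1 * x₂ a.2) ∘ e)) = 0) :
    IsMaximalIn (omegaGL Q) (tensorProductSubgroup n₁ n₂ e P ⊓ omegaGL Q) :=
  isMaximalIn_omega' (by omega) Q hQ h12 hex e P hA hB hT hpure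

end Cfsg.Agent.Classical.TensorMax.Form
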