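/-
Maximality of tensor product stabilisers in the special unitary group.
-/
import Cfsg.Agent.Lib.Classical.TensorMax.Form.UTwoThree
import Cfsg.Agent.Lib.Classical.TensorMax.Form.UGen
import Cfsg.Agent.Lib.Classical.UnitaryOvergroup
import Cfsg.Agent.Lib.Classical.UnitaryPlanes

set_option autoImplicit false
set_option linter.unusedSectionVars false

namespace Cfsg.Agent.Classical.TensorMax.Form

open Matrix Module Cfsg.Geo
open Cfsg.Agent.Classical
open scoped Kronecker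

variable {F : Type*} [Field F] [Fintype F] {q n n₁ n₂ : ℕ} {σ : F ≃+* F}

/-- A form in the sense of the statements as a reflexive one. -/
theorem uform_of_pow {k : ℕ} (hσ : IsUSigma q σ) {f : (Fin k → F) → (Fin k → F) → F}
    (hf : IsUnitaryFormPow q f) : UForm q σ f := by
  have hh : ∀ v w, f v w = σ (f w v) := fun v w => (hf.herm v w).trans (hσ.apply_eq _).symm
  exact ⟨hσ, ⟨⟨hf.add_left, hf.smul_left,
    fun v x y => by rw [hh, hf.add_left, map_add, ← hh, ← hh],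
    fun c v x => by rw [hh, hf.smul_left, map_mul, ← hh]⟩,
    fun u v => by rw [one_mul]; exact hh v u, hσ.involutive, hf.nondegenerate⟩⟩

variable {fA : (Fin n₁ → F) → (Fin n₁ → F) → F} {fB : (Fin n₂ → F) → (Fin n₂ → F) → F}

local notation "κ" => Fin n₁ × Fin n₂
local notation:max g:max " ⬝ₘ " x:max =>
  ((g : GL (Fin n₁ × Fin n₂) F) : Matrix (Fin n₁ × Fin n₂) (Fin n₁ × Fin n₂) F) *ᵥ x

/-- Elements of the stabiliser are isometries. -/
theorem kr_iso (D : Data σ 1 1 fA fB) {a : GL (Fin n₁) F} {t : GL (Fin n₂) F}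
    (ha : ∀ u v, fA ((a : Matrix (Fin n₁) (Fin n₁) F) *ᵥ u) ((a : Matrix (Fin n₁) (Fin n₁) F) *ᵥ v) = fA u v)
    (ht : ∀ u v, fB ((t : Matrix (Fin n₂) (Fin n₂) F) *ᵥ u) ((t : Matrix (Fin n₂) (Fin n₂) F) *ᵥ v) = fB u v)
    (x y : κ → F) : tf σ fA fB ((kr a t) ⬝ₘ x) ((kr a t) ⬝ₘ y) = tf σ fA fB x y := by
  conv_rhs => rw [sum_rows x, sum_rows y]
  conv_lhs => rw [sum_rows x, sum_rows y]
  have hR : ∀ (v : κ → F) (s : Fin n₁ → κ → F), tf σ fA fB v (∑ i, s i) = ∑ i, tf σ fA fB v (s i) := fun v s =>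
    map_sum (AddMonoidHom.mk' (fun w => tf σ fA fB v w) ((tf_semi D).add_right v)) s Finset.univ
  simp only [Matrix.mulVec_sum, (reflex D).sum_left, hR, kr_tm, tf_tm D, ha, ht]

/-- The transvection centres of a group that contains a seed. -/
theorem hasT_every (hσ : IsUSigma q σ) (UA : UForm q σ fA) (UB : UForm q σ fB) {X : Subgroup (GL κ F)}
    (H : UOver σ fA fB X) (hS : Seed fA fB X) (h1 : 2 ≤ n₁) (h5 : 3 ≤ n₂) {x : κ → F}
    (hx : tf σ fA fB x x = 0) : HasT σ fA fB X x := by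
  classical
  obtain ⟨e₀, he₀⟩ := UPlanes.exists_std hσ (h := fA)
    ⟨UA.refl.semi.add_left, UA.refl.semi.smul_left, UA.herm, fun v hv => by
      by_contra hne
      obtain ⟨w, hw⟩ := (UA.refl.nondeg v hne).2
      exact hw (hv w)⟩
    (k := n₁) (by rw [finrank_fintype_fun_eq_card, Fintype.card_fin])
  refine hasT_all UA UB H hS (by rwa [Fintype.card_fin]) h1 (fun i => e₀.symm (Pi.single i 1)) (fun i j => ?_)
    (fun y => ?_) hx
  · rw [← he₀, e₀.apply_symm_apply, e₀.apply_symm_apply, hσ.hermForm_single, one_mul]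
    rcases eq_or_ne i j with h | h
    · subst h; simp
    · simp [h]
  · refine ⟨fun j => ∑ i, e₀ (Pi.single i 1) j • row y i, ?_⟩
    conv_lhs => rw [sum_rows y]
    funext p
    have hp : ∀ i, (Pi.single i 1 : Fin n₁ → F) p.1 = ∑ j, e₀ (Pi.single i 1) j * e₀.symm (Pi.single j 1) p.1 := fun i => by
      conv_lhs => rw [← e₀.symm_apply_apply (Pi.single i 1), pi_eq_sum_univ' (e₀ (Pi.single i 1))]
      simp [map_sum, Finset.sum_apply]
    simp only [Finset.sum_apply, tm_apply, hp, Pi.smul_apply, smul_eq_mul, Finset.mul_sum, Finset.sum_mul]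
    rw [Finset.sum_comm]
    exact Finset.sum_congr rfl fun j _ => Finset.sum_congr rfl fun i _ => by ring

/-- The element with a pure transvection centre leaves the stabiliser. -/
theorem not_kr (UA : UForm q σ fA) (UB : UForm q σ fB) {u : Fin n₁ → F} {o : Fin n₂ → F} (hu : u ≠ 0)
    (huu : fA u u = 0) (ho : o ≠ 0) (hoo : fB o o = 0) {c : F} (hc : c ≠ 0) {g : GL κ F}
    (hg : ∀ x, g ⬝ₘ x = x + (c * tf σ fA fB x (tm u o)) • tm u o) : g ∉ Kr (Fin n₁) (Fin n₂) F := by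
  rintro ⟨a, b, rfl⟩
  have D : Data σ 1 1 fA fB := ⟨UA.refl, UB.refl⟩
  obtain ⟨a', ha'⟩ := UA.exists_pair_one hu
  obtain ⟨w, hw⟩ := UB.exists_pair_one ho
  have h := hg (tm a' w)
  rw [kr_tm, tf_tm D, ha', hw, mul_one, mul_one, ← tm_smul_left] at h
  have hwo : w ∉ Submodule.span F {o} := fun e => by
    obtain ⟨r, hr⟩ := Submodule.mem_span_singleton.mp e
    rw [← hr, UB.refl.semi.smul_left, hoo, mul_zero] at hw
    exact zero_ne_one hw
  have how : o ∉ Submodule.span F {w} := fun e => by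
    obtain ⟨r, hr⟩ := Submodule.mem_span_singleton.mp e
    rcases eq_or_ne r 0 with h0 | h0
    · exact ho (by rw [← hr, h0, zero_smul])
    · exact hwo (Submodule.mem_span_singleton.mpr ⟨r⁻¹, by rw [← hr, smul_smul, inv_mul_cancel₀ h0, one_smul]⟩)
  obtain ⟨w₁, hw₁, hw₁'⟩ := UB.exists_sep hwo
  obtain ⟨w₂, hw₂, hw₂'⟩ := UB.exists_sep how
  have e₁ := congrArg (ctr fB w₁) h
  have e₂ := congrArg (ctr fB w₂) h
  rw [ctr_add D, ctr_tm D, ctr_tm D, ctr_tm D, hw₁, zero_smul, add_zero] at e₁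
  rw [ctr_add D, ctr_tm D, ctr_tm D, ctr_tm D, hw₂, zero_smul, zero_add] at e₂
  generalize (a : Matrix (Fin n₁) (Fin n₁) F) *ᵥ a' = r at e₁ e₂
  generalize (b : Matrix (Fin n₂) (Fin n₂) F) *ᵥ w = s at e₁ e₂
  have hs : fB s w₂ ≠ 0 := fun e0 => by
    rw [e0, zero_smul] at e₂
    exact hu ((smul_eq_zero.mp ((smul_eq_zero.mp e₂.symm).resolve_left hw₂')).resolve_left hc)
  obtain ⟨k, hk⟩ : ∃ k, a' = k • u := ⟨(fB w w₁)⁻¹ * fB s w₁ * (fB s w₂)⁻¹ * fB o w₂ * c, by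
    have hr : r = (fB s w₂)⁻¹ • fB o w₂ • c • u := by rw [← e₂, smul_smul, inv_mul_cancel₀ hs, one_smul]
    rw [← inv_smul_smul₀ hw₁' a', ← e₁, hr]
    simp only [smul_smul]
    congr 1
    ring⟩
  rw [hk, UA.refl.semi.smul_left, huu, mul_zero] at ha'
  exact zero_ne_one ha'

/-- The stabiliser is maximal in the special unitary group. -/
theorem isMaximalIn (hF : Fintype.card F = q ^ 2) (hn : 6 ≤ n) (h1 : 2 ≤ n₁) (h12 : n₁ < n₂)
    (hex : ¬ (n₁ = 2 ∧ q = 2)) (e : Fin n ≃ κ) (P : GL (Fin n) F) (hA : IsUnitaryFormPow q fA)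
    (hB : IsUnitaryFormPow q fB)
    (hT : IsTensorFormStructure (fun x : F => x ^ q) (Cfsg.hermForm n F q) fA fB e P) :
    IsMaximalIn (GU n F q ⊓ specialLinear (Fin n) F)
      (tensorProductSubgroup n₁ n₂ e P ⊓ (GU n F q ⊓ specialLinear (Fin n) F)) := by
  classical
  obtain ⟨-, -, σ, -, -, -, -, hσ⟩ := exists_usigma hF
  have UA := uform_of_pow hσ hA
  have UB := uform_of_pow hσ hB
  have D : Data σ 1 1 fA fB := ⟨UA.refl, UB.refl⟩
  have hcard : n = n₁ * n₂ := by simpa using Fintype.card_congr e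
  have h5 : 4 ≤ n₂ ∨ (n₁ = 2 ∧ n₂ = 3) := by omega
  obtain ⟨c₀, hc₀, hT⟩ := hT
  obtain ⟨T, hTdef⟩ : ∃ T : (κ → F) → (Fin n → F), T = fun x => (P : Matrix (Fin n) (Fin n) F) *ᵥ (x ∘ e) :=
    ⟨_, rfl⟩
  have hTh : ∀ x y, hermForm n F q (T x) (T y) = c₀ * tf σ fA fB x y := fun x y => by
    rw [hTdef, tf, show (σ : F → F) = fun x => x ^ q from funext hσ.apply_eq]; exact hT x y
  have hTsurj : ∀ v, ∃ x, T x = v := fun v =>
    ⟨(((P⁻¹ : GL (Fin n) F) : Matrix (Fin n) (Fin n) F) *ᵥ v) ∘ e.symm, by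
      rw [hTdef]
      simp only [Function.comp_assoc, Equiv.symm_comp_self, Function.comp_id, gl_mulVec_inv_cancel]⟩
  have hTinj : ∀ {x y}, T x = T y → x = y := fun {x y} h => by
    rw [hTdef] at h
    exact e.surjective.injective_comp_right (gl_mulVec_injective P h)
  have hTadd : ∀ (x : κ → F) (r : F) (y), T (x + r • y) = T x + r • T y := fun x r y => by
    rw [hTdef]
    change _ *ᵥ (x ∘ e + r • (y ∘ e)) = _
    rw [Matrix.mulVec_add, Matrix.mulVec_smul]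
  have hfix : σ c₀ = c₀ := by
    obtain ⟨x, y, hxy⟩ : ∃ x y, tf σ fA fB x y ≠ 0 := by
      obtain ⟨u, hu⟩ : ∃ u : Fin n₁ × Fin n₂ → F, u ≠ 0 :=
        ⟨fun _ => 1, fun h => one_ne_zero (congrFun h (⟨0, by omega⟩, ⟨0, by omega⟩))⟩
      exact ⟨u, (tf_nondeg D u hu).2⟩
    have h := (hσ.isUnitaryForm (n := n)).herm (T y) (T x)
    rw [hTh, hTh, map_mul, tf_swap D x y, one_mul, one_mul] at h
    exact (mul_right_cancel₀ ((map_ne_zero σ).mpr hxy) h).symm
  let φ : GL κ F ≃* GL (Fin n) F := (glReindex (F := F) e.symm).trans (MulAut.conj P)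
  have hφ : ∀ g x, ((φ g : GL (Fin n) F) : Matrix (Fin n) (Fin n) F) *ᵥ T x = T (g ⬝ₘ x) := fun g x => by
    have hre : ((glReindex (F := F) e.symm g : GL (Fin n) F) : Matrix (Fin n) (Fin n) F) =
        (g : Matrix κ κ F).submatrix e e := rfl
    rw [hTdef]
    simp only [φ, MulEquiv.trans_apply, MulAut.conj_apply, gl_mul_mulVec, gl_inv_mulVec_cancel]
    rw [hre, Matrix.submatrix_mulVec_equiv, Function.comp_assoc, Equiv.self_comp_symm, Function.comp_id]
  have hdet : ∀ g, φ g ∈ specialLinear (Fin n) F ↔ (g : Matrix κ κ F).det = 1 := fun g => by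
    rw [mem_specialLinear_iff]
    have : ((φ g : GL (Fin n) F) : Matrix (Fin n) (Fin n) F).det = (g : Matrix κ κ F).det := by
      simp only [φ, MulEquiv.trans_apply, MulAut.conj_apply, Units.val_mul, Matrix.det_units_conj]
      exact Matrix.det_reindexAlgEquiv F F e.symm _
    rw [this]
  have hGU : ∀ g, φ g ∈ GU n F q ↔ ∀ x y, tf σ fA fB (g ⬝ₘ x) (g ⬝ₘ y) = tf σ fA fB x y := fun g => by
    rw [mem_GU_iff]
    refine ⟨fun h x y => ?_, fun h u v => ?_⟩
    · have := h (T x) (T y)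
      rw [hφ, hφ, hTh, hTh] at this
      exact mul_left_cancel₀ hc₀ this
    · obtain ⟨x, rfl⟩ := hTsurj u
      obtain ⟨y, rfl⟩ := hTsurj v
      rw [hφ, hφ, hTh, hTh, h]
  have hkr : ∀ g, φ g ∈ tensorProductSubgroup n₁ n₂ e P ↔ g ∈ Kr (Fin n₁) (Fin n₂) F := fun g => by
    constructor
    · rintro ⟨y, ⟨x, ⟨a, b, hab⟩, rfl⟩, hy⟩
      have : φ x = φ g := hy
      rw [← φ.injective this]
      exact ⟨a, b, Units.ext hab⟩
    · rintro ⟨a, b, rfl⟩
      exact ⟨_, ⟨_, ⟨a, b, rfl⟩, rfl⟩, rfl⟩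
  have hTv : ∀ {g : GL κ F} {p : κ → F} {c : F}, (∀ x, g ⬝ₘ x = x + (c * tf σ fA fB x p) • p) →
      Cfsg.Agent.Classical.UOver.Tv q (φ g) (T p) (c / c₀) := fun {g p c} hg v => by
    obtain ⟨x, rfl⟩ := hTsurj v
    rw [hφ, hg, hTadd, hTh]
    congr 2
    field_simp
  refine ⟨lt_of_le_of_ne inf_le_right fun hEq => ?_, fun M hM hMS => ?_⟩
  · obtain ⟨u, -, hu, huu⟩ := UA.exists_iso (W := ⊤) (by rw [finrank_top, finrank_fintype_fun_eq_card, Fintype.card_fin]; omega)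
    obtain ⟨o, -, ho, hoo⟩ := UB.exists_iso (W := ⊤) (by rw [finrank_top, finrank_fintype_fun_eq_card, Fintype.card_fin]; omega)
    obtain ⟨c, hc, hskew⟩ := hσ.exists_skew
    haveI : Nonempty κ := ⟨(⟨0, by omega⟩, ⟨0, by omega⟩)⟩
    obtain ⟨g, -, -, hgx⟩ := Radical.exists_UF (reflex D) (v := tm u o) (y := 0) (c := c)
      (by rw [tf_tm D, huu, zero_mul]) ((reflex D).zero_left _)
      (by rw [(reflex D).zero_left, one_mul, one_mul, hskew, add_zero])
    have hg : ∀ x, g ⬝ₘ x = x + (c * tf σ fA fB x (tm u o)) • tm u o := fun x => by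
      rw [hgx, smul_zero, add_zero, (reflex D).zero_right, mul_zero, sub_zero]
    have hmem : φ g ∈ GU n F q ⊓ specialLinear (Fin n) F := Cfsg.Agent.Classical.UOver.tv_mem hσ
      (by rw [hTh, tf_tm D, huu, zero_mul, mul_zero])
      (by rw [map_div₀, hfix, ← add_div, hskew, zero_div]) (hTv hg)
    rw [← hEq] at hmem
    exact not_kr UA UB hu huu ho hoo hc hg ((hkr g).1 hmem.1)
  obtain ⟨X, hXdef⟩ : ∃ X, X = M.comap φ.toMonoidHom := ⟨_, rfl⟩
  have hX : ∀ g, g ∈ X ↔ φ g ∈ M := fun g => by rw [hXdef]; rfl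
  have H : UOver σ fA fB X := ⟨fun g hg => (hGU g).1 (hMS ((hX g).1 hg)).1, fun a t ha ht hda hdt => (hX _).2 (hM
    ⟨(hkr _).2 ⟨a, t, rfl⟩, (hGU _).2 (kr_iso D ha ht), (hdet _).2 (by
      rw [kr_val, Matrix.det_kronecker, hda, hdt, one_pow, one_pow, one_mul])⟩)⟩
  by_cases hS : Seed fA fB X
  · refine Or.inr (le_antisymm hMS ?_)
    refine Cfsg.Agent.Classical.UOver.suGL_le hσ (by omega) fun v c hv hc g hg => ?_
    obtain ⟨p, rfl⟩ := hTsurj v
    rw [hTh] at hv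
    obtain ⟨g', rfl⟩ := φ.surjective g
    refine (hX g').1 (hasT_every hσ UA UB H hS h1 (by omega) ((mul_eq_zero.mp hv).resolve_left hc₀) (c * c₀) g' ?_ fun x => ?_)
    · rw [map_mul, hfix, ← add_mul, hc, zero_mul]
    · refine hTinj ?_
      rw [← hφ, hg, hTh, hTadd]
      congr 2
      ring
  · refine Or.inl (le_antisymm (fun g hg => ?_) hM)
    have hex' : (∃ θ : F, σ θ = θ ∧ θ ≠ 0 ∧ θ ≠ 1) ∨ 3 ≤ Fintype.card (Fin n₁) := by
      rw [Fintype.card_fin]
      rcases Nat.lt_or_ge n₁ 3 with h | h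
      · exact Or.inl (exists_fixed hσ fun hq => hex ⟨by omega, hq⟩)
      · exact Or.inr h
    have O : Over σ fA fB X := toOver UA UB H hex' (by rwa [Fintype.card_fin]) hS
    obtain ⟨g', rfl⟩ := φ.surjective g
    refine ⟨(hkr g').2 ?_, hMS hg⟩
    rcases h5 with h5 | ⟨e1, e2⟩
    swap
    · subst e1 e2
      exact le_kr_three UA UB O (by have := hσ.two_le; omega) ((hX g').2 hg)
    have S : UCtx q σ fA fB X := ⟨UA, UB, O, h1, h12, h5⟩
    refine le_kr S.data O (UB.nice (by rw [Fintype.card_fin]; exact h5)) h1 h12 (fun u v => ?_)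
      (fun k hk a o _ => S.pure hk a o) ((hX g').2 hg)
    obtain ⟨W, hW, hWs⟩ := UB.exists_perp ![u, v]
    rw [Fintype.card_fin] at hW
    obtain ⟨o, ho, ho0, hoo⟩ := UB.exists_iso (W := W) (by omega)
    exact ⟨o, ho0, hoo, UB.refl.eq_zero_swap (hWs o ho 0), UB.refl.eq_zero_swap (hWs o ho 1)⟩

end Cfsg.Agent.Classical.TensorMax.Form
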